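import Cfsg.Agent.Lib.Helper15.SylowNormal
import Cfsg.Agent.Lib.Helper81.Cores

set_option autoImplicit false

namespace Cfsg.Agent.Lib.Helper15

open scoped Pointwise
open scoped commutatorElement

universe u

variable {G : Type u} [Group G]

theorem isPGroup_inf_coprime_eq_bot [Finite G] {p : ℕ} [Fact p.Prime] {X N : Subgroup G}
    (hX : IsPGroup p X) (hN : (Nat.card N).Coprime p) : X ⊓ N = ⊥ := by
  apply disjoint_iff.mp
  apply Subgroup.disjoint_of_coprime_natCard
  obtain ⟨n, hn⟩ := IsPGroup.iff_card.mp hX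
  rw [hn]
  exact (Nat.Coprime.pow_left n (Nat.coprime_comm.mp hN))

theorem not_dvd_relIndex_sup_of_coprime [Finite G] {p : ℕ} [Fact p.Prime] {X N : Subgroup G}
    [N.Normal] (hN : (Nat.card N).Coprime p) (Y : Subgroup G) (hY : Y ≤ X ⊔ N)
    (hcard : Nat.card Y = Nat.card X) : ¬ p ∣ Y.relIndex (X ⊔ N) := by
  intro hdvd
  have h1 : Y.relIndex (X ⊔ N) * Nat.card Y = Nat.card (X ⊔ N : Subgroup G) := by
    have := Subgroup.index_mul_card (Y.subgroupOf (X ⊔ N))
    rwa [card_subgroupOf_of_le hY] at this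
  have h2 : Nat.card (X ⊔ N : Subgroup G) ∣ Nat.card N * Nat.card X :=
    Cfsg.Agent.Lib.Helper81.card_sup_dvd_of_normal X N
  rw [← h1, hcard] at h2
  have h3 : Y.relIndex (X ⊔ N) ∣ Nat.card N :=
    Nat.dvd_of_mul_dvd_mul_right Nat.card_pos h2
  have h4 : p ∣ Nat.card N := hdvd.trans h3
  have h5 := Nat.Coprime.eq_one_of_dvd (Nat.coprime_comm.mp hN) h4
  exact (Fact.out : p.Prime).one_lt.ne' h5

/-- coprime lifting of normalizers: `N_{G/N}(XN/N) = N_G(X)N/N` for a p-subgroup `X` and a normal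
p'-subgroup `N` -/
theorem normalizer_map_mk_of_coprime [Finite G] {p : ℕ} [Fact p.Prime] (N : Subgroup G)
    [N.Normal] (hN : (Nat.card N).Coprime p) (X : Subgroup G) (hX : IsPGroup p X) :
    Subgroup.normalizer ((X.map (QuotientGroup.mk' N) : Subgroup (G ⧸ N)) : Set (G ⧸ N)) =
      (Subgroup.normalizer (X : Set G)).map (QuotientGroup.mk' N) := by
  apply le_antisymm
  · intro y hy
    obtain ⟨g, rfl⟩ := QuotientGroup.mk'_surjective N y
    set M : Subgroup G := X ⊔ N with hM
    have hXM : X ≤ M := le_sup_left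
    set Xg : Subgroup G := X.map (MulAut.conj g).toMonoidHom with hXg
    have hXgM : Xg ≤ M := by
      rintro _ ⟨x, hx, rfl⟩
      have h1 : QuotientGroup.mk' N ((MulAut.conj g).toMonoidHom x) ∈ X.map (QuotientGroup.mk' N) := by
        have := (Subgroup.mem_normalizer_iff.mp hy (QuotientGroup.mk' N x)).mp
          (Subgroup.mem_map_of_mem _ hx)
        simpa using this
      have h2 : (MulAut.conj g).toMonoidHom x ∈ (X.map (QuotientGroup.mk' N)).comap (QuotientGroup.mk' N) :=
        h1
      rw [Subgroup.comap_map_eq, QuotientGroup.ker_mk'] at h2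
      exact h2
    have hcardg : Nat.card Xg = Nat.card X :=
      Subgroup.card_map_of_injective (MulAut.conj g).injective
    have hXgp : IsPGroup p Xg := hX.map _
    have hp1 : IsPGroup p (X.subgroupOf M) := hX.comap_subtype
    have hp2 : IsPGroup p (Xg.subgroupOf M) := hXgp.comap_subtype
    have hi1 : ¬ p ∣ (X.subgroupOf M).index := not_dvd_relIndex_sup_of_coprime hN X hXM rfl
    have hi2 : ¬ p ∣ (Xg.subgroupOf M).index := not_dvd_relIndex_sup_of_coprime hN Xg hXgM hcardg
    obtain ⟨m, hm⟩ := MulAction.exists_smul_eq M (hp1.toSylow hi1) (hp2.toSylow hi2)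
    have hm' : (X.subgroupOf M).map (MulAut.conj m).toMonoidHom = Xg.subgroupOf M := by
      have := congrArg (fun P : Sylow p M => (P : Subgroup M)) hm
      simp only [Sylow.coe_subgroup_smul, IsPGroup.toSylow_coe] at this
      exact this
    -- translate to G
    have hXmap : X.map (MulAut.conj (m : G)).toMonoidHom = Xg := by
      apply le_antisymm
      · rintro _ ⟨x, hx, rfl⟩
        have h1 : (MulAut.conj m).toMonoidHom ⟨x, hXM hx⟩ ∈ Xg.subgroupOf M := by
          rw [← hm']
          exact Subgroup.mem_map_of_mem _ (Subgroup.mem_subgroupOf.mpr hx)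
        rw [Subgroup.mem_subgroupOf] at h1
        simpa using h1
      · intro z hz
        have h1 : (⟨z, hXgM hz⟩ : M) ∈ Xg.subgroupOf M := Subgroup.mem_subgroupOf.mpr hz
        rw [← hm'] at h1
        obtain ⟨x, hx, hxz⟩ := h1
        refine ⟨(x : G), Subgroup.mem_subgroupOf.mp hx, ?_⟩
        have := congrArg Subtype.val hxz
        simpa using this
    have hh : (m : G)⁻¹ * g ∈ Subgroup.normalizer (X : Set G) := by
      apply mem_normalizer_of_map_conj_eq
      ext z
      constructor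
      · rintro ⟨x, hx, rfl⟩
        have h1 : (MulAut.conj g).toMonoidHom x ∈ Xg := Subgroup.mem_map_of_mem _ hx
        rw [← hXmap] at h1
        obtain ⟨x', hx', hxx⟩ := h1
        have : (MulAut.conj ((m : G)⁻¹ * g)).toMonoidHom x = x' := by
          have h2 : (m : G) * x' * (m : G)⁻¹ = g * x * g⁻¹ := by simpa using hxx
          have h3 : x' = (m : G)⁻¹ * (g * x * g⁻¹) * (m : G) := by rw [← h2]; group
          rw [h3]; simp [mul_assoc]
        rw [this]; exact hx'
      · intro hz
        have h1 : (MulAut.conj (m : G)).toMonoidHom z ∈ Xg := by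
          rw [← hXmap]; exact Subgroup.mem_map_of_mem _ hz
        obtain ⟨x, hx, hxz⟩ := h1
        refine ⟨x, hx, ?_⟩
        have h2 : g * x * g⁻¹ = (m : G) * z * (m : G)⁻¹ := by simpa using hxz
        have h3 : z = (m : G)⁻¹ * (g * x * g⁻¹) * (m : G) := by rw [h2]; group
        rw [h3]; simp [mul_assoc]
    -- decompose m
    have hmM : (m : G) ∈ X ⊔ N := m.2
    obtain ⟨x, hx, n', hn', hxn⟩ := Subgroup.mem_sup_of_normal_right.mp hmM
    refine ⟨x * ((m : G)⁻¹ * g), ?_, ?_⟩
    · exact Subgroup.mul_mem _ (Subgroup.le_normalizer hx) hh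
    · have h1 : QuotientGroup.mk' N n' = 1 := (QuotientGroup.eq_one_iff n').mpr hn'
      have h2 : g = x * n' * ((m : G)⁻¹ * g) := by rw [hxn]; group
      conv_rhs => rw [h2]
      simp only [map_mul, h1, mul_one]
  · exact Subgroup.le_normalizer_map _

/-- coprime lifting of centralizers: `C_{G/N}(XN/N) = C_G(X)N/N` -/
theorem centralizer_map_mk_of_coprime [Finite G] {p : ℕ} [Fact p.Prime] (N : Subgroup G)
    [N.Normal] (hN : (Nat.card N).Coprime p) (X : Subgroup G) (hX : IsPGroup p X) :
    Subgroup.centralizer ((X.map (QuotientGroup.mk' N) : Subgroup (G ⧸ N)) : Set (G ⧸ N)) =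
      (Subgroup.centralizer (X : Set G)).map (QuotientGroup.mk' N) := by
  apply le_antisymm
  · intro y hy
    have hy' : y ∈ Subgroup.normalizer ((X.map (QuotientGroup.mk' N) : Subgroup (G ⧸ N)) : Set (G ⧸ N)) :=
      Subgroup.centralizer_le_normalizer _ hy
    rw [normalizer_map_mk_of_coprime N hN X hX] at hy'
    obtain ⟨h, hh, rfl⟩ := hy'
    refine ⟨h, ?_, rfl⟩
    rw [SetLike.mem_coe, Subgroup.mem_centralizer_iff]
    intro x hx
    have h1 : h * x * h⁻¹ ∈ X := (Subgroup.mem_normalizer_iff.mp hh x).mp hx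
    have h2 : h * x * h⁻¹ * x⁻¹ ∈ X := X.mul_mem h1 (X.inv_mem hx)
    have h3 : h * x * h⁻¹ * x⁻¹ ∈ N := by
      rw [← QuotientGroup.eq_one_iff]
      have hc := Subgroup.mem_centralizer_iff.mp hy (QuotientGroup.mk' N x)
        (Subgroup.mem_map_of_mem _ hx)
      have : ((h * x * h⁻¹ * x⁻¹ : G) : G ⧸ N) =
          (QuotientGroup.mk' N h) * (QuotientGroup.mk' N x) * (QuotientGroup.mk' N h)⁻¹ *
            (QuotientGroup.mk' N x)⁻¹ := by simp
      rw [this, ← hc]; group
    have h4 : h * x * h⁻¹ * x⁻¹ ∈ X ⊓ N := ⟨h2, h3⟩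
    rw [isPGroup_inf_coprime_eq_bot hX hN, Subgroup.mem_bot] at h4
    have : h * x = x * h := by
      have h5 : h * x * h⁻¹ * x⁻¹ * (x * h) = x * h := by rw [h4, one_mul]
      rw [← h5]; group
    exact this.symm
  · have := Subgroup.map_centralizer_le_centralizer_image (X : Set G) (QuotientGroup.mk' N)
    simpa using this

end Cfsg.Agent.Lib.Helper15
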