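import Mathlib
import Cfsg.Prelude.Def_OddOrderLocal
import Cfsg.Agent.Lib.Helper55.SylowIn
import Cfsg.Agent.Lib.Helper31.BG134Defs2

/-!
# BG Theorem 13.9 (S1378, the sigma-partition): shared definitions for the keystone pack

Paper proof: `notes/BG13_9_proof_helper15.md`.  Spec of the leaves: `notes/S1378_keystones.lean.txt`.
-/

set_option autoImplicit false

namespace Cfsg.Agent.Lib.Helper15.BG139

open Cfsg Cfsg.Agent.Lib.Helper55 Cfsg.Agent.Lib.Helper31.BG134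

variable {G : Type*} [Group G] [Finite G]

/-- the statement of S1428 (BG 13.4) for all maximal subgroups -/
def H1428 (G : Type*) [Group G] [Finite G] : Prop :=
  ∀ (M : Subgroup G), IsCoatom M → ∀ (E : Subgroup G), IsComplIn E (sigmaCore M) M →
    ∀ (p : ℕ), p ∈ tau1 M → ∀ (P : Subgroup G), P ≤ E → Nat.card P = p →
      ∀ (R : Subgroup G), R ≤ E ⊓ Subgroup.centralizer (P : Set G) → (Nat.card R).Prime →
        sigmaCore M ⊓ Subgroup.centralizer (P : Set G) ≤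
          sigmaCore M ⊓ Subgroup.centralizer (R : Set G)

/-- BG 13.5: `E₁` acts on `M_σ` in a prime manner -/
def PrimeAct (M E₁ : Subgroup G) : Prop :=
  ∀ x ∈ E₁, x ≠ 1 →
    sigmaCore M ⊓ Subgroup.centralizer ({x} : Set G) ≤ Subgroup.centralizer (E₁ : Set G)

/-- the consequence of steps 0-9 of the proof of BG 13.9 that is used again in part II -/
def SigmaTau (G : Type*) [Group G] [Finite G] : Prop :=
  ∀ (M L : Subgroup G), IsCoatom M → IsCoatom L → (∀ g : G, cj g M ≠ L) →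
    ∀ q : ℕ, q ∈ sigma M → q ∈ sigma L → ∀ r : ℕ, r ∈ tau1 M → r ∉ sigma L

/-- the configuration of a counterexample to BG 13.9: `p ∈ σ(M) ∩ σ(N)`, `M`, `N` not conjugate,
`S` a Sylow `p`-subgroup of `G` with `N_G(S) ≤ M ∩ N`. -/
structure Cfg (M N S : Subgroup G) (p : ℕ) : Prop where
  hG : IsMinSimpleOddOrder G
  hM : IsCoatom M
  hN : IsCoatom N
  hnc : ∀ g : G, cj g M ≠ N
  hpM : p ∈ sigma M
  hpN : p ∈ sigma N
  hS : IsSylowIn p ⊤ S
  hNS : Subgroup.normalizer (S : Set G) ≤ M ⊓ N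

theorem Cfg.symm {M N S : Subgroup G} {p : ℕ} (c : Cfg M N S p) : Cfg N M S p where
  hG := c.hG
  hM := c.hN
  hN := c.hM
  hnc := by
    intro g hg
    apply c.hnc g⁻¹
    rw [← hg, cj_inv_cj]
  hpM := c.hpN
  hpN := c.hpM
  hS := c.hS
  hNS := by rw [inf_comm]; exact c.hNS

/-- the structure of a complement `E ≤ N_M(S)` of `M_σ` in the configuration `Cfg` -/
structure Str (M S E E₁ E₃ : Subgroup G) : Prop where
  hE : IsComplIn E (sigmaCore M) M
  hES : E ≤ Subgroup.normalizer (S : Set G)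
  hE₁ : IsPiHallOf (tau1 M) E₁ E
  hE₁c : IsCyclic E₁
  hE₃ : IsPiHallOf (tau3 M) E₃ E
  hE₃c : IsCyclic E₃
  hE₃d : E₃ ≤ ⁅E, E⁆
  hE₃n : E ≤ Subgroup.normalizer (E₃ : Set G)
  hfac : ∀ x ∈ E, ∃ a ∈ E₃, ∃ b ∈ E₁, x = a * b
  hE₃S : E₃ ≤ Subgroup.centralizer (S : Set G)
  hfix : S ⊓ Subgroup.centralizer (E₁ : Set G) = ⊥

/-- the output of part I for one of the two maximal subgroups: `P` of prime order `r`,
`τ₁(M) = {r}`, `C := C_{M_σ}(P) ≠ 1` is a `β(M)`-group and `N_M(P) = C × P`. -/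
structure POut (M P : Subgroup G) (r : ℕ) : Prop where
  hG : IsMinSimpleOddOrder G
  hM : IsCoatom M
  hPM : P ≤ M
  hPc : Nat.card P = r
  hr1 : r ∈ tau1 M
  huniq : ∀ u : ℕ, u ∈ tau1 M → u = r
  hC1 : CP M P ≠ ⊥
  hCβ : ∀ q : ℕ, q.Prime → q ∣ Nat.card ↥(CP M P) → q ∈ beta M
  hNP : M ⊓ Subgroup.normalizer (P : Set G) ≤ CP M P ⊔ P

/-- part II: `H` a maximal subgroup containing `N_G(P)` -/
structure Loc (M P H : Subgroup G) (r : ℕ) : Prop where
  o : POut M P r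
  hH : IsCoatom H
  hNH : Subgroup.normalizer (P : Set G) ≤ H
  hnc : ∀ g : G, cj g M ≠ H
  hσ : ∀ q : ℕ, q ∈ sigma H → q ∉ sigma M
  hC : sigmaCore M ⊓ H = CP M P

end Cfsg.Agent.Lib.Helper15.BG139
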