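import Cfsg.Agent.Lib.Helper15.Thompson

set_option autoImplicit false

namespace Cfsg.Agent.Lib.Helper15

open scoped Pointwise

universe u

variable {G : Type u} [Group G]

theorem isElementaryAbelian_subgroupOf {p : ℕ} {A : Subgroup G} (P : Subgroup G)
    (hA : Cfsg.IsElementaryAbelian p A) : Cfsg.IsElementaryAbelian p (A.subgroupOf P) := by
  obtain ⟨hc, he⟩ := hA
  refine ⟨Subgroup.subgroupOf_isMulCommutative P A, ?_⟩
  intro a ha
  rw [Subgroup.mem_subgroupOf] at ha
  apply Subtype.ext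
  simpa using he _ ha

theorem IsElementaryAbelian.isPGroup {p : ℕ} {A : Subgroup G}
    (hA : Cfsg.IsElementaryAbelian p A) : IsPGroup p A := by
  intro a
  refine ⟨1, ?_⟩
  apply Subtype.ext
  simpa using hA.2 _ a.2

theorem card_subgroupOf_of_le {A P : Subgroup G} (h : A ≤ P) :
    Nat.card (A.subgroupOf P) = Nat.card A :=
  Nat.card_congr (Subgroup.subgroupOfEquivOfLe h).toEquiv

/-- elementary abelian subgroups inside `P` of largest order among those inside `P` -/
def maxElemIn (p : ℕ) (P : Subgroup G) : Set (Subgroup G) :=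
  {A | A ≤ P ∧ Cfsg.IsElementaryAbelian p A ∧
    ∀ B : Subgroup G, B ≤ P → Cfsg.IsElementaryAbelian p B → Nat.card B ≤ Nat.card A}

theorem map_subtype_mem_maxElemIn {p : ℕ} {P : Subgroup G} {A' : Subgroup P}
    (hA' : A' ∈ Cfsg.maxElementaryAbelianSubgroups p P) : A'.map P.subtype ∈ maxElemIn p P := by
  refine ⟨Subgroup.map_subtype_le A', isElementaryAbelian_map _ hA'.1, ?_⟩
  intro B hBP hB
  have := hA'.2 (B.subgroupOf P) (isElementaryAbelian_subgroupOf P hB)
  rw [card_subgroupOf_of_le hBP] at this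
  rw [Subgroup.card_map_of_injective P.subtype_injective]
  exact this

theorem subgroupOf_mem_maxElem {p : ℕ} {P : Subgroup G} {A : Subgroup G}
    (hA : A ∈ maxElemIn p P) : A.subgroupOf P ∈ Cfsg.maxElementaryAbelianSubgroups p P := by
  obtain ⟨hAP, hAe, hAm⟩ := hA
  refine ⟨isElementaryAbelian_subgroupOf P hAe, ?_⟩
  intro B' hB'
  have := hAm (B'.map P.subtype) (Subgroup.map_subtype_le B') (isElementaryAbelian_map _ hB')
  rw [Subgroup.card_map_of_injective P.subtype_injective] at this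
  rw [card_subgroupOf_of_le hAP]
  exact this

theorem thompsonSubgroupOf_eq (p : ℕ) (P : Subgroup G) :
    Cfsg.thompsonSubgroupOf p P = sSup (maxElemIn p P) := by
  unfold Cfsg.thompsonSubgroupOf Cfsg.thompsonSubgroup
  apply le_antisymm
  · rw [Subgroup.map_le_iff_le_comap]
    apply sSup_le
    intro A' hA'
    rw [← Subgroup.map_le_iff_le_comap]
    exact le_sSup (map_subtype_mem_maxElemIn hA')
  · apply sSup_le
    intro A hA
    rw [← Subgroup.map_subgroupOf_eq_of_le hA.1]
    exact Subgroup.map_mono (le_sSup (subgroupOf_mem_maxElem hA))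

theorem thompsonSubgroupOf_le (p : ℕ) (P : Subgroup G) : Cfsg.thompsonSubgroupOf p P ≤ P := by
  unfold Cfsg.thompsonSubgroupOf
  exact Subgroup.map_subtype_le _

theorem maxElemIn_nonempty [Finite G] (p : ℕ) (P : Subgroup G) : (maxElemIn p P).Nonempty := by
  haveI : Nonempty {A : Subgroup G // A ≤ P ∧ Cfsg.IsElementaryAbelian p A} :=
    ⟨⟨⊥, bot_le, isElementaryAbelian_bot p⟩⟩
  obtain ⟨A, hA⟩ := Finite.exists_max
    (fun A : {A : Subgroup G // A ≤ P ∧ Cfsg.IsElementaryAbelian p A} => Nat.card (A : Subgroup G))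
  exact ⟨A.1, A.2.1, A.2.2, fun B hBP hB => hA ⟨B, hBP, hB⟩⟩

theorem map_mem_maxElemIn {G' : Type u} [Group G'] {p : ℕ} (φ : G ≃* G') {P A : Subgroup G}
    (hA : A ∈ maxElemIn p P) : A.map φ.toMonoidHom ∈ maxElemIn p (P.map φ.toMonoidHom) := by
  obtain ⟨hAP, hAe, hAm⟩ := hA
  refine ⟨Subgroup.map_mono hAP, isElementaryAbelian_map _ hAe, ?_⟩
  intro B hBP hB
  have h1 : B.map φ.symm.toMonoidHom ≤ P := by
    have := Subgroup.map_mono (f := φ.symm.toMonoidHom) hBP
    have h2 : (P.map φ.toMonoidHom).map φ.symm.toMonoidHom = P := map_symm_map φ.symm P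
    rwa [h2] at this
  have := hAm _ h1 (isElementaryAbelian_map _ hB)
  rw [Subgroup.card_map_of_injective φ.symm.injective] at this
  rw [Subgroup.card_map_of_injective φ.injective]
  exact this

theorem thompsonSubgroupOf_map {G' : Type u} [Group G'] (p : ℕ) (φ : G ≃* G') (P : Subgroup G) :
    (Cfsg.thompsonSubgroupOf p P).map φ.toMonoidHom =
      Cfsg.thompsonSubgroupOf p (P.map φ.toMonoidHom) := by
  rw [thompsonSubgroupOf_eq, thompsonSubgroupOf_eq]
  apply le_antisymm
  · rw [Subgroup.map_le_iff_le_comap]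
    apply sSup_le
    intro A hA
    rw [← Subgroup.map_le_iff_le_comap]
    exact le_sSup (map_mem_maxElemIn φ hA)
  · apply sSup_le
    intro B hB
    have := map_mem_maxElemIn φ.symm hB
    have h2 : (P.map φ.toMonoidHom).map φ.symm.toMonoidHom = P := map_symm_map φ.symm P
    rw [h2] at this
    rw [← map_symm_map φ B]
    exact Subgroup.map_mono (le_sSup this)

/-- `J(S) ≤ Q ≤ S` implies `J(Q) = J(S)` -/
theorem thompsonSubgroupOf_eq_of_le [Finite G] (p : ℕ) {Q S : Subgroup G} (hQS : Q ≤ S)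
    (hJ : Cfsg.thompsonSubgroupOf p S ≤ Q) :
    Cfsg.thompsonSubgroupOf p Q = Cfsg.thompsonSubgroupOf p S := by
  have hJ' := hJ
  rw [thompsonSubgroupOf_eq] at hJ'
  obtain ⟨A₀, hA₀⟩ := maxElemIn_nonempty p S
  have hA₀Q : A₀ ≤ Q := (le_sSup hA₀).trans hJ'
  have hset : maxElemIn p Q = maxElemIn p S := by
    ext A
    constructor
    · rintro ⟨hAQ, hAe, hAm⟩
      refine ⟨hAQ.trans hQS, hAe, ?_⟩
      intro B hBS hB
      exact (hA₀.2.2 B hBS hB).trans (hAm A₀ hA₀Q hA₀.2.1)
    · intro hA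
      refine ⟨(le_sSup hA).trans hJ', hA.2.1, ?_⟩
      intro B hBQ hB
      exact hA.2.2 B (hBQ.trans hQS) hB
  rw [thompsonSubgroupOf_eq, thompsonSubgroupOf_eq, hset]

theorem conj_map_eq_smul (g : G) (K : Subgroup G) :
    K.map (MulAut.conj g).toMonoidHom = MulAut.conj g • K := rfl

/-- for a Sylow subgroup, the largest elementary abelian subgroups inside it are largest in `G` -/
theorem maxElemIn_sylow_subset [Finite G] {p : ℕ} [Fact p.Prime] (S : Sylow p G) {A : Subgroup G}
    (hA : A ∈ maxElemIn p (S : Subgroup G)) : A ∈ Cfsg.maxElementaryAbelianSubgroups p G := by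
  obtain ⟨hAS, hAe, hAm⟩ := hA
  refine ⟨hAe, ?_⟩
  intro B hB
  obtain ⟨T, hBT⟩ := (IsElementaryAbelian.isPGroup hB).exists_le_sylow
  obtain ⟨g, hg⟩ := MulAction.exists_smul_eq G T S
  have h1 : B.map (MulAut.conj g).toMonoidHom ≤ (S : Subgroup G) := by
    rw [← hg, Sylow.coe_subgroup_smul, ← conj_map_eq_smul]
    exact Subgroup.map_mono hBT
  have := hAm _ h1 (isElementaryAbelian_map _ hB)
  rwa [Subgroup.card_map_of_injective (MulAut.conj g).injective] at this

theorem mem_maxElemIn_of_le {p : ℕ} {P A : Subgroup G}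
    (hA : A ∈ Cfsg.maxElementaryAbelianSubgroups p G) (hAP : A ≤ P) : A ∈ maxElemIn p P :=
  ⟨hAP, hA.1, fun B _ hB => hA.2 B hB⟩

theorem thompsonSubgroupOf_sylow_le [Finite G] {p : ℕ} [Fact p.Prime] (S : Sylow p G) :
    Cfsg.thompsonSubgroupOf p (S : Subgroup G) ≤ Cfsg.thompsonSubgroup p G := by
  rw [thompsonSubgroupOf_eq]
  apply sSup_le
  intro A hA
  exact le_sSup (maxElemIn_sylow_subset S hA)

theorem exists_sylow_le_thompsonSubgroupOf [Finite G] {p : ℕ} [Fact p.Prime] {A : Subgroup G}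
    (hA : A ∈ Cfsg.maxElementaryAbelianSubgroups p G) :
    ∃ S : Sylow p G, A ≤ Cfsg.thompsonSubgroupOf p (S : Subgroup G) := by
  obtain ⟨S, hAS⟩ := (IsElementaryAbelian.isPGroup hA.1).exists_le_sylow
  refine ⟨S, ?_⟩
  rw [thompsonSubgroupOf_eq]
  exact le_sSup (mem_maxElemIn_of_le hA hAS)

theorem mem_normalizer_of_map_conj_eq {K : Subgroup G} {n : G}
    (h : K.map (MulAut.conj n).toMonoidHom = K) : n ∈ Subgroup.normalizer (K : Set G) := by
  rw [Subgroup.mem_normalizer_iff]
  intro x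
  constructor
  · intro hx
    have : (MulAut.conj n).toMonoidHom x ∈ K.map (MulAut.conj n).toMonoidHom :=
      Subgroup.mem_map_of_mem _ hx
    rw [h] at this
    simpa using this
  · intro hx
    rw [← h] at hx
    obtain ⟨y, hy, hyx⟩ := hx
    have : y = x := by
      have h2 : n * y * n⁻¹ = n * x * n⁻¹ := by simpa using hyx
      have h3 := mul_right_cancel h2
      exact mul_left_cancel h3
    rwa [← this]

theorem map_conj_eq_of_mem_normalizer {K : Subgroup G} {n : G}
    (h : n ∈ Subgroup.normalizer (K : Set G)) : K.map (MulAut.conj n).toMonoidHom = K := by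
  ext x
  rw [Subgroup.mem_normalizer_iff] at h
  constructor
  · rintro ⟨y, hy, rfl⟩
    have := (h y).mp hy
    simpa using this
  · intro hx
    refine ⟨n⁻¹ * x * n, (h _).mpr ?_, by simp [mul_assoc]⟩
    simpa [mul_assoc] using hx

/-- the normalizer of `Q` normalizes `J(Q)` -/
theorem normalizer_le_normalizer_thompsonSubgroupOf (p : ℕ) (Q : Subgroup G) :
    Subgroup.normalizer (Q : Set G) ≤
      Subgroup.normalizer (Cfsg.thompsonSubgroupOf p Q : Set G) := by
  intro n hn
  apply mem_normalizer_of_map_conj_eq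
  rw [thompsonSubgroupOf_map, map_conj_eq_of_mem_normalizer hn]

end Cfsg.Agent.Lib.Helper15
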