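import Cfsg.Agent.Lib.Helper15.ThompsonOf

set_option autoImplicit false

namespace Cfsg.Agent.Lib.Helper15

universe u

section

variable {G H : Type*} [Group G] [Group H]

theorem omegaOne_map_of_disjoint (p : ℕ) (f : G →* H) (K : Subgroup G) (hK : K ⊓ f.ker = ⊥) :
    (Cfsg.omegaOne p K).map f = Cfsg.omegaOne p (K.map f) := by
  unfold Cfsg.omegaOne
  rw [MonoidHom.map_closure]
  congr 1
  ext y
  constructor
  · rintro ⟨x, ⟨hx, hxp⟩, rfl⟩
    exact ⟨Subgroup.mem_map_of_mem f hx, by rw [← map_pow, hxp, map_one]⟩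
  · rintro ⟨⟨x, hx, rfl⟩, hxp⟩
    refine ⟨x, ⟨hx, ?_⟩, rfl⟩
    have h1 : x ^ p ∈ K ⊓ f.ker := by
      rw [Subgroup.mem_inf]
      refine ⟨K.pow_mem hx p, ?_⟩
      rw [MonoidHom.mem_ker, map_pow, hxp]
    rwa [hK, Subgroup.mem_bot] at h1

theorem map_inf_centralizer_of_disjoint (f : G →* H) (K : Subgroup G) (hK : K ⊓ f.ker = ⊥) :
    (K ⊓ Subgroup.centralizer (K : Set G)).map f =
      K.map f ⊓ Subgroup.centralizer ((K.map f : Subgroup H) : Set H) := by
  ext y
  rw [Subgroup.mem_map, Subgroup.mem_inf, Subgroup.mem_map]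
  constructor
  · rintro ⟨x, hx, rfl⟩
    rw [Subgroup.mem_inf] at hx
    obtain ⟨hxK, hxC⟩ := hx
    refine ⟨⟨x, hxK, rfl⟩, ?_⟩
    rw [Subgroup.mem_centralizer_iff]
    intro z hz
    rw [SetLike.mem_coe, Subgroup.mem_map] at hz
    obtain ⟨k, hk, rfl⟩ := hz
    rw [← map_mul, ← map_mul, Subgroup.mem_centralizer_iff.mp hxC k hk]
  · rintro ⟨⟨x, hxK, rfl⟩, hC⟩
    refine ⟨x, ?_, rfl⟩
    rw [Subgroup.mem_inf]
    refine ⟨hxK, ?_⟩
    rw [Subgroup.mem_centralizer_iff]
    intro k hk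
    have h1 := Subgroup.mem_centralizer_iff.mp hC (f k) (Subgroup.mem_map_of_mem f hk)
    have h2 : (k * x) * (x * k)⁻¹ ∈ K ⊓ f.ker := by
      rw [Subgroup.mem_inf]
      refine ⟨K.mul_mem (K.mul_mem hk hxK) (K.inv_mem (K.mul_mem hxK hk)), ?_⟩
      rw [MonoidHom.mem_ker, map_mul, map_inv, map_mul, map_mul, h1]
      simp
    rw [hK, Subgroup.mem_bot] at h2
    exact mul_inv_eq_one.mp h2

end

variable {G G' : Type u} [Group G] [Group G']

/-- the Thompson subgroup of a subgroup is carried by a homomorphism injective on it -/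
theorem thompsonSubgroupOf_map_of_disjoint (p : ℕ) (f : G →* G') (S : Subgroup G)
    (hS : S ⊓ f.ker = ⊥) :
    (Cfsg.thompsonSubgroupOf p S).map f = Cfsg.thompsonSubgroupOf p (S.map f) := by
  have hinj : Function.Injective (f.subgroupMap S) := by
    rw [← MonoidHom.ker_eq_bot_iff, Subgroup.ker_subgroupMap]
    rw [Subgroup.subgroupOf_eq_bot, disjoint_iff, inf_comm]
    exact hS
  have hbij : Function.Bijective (f.subgroupMap S) := ⟨hinj, f.subgroupMap_surjective S⟩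
  have h1 := thompsonSubgroup_map p (MulEquiv.ofBijective (f.subgroupMap S) hbij)
  have h2 : (MulEquiv.ofBijective (f.subgroupMap S) hbij).toMonoidHom = f.subgroupMap S := rfl
  rw [h2] at h1
  unfold Cfsg.thompsonSubgroupOf
  rw [← h1, Subgroup.map_map, Subgroup.map_map]
  rfl

end Cfsg.Agent.Lib.Helper15
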