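import Mathlib
import Cfsg.Prelude.Def_Transfer
import Cfsg.Agent.Lib.Helper15.ThompsonOf
import Cfsg.Agent.Lib.Helper81.Cores

set_option autoImplicit false

/-!
# Fixed-point-free endomorphisms of finite period: basic API

`IsFpfPer q φ` : `φ : G →* G` is fixed-point-free and `φ^[q] = id`.
Restriction to stable subgroups, quotients by stable normal subgroups, stable Sylow subgroups,
stability of normalizers, centralizers, characteristic subgroups.
-/

namespace Cfsg.Agent.Lib.Helper15

universe u

open Cfsg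

section FPF

variable {G : Type u} [Group G]

/-- A fixed-point-free endomorphism with `φ^[q] = id`. -/
structure IsFpfPer (q : ℕ) (φ : G →* G) : Prop where
  fpf : MonoidHom.FixedPointFree φ
  per : ∀ g, φ^[q] g = g

/-- `H` is stable under `φ`. -/
def Stable (φ : G →* G) (H : Subgroup G) : Prop := ∀ x ∈ H, φ x ∈ H

/-- restriction of an endomorphism to a stable subgroup -/
def resHom (φ : G →* G) (H : Subgroup G) (hH : Stable φ H) : H →* H :=
  (φ.comp H.subtype).codRestrict H (fun x => hH x x.2)

theorem resHom_coe (φ : G →* G) (H : Subgroup G) (hH : Stable φ H) (x : H) :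
    ((resHom φ H hH x : H) : G) = φ x := rfl

theorem resHom_iterate (φ : G →* G) (H : Subgroup G) (hH : Stable φ H) (k : ℕ) (x : H) :
    (((resHom φ H hH)^[k] x : H) : G) = φ^[k] x := by
  induction k generalizing x with
  | zero => rfl
  | succ k ih =>
    rw [Function.iterate_succ_apply, Function.iterate_succ_apply, ih]
    rfl

/-- induced endomorphism on the quotient by a stable normal subgroup -/
def quotHom (φ : G →* G) (N : Subgroup G) [N.Normal] (hN : Stable φ N) : G ⧸ N →* G ⧸ N :=
  QuotientGroup.map N N φ (fun x hx => hN x hx)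

theorem quotHom_mk (φ : G →* G) (N : Subgroup G) [N.Normal] (hN : Stable φ N) (g : G) :
    quotHom φ N hN (g : G ⧸ N) = ((φ g : G) : G ⧸ N) := rfl

theorem quotHom_iterate (φ : G →* G) (N : Subgroup G) [N.Normal] (hN : Stable φ N) (k : ℕ)
    (g : G) : (quotHom φ N hN)^[k] (g : G ⧸ N) = ((φ^[k] g : G) : G ⧸ N) := by
  induction k generalizing g with
  | zero => rfl
  | succ k ih =>
    rw [Function.iterate_succ_apply, Function.iterate_succ_apply, quotHom_mk, ih]

namespace IsFpfPer

variable {q : ℕ} {φ : G →* G}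

theorem iterate_eq_id (h : IsFpfPer q φ) : (φ : G → G)^[q] = id := funext h.per

theorem bijective (h : IsFpfPer q φ) (hq : 0 < q) : Function.Bijective φ := by
  obtain ⟨k, rfl⟩ : ∃ k, q = k + 1 := ⟨q - 1, by omega⟩
  constructor
  · intro a b hab
    have := congrArg (φ^[k]) hab
    rw [← Function.iterate_succ_apply, ← Function.iterate_succ_apply, h.per, h.per] at this
    exact this
  · intro b
    exact ⟨φ^[k] b, by rw [← Function.iterate_succ_apply' (⇑φ) k b, h.per]⟩

theorem restrict (h : IsFpfPer q φ) (H : Subgroup G) (hH : Stable φ H) :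
    IsFpfPer q (resHom φ H hH) where
  fpf := fun x hx => Subtype.ext (h.fpf x (congrArg Subtype.val hx))
  per := fun x => Subtype.ext (by rw [resHom_iterate, h.per])

theorem quotient [Finite G] (h : IsFpfPer q φ) (N : Subgroup G) [N.Normal] (hN : Stable φ N) :
    IsFpfPer q (quotHom φ N hN) where
  fpf := by
    intro x hx
    induction x using QuotientGroup.induction_on with
    | H g =>
      rw [quotHom_mk, QuotientGroup.eq] at hx
      have h1 : g⁻¹ * φ g ∈ N := by
        have := N.inv_mem hx
        rwa [mul_inv_rev, inv_inv] at this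
      obtain ⟨n, hn⟩ := (h.restrict N hN).fpf.commutatorMap_surjective ⟨g⁻¹ * φ g, h1⟩
      have h2 : MonoidHom.commutatorMap φ (n : G) = MonoidHom.commutatorMap φ g⁻¹ := by
        have := congrArg Subtype.val hn
        simp only [MonoidHom.commutatorMap_apply] at this ⊢
        rw [map_inv, div_inv_eq_mul, ← this]
        rfl
      have h3 := h.fpf.commutatorMap_injective h2
      rw [QuotientGroup.eq_one_iff]
      have := N.inv_mem n.2
      rwa [h3, inv_inv] at this
  per := by
    intro x
    induction x using QuotientGroup.induction_on with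
    | H g => rw [quotHom_iterate, h.per]

end IsFpfPer

namespace Stable

variable {φ : G →* G}

theorem le_comap {H : Subgroup G} (hH : Stable φ H) : H ≤ H.comap φ := fun x hx => hH x hx

theorem map_le {H : Subgroup G} (hH : Stable φ H) : H.map φ ≤ H :=
  Subgroup.map_le_iff_le_comap.mpr hH.le_comap

theorem map_eq [Finite G] (hinj : Function.Injective φ) {H : Subgroup G} (hH : Stable φ H) :
    H.map φ = H := by
  apply Subgroup.eq_of_le_of_card_ge hH.map_le
  rw [Subgroup.card_map_of_injective hinj]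

theorem mem_iff [Finite G] (hinj : Function.Injective φ) {H : Subgroup G} (hH : Stable φ H)
    {y : G} : φ y ∈ H ↔ y ∈ H := by
  constructor
  · intro hy
    have : φ y ∈ H.map φ := by rwa [hH.map_eq hinj]
    obtain ⟨x, hx, hxy⟩ := this
    rwa [← hinj hxy]
  · exact hH y

theorem of_map_eq {H : Subgroup G} (hH : H.map φ = H) : Stable φ H := by
  intro x hx
  rw [← hH]
  exact Subgroup.mem_map_of_mem φ hx

theorem top : Stable φ (⊤ : Subgroup G) := fun _ _ => Subgroup.mem_top _

theorem bot : Stable φ (⊥ : Subgroup G) := by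
  intro x hx
  rw [Subgroup.mem_bot] at hx ⊢
  rw [hx, map_one]

theorem inf {A B : Subgroup G} (hA : Stable φ A) (hB : Stable φ B) : Stable φ (A ⊓ B) :=
  fun x hx => ⟨hA x hx.1, hB x hx.2⟩

theorem sup {A B : Subgroup G} (hA : Stable φ A) (hB : Stable φ B) : Stable φ (A ⊔ B) := by
  have h1 : A ≤ (A ⊔ B).comap φ := hA.le_comap.trans (Subgroup.comap_mono le_sup_left)
  have h2 : B ≤ (A ⊔ B).comap φ := hB.le_comap.trans (Subgroup.comap_mono le_sup_right)
  exact fun x hx => sup_le h1 h2 hx

theorem commutator {A B : Subgroup G} (hA : Stable φ A) (hB : Stable φ B) : Stable φ ⁅A, B⁆ := by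
  have : (⁅A, B⁆).map φ ≤ ⁅A, B⁆ := by
    rw [Subgroup.map_commutator]
    exact Subgroup.commutator_mono hA.map_le hB.map_le
  exact fun x hx => this (Subgroup.mem_map_of_mem φ hx)

theorem normalizer [Finite G] (hbij : Function.Bijective φ) {H : Subgroup G} (hH : Stable φ H) :
    Stable φ (Subgroup.normalizer (H : Set G)) := by
  intro x hx
  rw [Subgroup.mem_normalizer_iff] at hx ⊢
  intro h
  obtain ⟨h', rfl⟩ := hbij.2 h
  rw [← map_inv, ← map_mul, ← map_mul, hH.mem_iff hbij.1, hH.mem_iff hbij.1]
  exact hx h'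

theorem centralizer [Finite G] (hbij : Function.Bijective φ) {H : Subgroup G} (hH : Stable φ H) :
    Stable φ (Subgroup.centralizer (H : Set G)) := by
  intro x hx
  rw [Subgroup.mem_centralizer_iff] at hx ⊢
  intro h hh
  obtain ⟨h', rfl⟩ := hbij.2 h
  have hh' : h' ∈ H := (hH.mem_iff hbij.1).mp hh
  rw [← map_mul, ← map_mul, hx h' hh']

theorem center (hsurj : Function.Surjective φ) : Stable φ (Subgroup.center G) := by
  intro x hx
  rw [Subgroup.mem_center_iff] at hx ⊢
  intro g
  obtain ⟨g', rfl⟩ := hsurj g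
  rw [← map_mul, ← map_mul, hx g']

theorem thompsonOf [Finite G] (hbij : Function.Bijective φ) (p : ℕ) {H : Subgroup G}
    (hH : Stable φ H) : Stable φ (thompsonSubgroupOf p H) := by
  apply of_map_eq
  have h1 := thompsonSubgroupOf_map p (MulEquiv.ofBijective φ hbij) H
  have h2 : H.map (MulEquiv.ofBijective φ hbij).toMonoidHom = H := hH.map_eq hbij.1
  rw [h2] at h1
  exact h1

/-- a characteristic subgroup of a stable subgroup is stable -/
theorem of_char [Finite G] (hinj : Function.Injective φ) {V : Subgroup G} (hV : Stable φ V)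
    (K : Subgroup V) [hK : K.Characteristic] : Stable φ (K.map V.subtype) := by
  have hinj' : Function.Injective (resHom φ V hV) := by
    intro a b hab
    exact Subtype.ext (hinj (congrArg Subtype.val hab))
  have hbij' : Function.Bijective (resHom φ V hV) := Finite.injective_iff_bijective.mp hinj'
  rintro x ⟨k, hk, rfl⟩
  refine ⟨resHom φ V hV k, ?_, rfl⟩
  have := hK.fixed (MulEquiv.ofBijective (resHom φ V hV) hbij')
  have hk' : k ∈ K.comap (MulEquiv.ofBijective (resHom φ V hV) hbij').toMonoidHom := by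
    rw [this]; exact hk
  exact hk'

end Stable

/-- a `φ`-stable Sylow `p`-subgroup exists -/
theorem IsFpfPer.exists_sylow_stable [Finite G] {q : ℕ} {φ : G →* G} (h : IsFpfPer q φ)
    (hq : 0 < q) (p : ℕ) [Fact p.Prime] : ∃ P : Sylow p G, Stable φ (P : Subgroup G) := by
  have hbij := h.bijective hq
  let e : MulAut G := MulEquiv.ofBijective φ hbij
  let P₀ : Sylow p G := default
  obtain ⟨g, hg⟩ := MulAction.exists_smul_eq G (e • P₀) P₀
  obtain ⟨h', hh'⟩ := h.fpf.commutatorMap_surjective g
  -- g = h' / φ h'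
  have key : ∀ s ∈ (P₀ : Subgroup G), g * φ s * g⁻¹ ∈ (P₀ : Subgroup G) := by
    intro s hs
    have h1 : φ s ∈ ((e • P₀ : Sylow p G) : Subgroup G) := by
      rw [Sylow.pointwise_smul_def]
      exact Subgroup.smul_mem_pointwise_smul s e _ hs
    have h2 : g * φ s * g⁻¹ ∈ ((g • (e • P₀) : Sylow p G) : Subgroup G) := by
      rw [Sylow.coe_subgroup_smul]
      exact Subgroup.smul_mem_pointwise_smul (φ s) (MulAut.conj g) _ h1
    rwa [hg] at h2
  refine ⟨h'⁻¹ • P₀, ?_⟩
  intro x hx
  rw [Sylow.coe_subgroup_smul, Subgroup.mem_smul_pointwise_iff_exists] at hx ⊢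
  obtain ⟨s, hs, hsx⟩ := hx
  rw [MulAut.smul_def, MulAut.conj_apply] at hsx
  refine ⟨g * φ s * g⁻¹, key s hs, ?_⟩
  rw [MulAut.smul_def, MulAut.conj_apply, ← hsx, ← hh']
  simp only [MonoidHom.commutatorMap_apply, map_mul, map_inv, inv_inv, div_eq_mul_inv]
  group

/-- an element of order coprime to the index of a normal subgroup lies in it -/
theorem mem_of_coprime_index [Finite G] (K : Subgroup G) [K.Normal] (x : G)
    (hx : (orderOf x).Coprime K.index) : x ∈ K := by
  rw [← QuotientGroup.eq_one_iff]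
  have h1 : (x : G ⧸ K) ^ orderOf x = 1 := by
    rw [← QuotientGroup.mk_pow, pow_orderOf_eq_one]; rfl
  have h2 : (x : G ⧸ K) ^ K.index = 1 := by
    rw [Subgroup.index_eq_card]; exact pow_card_eq_one'
  have := pow_gcd_eq_one.mpr ⟨h1, h2⟩
  rwa [hx, pow_one] at this

/-- finite nilpotent groups have normal `p`-complements -/
theorem hasNormalPComplement_of_isNilpotent (H : Type u) [Group H] [Finite H]
    [Group.IsNilpotent H] (p : ℕ) [hp : Fact p.Prime] : HasNormalPComplement p H := by
  have hall : ∀ (r : ℕ) (_ : Fact r.Prime) (S : Sylow r H), (S : Subgroup H).Normal :=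
    fun r hr S => by
      have h03 := (Group.isNilpotent_of_finite_tfae (G := H)).out 0 3
      exact h03.mp (by infer_instance) r hr S
  let P : Sylow p H := default
  let N : Subgroup H := pPrimeCore p H
  have hNn : N.Normal := Cfsg.Agent.Lib.Helper81.pPrimeCore_normal p
  have hNc : (Nat.card N).Coprime p := Cfsg.Agent.Lib.Helper81.card_pPrimeCore_coprime p
  obtain ⟨a, ha⟩ := P.2.exists_card_eq
  have hcop : (Nat.card N).Coprime (Nat.card (P : Subgroup H)) := by
    rw [ha]; exact Nat.Coprime.pow_right a hNc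
  refine ⟨P, N, hNn, Subgroup.isComplement'_of_coprime ?_ hcop⟩
  apply Nat.dvd_antisymm
  · exact Nat.Coprime.mul_dvd_of_dvd_of_dvd hcop (Subgroup.card_subgroup_dvd_card _)
      (Subgroup.card_subgroup_dvd_card _)
  · rw [Nat.dvd_iff_prime_pow_dvd_dvd]
    intro r k hr hrk
    by_cases hrp : r = p
    · subst hrp
      exact dvd_mul_of_dvd_right (P.pow_dvd_card_of_pow_dvd_card hrk) _
    · have : Fact r.Prime := ⟨hr⟩
      let S : Sylow r H := default
      have hSn : (S : Subgroup H).Normal := hall r ⟨hr⟩ S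
      have hSc : (Nat.card (S : Subgroup H)).Coprime p := by
        obtain ⟨b, hb⟩ := S.2.exists_card_eq
        rw [hb]
        exact Nat.Coprime.pow_left b ((Nat.coprime_primes hr hp.out).mpr hrp)
      have hSN : (S : Subgroup H) ≤ N := Cfsg.Agent.Lib.Helper81.le_pPrimeCore hSn hSc
      exact dvd_mul_of_dvd_left
        (dvd_trans (S.pow_dvd_card_of_pow_dvd_card hrk) (Subgroup.card_dvd_of_le hSN)) _

/-- The norm trick: if `P` and the abelian normal subgroup `V` are `φ`-stable, of coprime
orders, and `C_V(P) = 1`, then `V = 1`. -/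
theorem IsFpfPer.norm_trick [Finite G] {q : ℕ} (hq : q.Prime) {φ : G →* G} (h : IsFpfPer q φ)
    (V P : Subgroup G) [hVn : V.Normal]
    (hVc : ∀ a ∈ V, ∀ b ∈ V, a * b = b * a)
    (hV : Stable φ V) (hP : Stable φ P)
    (hC : ∀ v ∈ V, (∀ x ∈ P, x * v = v * x) → v = 1)
    (hcop : (Nat.card P).Coprime (Nat.card V)) : V = ⊥ := by
  classical
  have : Fintype P := Fintype.ofFinite P
  let _ : CommGroup ↥V :=
    { (inferInstance : Group ↥V) with mul_comm := fun a b => Subtype.ext (hVc a a.2 b b.2) }
  let c : G →* MulAut ↥V := MulAut.conjNormal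
  have hc_apply : ∀ (g : G) (v : ↥V), ((c g v : ↥V) : G) = g * v * g⁻¹ := fun g v => rfl
  let φV : ↥V →* ↥V := resHom φ V hV
  have hφV : IsFpfPer q φV := h.restrict V hV
  have hφV_it : ∀ (k : ℕ) (x : ↥V), ((φV^[k] x : ↥V) : G) = φ^[k] (x : G) :=
    resHom_iterate φ V hV
  -- (b) the norm over P is trivial
  have hNP : ∀ w : ↥V, ∏ g : ↥P, c (g : G) w = 1 := by
    intro w
    set N : ↥V := ∏ g : ↥P, c (g : G) w with hN
    apply Subtype.ext
    apply hC N N.2
    intro u hu
    have hfix : c u N = N := by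
      rw [hN, map_prod]
      have : ∀ g : ↥P, c u (c (g : G) w) = c (((⟨u, hu⟩ : ↥P) * g : ↥P) : G) w := by
        intro g
        rw [Subgroup.coe_mul, map_mul]
        rfl
      simp_rw [this]
      exact (Group.mulLeft_bijective (⟨u, hu⟩ : ↥P)).prod_comp (fun g : ↥P => c (g : G) w)
    have h := congrArg (fun t : ↥V => (t : G)) hfix
    simp only [hc_apply] at h
    calc u * (N : G) = (u * N * u⁻¹) * u := by group
      _ = (N : G) * u := by rw [h]
  -- (c) twisted norm identity
  have hkey : ∀ (y : G) (v : ↥V),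
      ∏ k ∈ Finset.range q, c (y / φ^[k] y) (φV^[k] v) = 1 := by
    intro y v
    have h1 := hφV.fpf.prod_pow_eq_one hφV.iterate_eq_id (c y⁻¹ v)
    have h2 : ∏ k ∈ Finset.range q, φV^[k] (c y⁻¹ v) = 1 := h1
    have h3 := congrArg (c y) h2
    rw [map_prod, map_one] at h3
    rw [← h3]
    apply Finset.prod_congr rfl
    intro k _
    apply Subtype.ext
    rw [hc_apply, hc_apply, hφV_it, hφV_it, hc_apply]
    simp only [iterate_map_mul, iterate_map_inv, inv_inv, div_eq_mul_inv]
    group
  -- main double counting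
  rw [Subgroup.eq_bot_iff_forall]
  intro v0 hv0
  set v : ↥V := ⟨v0, hv0⟩ with hv
  have hW1 : ∏ y : ↥P, ∏ k ∈ Finset.range q, c ((y : G) / φ^[k] (y : G)) (φV^[k] v) = 1 :=
    Finset.prod_eq_one (fun y _ => hkey y v)
  rw [Finset.prod_comm] at hW1
  obtain ⟨q', hq'⟩ : ∃ q', q = q' + 1 := ⟨q - 1, by have := hq.one_lt; omega⟩
  rw [hq', Finset.prod_range_succ'] at hW1
  have hPit : ∀ (k : ℕ) (y : G), y ∈ P → φ^[k] y ∈ P := by
    intro k
    induction k with
    | zero => exact fun y hy => hy
    | succ k ih =>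
      intro y hy
      rw [Function.iterate_succ_apply']
      exact hP _ (ih y hy)
  have hT : ∀ k ∈ Finset.range q',
      ∏ y : ↥P, c ((y : G) / φ^[k + 1] (y : G)) (φV^[k + 1] v) = 1 := by
    intro k hk
    rw [Finset.mem_range] at hk
    let m : ↥P → ↥P := fun y =>
      ⟨(y : G) / φ^[k + 1] (y : G), P.div_mem y.2 (hPit (k + 1) y y.2)⟩
    have hminj : Function.Injective m := by
      intro a b hab
      have h1 : (a : G) / φ^[k + 1] (a : G) = (b : G) / φ^[k + 1] (b : G) :=
        congrArg Subtype.val hab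
      have h2 : φ^[k + 1] ((b : G)⁻¹ * a) = (b : G)⁻¹ * a := by
        rw [iterate_map_mul, iterate_map_inv]
        rw [div_eq_mul_inv, div_eq_mul_inv] at h1
        have h1' : (φ^[k + 1] (b : G))⁻¹ = (b : G)⁻¹ * (a * (φ^[k + 1] (a : G))⁻¹) := by
          rw [h1]; group
        rw [h1']; group
      have h3 : Function.IsPeriodicPt φ (k + 1) ((b : G)⁻¹ * a) := h2
      have h4 : Function.IsPeriodicPt φ q ((b : G)⁻¹ * a) := h.per _
      have h5 := h3.gcd h4
      have hgcd : Nat.gcd (k + 1) q = 1 :=
        Nat.Coprime.symm ((Nat.Prime.coprime_iff_not_dvd hq).mpr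
          (Nat.not_dvd_of_pos_of_lt (by omega) (by omega)))
      rw [hgcd] at h5
      have h6 : φ ((b : G)⁻¹ * a) = (b : G)⁻¹ * a := h5
      have := h.fpf _ h6
      exact Subtype.ext (inv_mul_eq_one.mp this).symm
    have hmbij : Function.Bijective m := Finite.injective_iff_bijective.mp hminj
    have hrw : ∀ y : ↥P, c ((y : G) / φ^[k + 1] (y : G)) (φV^[k + 1] v) =
        c ((m y : ↥P) : G) (φV^[k + 1] v) := fun y => rfl
    simp_rw [hrw]
    rw [hmbij.prod_comp (fun x : ↥P => c (x : G) (φV^[k + 1] v))]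
    exact hNP _
  rw [Finset.prod_eq_one hT, one_mul] at hW1
  simp only [Function.iterate_zero, id_eq, div_self', map_one, MulAut.one_apply,
    Finset.prod_const, Finset.card_univ] at hW1
  have hvS : v ^ Nat.card ↥P = 1 := by
    rw [Nat.card_eq_fintype_card]
    exact hW1
  have hvV : v ^ Nat.card ↥V = 1 := pow_card_eq_one'
  have := pow_gcd_eq_one.mpr ⟨hvS, hvV⟩
  rw [hcop, pow_one] at this
  exact congrArg Subtype.val this

end FPF

end Cfsg.Agent.Lib.Helper15
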