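import Mathlib
import Cfsg.Prelude.Def_Transfer
import Cfsg.Agent.Lib.Helper15.FPF
import Cfsg.Agent.Lib.Helper02.ThompsonJ

set_option autoImplicit false

/-!
# Thompson's theorem on fixed-point-free automorphisms of prime order

`nilpotent_of_fpf` : assuming the conclusion of Thompson's normal `p`-complement theorem
(`ThompsonNPC`), a finite group with a fixed-point-free endomorphism `φ` with `φ^[q] = id`,
`q` prime, is nilpotent.
-/

namespace Cfsg.Agent.Lib.Helper15

universe u

open Cfsg

/-- the (⇐) direction of Thompson's normal `p`-complement theorem, as a hypothesis -/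
def ThompsonNPC : Prop :=
  ∀ (G : Type u) [Group G] [Finite G] (p : ℕ) [Fact p.Prime], p ≠ 2 → ∀ P : Sylow p G,
    HasNormalPComplement p
      (Subgroup.normalizer (thompsonSubgroupOf p (P : Subgroup G) : Set G)) →
    HasNormalPComplement p
      (Subgroup.centralizer (((P : Subgroup G) ⊓ Subgroup.centralizer (P : Set G)) : Set G)) →
    HasNormalPComplement p G

variable {G : Type u} [Group G]

theorem isNilpotent_of_sylow_eq_top [Finite G] {p : ℕ} [Fact p.Prime] (P : Sylow p G)
    (h : (P : Subgroup G) = ⊤) : Group.IsNilpotent G := by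
  have : IsPGroup p G := by
    rw [IsPGroup.iff_card]
    obtain ⟨a, ha⟩ := P.2.exists_card_eq
    refine ⟨a, ?_⟩
    rw [← ha, h, Subgroup.card_top]
  exact this.isNilpotent

theorem isNilpotent_of_center_eq_top (h : Subgroup.center G = ⊤) : Group.IsNilpotent G :=
  ⟨⟨1, by rw [Subgroup.upperCentralSeries_one]; exact h⟩⟩

theorem isNilpotent_of_exists_normal_sylow [Finite G]
    (h : ∀ (p : ℕ) [Fact p.Prime], ∃ P : Sylow p G, (P : Subgroup G).Normal) :
    Group.IsNilpotent G := by
  have h30 := (Group.isNilpotent_of_finite_tfae (G := G)).out 3 0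
  apply h30.mp
  intro p hp P
  obtain ⟨P₀, hP₀⟩ := h p
  obtain ⟨g, rfl⟩ := MulAction.exists_smul_eq G P₀ P
  rw [Sylow.smul_eq_of_normal]
  exact hP₀

theorem caseB (hT : ThompsonNPC.{u}) [Finite G] {q : ℕ} (hq : q.Prime) {φ : G →* G}
    (h : IsFpfPer q φ)
    (ihS : ∀ H : Subgroup G, Stable φ H → H ≠ ⊤ → Group.IsNilpotent H)
    (hsimple : ∀ N : Subgroup G, N.Normal → Stable φ N → N = ⊥ ∨ N = ⊤) :
    Group.IsNilpotent G := by
  have hbij := h.bijective hq.pos
  by_cases h2 : IsPGroup 2 G
  · have : Fact (Nat.Prime 2) := ⟨Nat.prime_two⟩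
    exact h2.isNilpotent
  -- odd prime
  obtain ⟨p, hp, hpdvd, hp2⟩ : ∃ p, p.Prime ∧ p ∣ Nat.card G ∧ p ≠ 2 := by
    by_contra hcon
    push Not at hcon
    apply h2
    have : Fact (Nat.Prime 2) := ⟨Nat.prime_two⟩
    rw [IsPGroup.iff_card]
    exact ⟨_, Nat.eq_prime_pow_of_unique_prime_dvd Nat.card_pos.ne'
      (fun {d} hd hdvd => hcon d hd hdvd)⟩
  have : Fact p.Prime := ⟨hp⟩
  obtain ⟨P, hP⟩ := h.exists_sylow_stable hq.pos p
  have hPne : (P : Subgroup G) ≠ ⊥ := P.ne_bot_of_dvd_card hpdvd
  set J := thompsonSubgroupOf p (P : Subgroup G) with hJdef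
  have hJ : Stable φ J := hP.thompsonOf hbij p
  have hJne : J ≠ ⊥ := Cfsg.Agent.Lib.Helper02.thompsonOf_ne_bot P.2 hPne
  have hJle : J ≤ (P : Subgroup G) := thompsonSubgroupOf_le p (P : Subgroup G)
  set Z := (P : Subgroup G) ⊓ Subgroup.centralizer (P : Set G) with hZdef
  have hZ : Stable φ Z := hP.inf (hP.centralizer hbij)
  have hZne : Z ≠ ⊥ := Cfsg.Agent.Lib.Helper02.ZC_ne_bot P.2 hPne
  have hNJ : Stable φ (Subgroup.normalizer (J : Set G)) := hJ.normalizer hbij
  have hCZ : Stable φ (Subgroup.centralizer (Z : Set G)) := hZ.centralizer hbij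
  by_cases h1 : Subgroup.normalizer (J : Set G) = ⊤
  · have hJn : J.Normal := Subgroup.normalizer_eq_top_iff.mp h1
    rcases hsimple J hJn hJ with h0 | h0
    · exact absurd h0 hJne
    · apply isNilpotent_of_sylow_eq_top P
      exact top_le_iff.mp (h0 ▸ hJle)
  by_cases h3 : Subgroup.centralizer (Z : Set G) = ⊤
  · have hZc : (Z : Set G) ⊆ Subgroup.center G := Subgroup.centralizer_eq_top_iff_subset.mp h3
    rcases hsimple (Subgroup.center G) inferInstance (Stable.center hbij.2) with h0 | h0
    · exfalso
      apply hZne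
      rw [eq_bot_iff, ← h0]
      exact hZc
    · exact isNilpotent_of_center_eq_top h0
  have n1 : Group.IsNilpotent (Subgroup.normalizer (J : Set G)) := ihS _ hNJ h1
  have n2 : Group.IsNilpotent (Subgroup.centralizer (Z : Set G)) := ihS _ hCZ h3
  obtain ⟨Q, K, hKn, hKQ⟩ := hT G p hp2 P (hasNormalPComplement_of_isNilpotent _ p)
    (hasNormalPComplement_of_isNilpotent _ p)
  have hcard : Nat.card K * Nat.card (Q : Subgroup G) = Nat.card G := hKQ.card_mul_card
  have hKidx : K.index = Nat.card (Q : Subgroup G) := by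
    have := K.card_mul_index
    exact Nat.eq_of_mul_eq_mul_left Nat.card_pos (this.trans hcard.symm)
  have hKcop : (Nat.card K).Coprime (Nat.card (Q : Subgroup G)) := by
    have h5 : Nat.card K = (Q : Subgroup G).index := by
      have := (Q : Subgroup G).card_mul_index
      apply Nat.eq_of_mul_eq_mul_left (Nat.card_pos (α := (Q : Subgroup G)))
      rw [this, ← hcard, mul_comm]
    rw [h5]
    exact Q.card_coprime_index.symm
  have hK : Stable φ K := by
    intro x hx
    apply mem_of_coprime_index K
    rw [orderOf_injective φ hbij.1 x, hKidx]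
    exact Nat.Coprime.coprime_dvd_left (Subgroup.orderOf_dvd_natCard K hx) hKcop
  have hQne : (Q : Subgroup G) ≠ ⊥ := Q.ne_bot_of_dvd_card hpdvd
  rcases hsimple K hKn hK with h0 | h0
  · apply isNilpotent_of_sylow_eq_top Q
    apply Subgroup.eq_top_of_card_eq
    rw [← hcard, h0, Subgroup.card_bot, one_mul]
  · exfalso
    apply hQne
    rw [← Subgroup.card_eq_one]
    have : Nat.card K = Nat.card G := by rw [h0, Subgroup.card_top]
    rw [this] at hcard
    exact Nat.eq_of_mul_eq_mul_left Nat.card_pos (hcard.trans (mul_one _).symm)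

theorem caseA [Finite G] {q : ℕ} (hq : q.Prime) {φ : G →* G} (h : IsFpfPer q φ)
    (ihS : ∀ H : Subgroup G, Stable φ H → H ≠ ⊤ → Group.IsNilpotent H)
    (ihQ : ∀ (N : Subgroup G) [N.Normal], Stable φ N → N ≠ ⊥ → Group.IsNilpotent (G ⧸ N))
    (V : Subgroup G) [hVn : V.Normal] (hVs : Stable φ V) (hVne : V ≠ ⊥) (hVtop : V ≠ ⊤)
    (hmin : ∀ N : Subgroup G, N.Normal → Stable φ N → N ≤ V → N = ⊥ ∨ N = V) :
    Group.IsNilpotent G := by
  have hbij := h.bijective hq.pos
  have hVnil : Group.IsNilpotent V := ihS V hVs hVtop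
  -- V abelian
  have hcomm_lt : ⁅V, V⁆ < V := by
    have hnt : Nontrivial V := (Subgroup.nontrivial_iff_ne_bot V).mpr hVne
    have h0 := Group.IsSolvable.commutator_lt_top_of_nontrivial V
    have h1 : ⁅V, V⁆ = (commutator V).map V.subtype := by
      rw [commutator_def, Subgroup.map_commutator, ← MonoidHom.range_eq_map,
        Subgroup.range_subtype]
    rw [h1]
    have h2 : (commutator V).map V.subtype < (⊤ : Subgroup V).map V.subtype :=
      Subgroup.map_subtype_lt_map_subtype.mpr h0
    rwa [← MonoidHom.range_eq_map, Subgroup.range_subtype] at h2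
  have hVab : ⁅V, V⁆ = ⊥ := by
    rcases hmin ⁅V, V⁆ inferInstance (hVs.commutator hVs) hcomm_lt.le with h0 | h0
    · exact h0
    · exact absurd h0 hcomm_lt.ne
  have hVc : ∀ a ∈ V, ∀ b ∈ V, a * b = b * a := by
    have := Subgroup.commutator_eq_bot_iff_le_centralizer.mp hVab
    intro a ha b hb
    exact (Subgroup.mem_centralizer_iff.mp (this hb) a ha)
  -- V is an r-group
  obtain ⟨r, hr, hrdvd⟩ := Nat.exists_prime_and_dvd
    (show Nat.card V ≠ 1 from fun h1 => hVne (Subgroup.card_eq_one.mp h1))
  have hrF : Fact r.Prime := ⟨hr⟩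
  obtain ⟨b, hb⟩ : ∃ b, Nat.card V = r ^ b := by
    let R : Sylow r V := default
    have hRn : (R : Subgroup V).Normal := ⟨fun n hn g => by
      have : g * n * g⁻¹ = n := by
        apply Subtype.ext
        simp only [Subgroup.coe_mul, Subgroup.coe_inv]
        rw [hVc g g.2 n n.2]
        group
      rwa [this]⟩
    have hRc : (R : Subgroup V).Characteristic := Sylow.characteristic_of_normal R hRn
    have hKn : ((R : Subgroup V).map V.subtype).Normal :=
      ConjAct.normal_of_characteristic_of_normal
    have hKs : Stable φ ((R : Subgroup V).map V.subtype) := Stable.of_char hbij.1 hVs _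
    have hKne : (R : Subgroup V).map V.subtype ≠ ⊥ := by
      rw [Ne, Subgroup.map_eq_bot_iff_of_injective _ V.subtype_injective]
      exact R.ne_bot_of_dvd_card hrdvd
    rcases hmin _ hKn hKs (Subgroup.map_subtype_le _) with h0 | h0
    · exact absurd h0 hKne
    · obtain ⟨b, hb⟩ := R.2.exists_card_eq
      refine ⟨b, ?_⟩
      rw [← hb]
      have h5 := Subgroup.card_map_of_injective (K := (R : Subgroup V)) V.subtype_injective
      rw [← h5]
      exact (congrArg (fun X : Subgroup G => Nat.card X) h0).symm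
  have hGV : Group.IsNilpotent (G ⧸ V) := ihQ V hVs hVne
  apply isNilpotent_of_exists_normal_sylow
  intro p hpF
  obtain ⟨P, hP⟩ := h.exists_sylow_stable hq.pos p
  refine ⟨P, ?_⟩
  set M := V ⊔ (P : Subgroup G) with hM
  have hMn : M.Normal := by
    have h03 := (Group.isNilpotent_of_finite_tfae (G := G ⧸ V)).out 0 3
    have := h03.mp hGV p inferInstance (P.mapSurjective (QuotientGroup.mk'_surjective V))
    rw [Sylow.coe_mapSurjective] at this
    have h2 := Subgroup.Normal.comap this (QuotientGroup.mk' V)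
    rwa [QuotientGroup.comap_map_mk'] at h2
  have hMs : Stable φ M := hVs.sup hP
  obtain ⟨a, ha⟩ := P.2.exists_card_eq
  by_cases hpr : p = r
  · subst hpr
    have hMp : IsPGroup p M := by
      rw [IsPGroup.iff_card]
      have hdvd : Nat.card M ∣ p ^ (b + a) := by
        rw [pow_add, ← ha, ← hb, hM, sup_comm]
        exact Cfsg.Agent.Lib.Helper81.card_sup_dvd_of_normal (P : Subgroup G) V
      obtain ⟨k, -, hk⟩ := (Nat.dvd_prime_pow hpF.out).mp hdvd
      exact ⟨k, hk⟩
    have : M = P := P.3 hMp le_sup_right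
    rw [← this]
    exact hMn
  · by_cases hMtop : M = ⊤
    · -- G = V P
      set C := V ⊓ Subgroup.centralizer ((P : Subgroup G) : Set G) with hC
      have hCn : C.Normal := by
        rw [← Subgroup.normalizer_eq_top_iff, eq_top_iff, ← hMtop]
        apply sup_le
        · intro v hv
          apply Subgroup.mem_normalizer_fintype
          intro c hc
          have hcV : c ∈ V := hc.1
          have : v * c * v⁻¹ = c := by
            rw [hVc v hv c hcV]
            group
          rw [this]
          exact hc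
        · intro x hx
          apply Subgroup.mem_normalizer_fintype
          intro c hc
          refine ⟨hVn.conj_mem c hc.1 x, ?_⟩
          show x * c * x⁻¹ ∈ Subgroup.centralizer ((P : Subgroup G) : Set G)
          rw [Subgroup.mem_centralizer_iff]
          intro y hy
          have hc2 := Subgroup.mem_centralizer_iff.mp hc.2
          have h1 : x⁻¹ * y * x ∈ (P : Subgroup G) :=
            mul_mem (mul_mem (inv_mem hx) hy) hx
          have h2 := hc2 _ h1
          calc y * (x * c * x⁻¹) = x * ((x⁻¹ * y * x) * c) * x⁻¹ := by group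
            _ = x * (c * (x⁻¹ * y * x)) * x⁻¹ := by rw [h2]
            _ = x * c * x⁻¹ * y := by group
      rcases hmin C hCn (hVs.inf (hP.centralizer hbij)) inf_le_left with h0 | h0
      · exfalso
        apply hVne
        apply h.norm_trick hq V P hVc hVs hP
        · intro v hv hcv
          have : v ∈ C := ⟨hv, Subgroup.mem_centralizer_iff.mpr hcv⟩
          rw [h0] at this
          exact Subgroup.mem_bot.mp this
        · rw [ha, hb]
          exact Nat.Coprime.pow a b ((Nat.coprime_primes hpF.out hr).mpr hpr)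
      · have hVP : V ≤ Subgroup.centralizer ((P : Subgroup G) : Set G) := by
          rw [← h0]
          exact inf_le_right
        rw [← Subgroup.normalizer_eq_top_iff, eq_top_iff, ← hMtop]
        exact sup_le (hVP.trans (Subgroup.centralizer_le_normalizer _)) Subgroup.le_normalizer
    · have hMnil : Group.IsNilpotent M := ihS M hMs hMtop
      have hPM : (P : Subgroup G) ≤ M := le_sup_right
      have hPn : ((P.subtype hPM : Sylow p M) : Subgroup M).Normal := by
        have h03 := (Group.isNilpotent_of_finite_tfae (G := M)).out 0 3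
        exact h03.mp hMnil p inferInstance (P.subtype hPM)
      have hPc := Sylow.characteristic_of_normal (P.subtype hPM) hPn
      have := @ConjAct.normal_of_characteristic_of_normal G _ M hMn _ hPc
      rwa [Sylow.coe_subtype, Subgroup.map_subgroupOf_eq_of_le hPM] at this

/-- Thompson: a finite group with a fixed-point-free endomorphism of prime period is nilpotent
(assuming Thompson's normal `p`-complement theorem). -/
theorem nilpotent_of_fpf (hT : ThompsonNPC.{u}) {q : ℕ} (hq : q.Prime) :
    ∀ (n : ℕ) (G : Type u) [Group G] [Finite G], Nat.card G = n →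
      ∀ φ : G →* G, IsFpfPer q φ → Group.IsNilpotent G := by
  intro n
  induction n using Nat.strong_induction_on with
  | _ n ih =>
  intro G _ _ hn φ h
  have ihS : ∀ H : Subgroup G, Stable φ H → H ≠ ⊤ → Group.IsNilpotent H := by
    intro H hH hne
    have hlt : Nat.card H < n := by
      rw [← hn]
      exact lt_of_le_of_ne (Subgroup.card_le_card_group H)
        (fun he => hne (Subgroup.eq_top_of_card_eq H he))
    exact ih _ hlt H rfl (resHom φ H hH) (h.restrict H hH)
  have ihQ : ∀ (N : Subgroup G) [N.Normal], Stable φ N → N ≠ ⊥ →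
      Group.IsNilpotent (G ⧸ N) := by
    intro N _ hN hne
    have hlt : Nat.card (G ⧸ N) < n := by
      rw [← hn, Subgroup.card_eq_card_quotient_mul_card_subgroup N]
      have h1 : 1 < Nat.card N := (Subgroup.one_lt_card_iff_ne_bot N).mpr hne
      have h2 : 0 < Nat.card (G ⧸ N) := Nat.card_pos
      nlinarith
    exact ih _ hlt (G ⧸ N) rfl (quotHom φ N hN) (h.quotient N hN)
  by_cases htriv : (⊤ : Subgroup G) = ⊥
  · apply isNilpotent_of_center_eq_top
    rw [eq_top_iff, htriv]
    exact bot_le
  obtain ⟨V, hVP, hVmin⟩ := exists_minimal_of_wellFoundedLT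
    (fun N : Subgroup G => N.Normal ∧ Stable φ N ∧ N ≠ ⊥) ⟨⊤, inferInstance, Stable.top, htriv⟩
  have hmin : ∀ N : Subgroup G, N.Normal → Stable φ N → N ≤ V → N = ⊥ ∨ N = V := by
    intro N hNn hNs hNV
    by_cases hN : N = ⊥
    · exact Or.inl hN
    · exact Or.inr (le_antisymm hNV (hVmin ⟨hNn, hNs, hN⟩ hNV))
  by_cases hVtop : V = ⊤
  · subst hVtop
    exact caseB hT hq h ihS (fun N hNn hNs => hmin N hNn hNs le_top)
  · have := hVP.1
    exact caseA hq h ihS ihQ V hVP.2.1 hVP.2.2 hVtop hmin

end Cfsg.Agent.Lib.Helper15
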