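import Cfsg.Agent.Lib.Helper15.Lifting
import Cfsg.Agent.Lib.Helper81.PSolvable

set_option autoImplicit false

namespace Cfsg.Agent.Lib.Helper15

open Cfsg

theorem pCore_map_equiv_le {X Y : Type*} [Group X] [Group Y] (p : ℕ) (e : X ≃* Y) :
    (pCore p X).map e.toMonoidHom ≤ pCore p Y := by
  unfold pCore
  rw [Subgroup.map_le_iff_le_comap]
  apply sSup_le
  rintro A ⟨hAn, hAp⟩
  rw [← Subgroup.map_le_iff_le_comap]
  apply le_sSup
  exact ⟨Subgroup.Normal.map hAn e.toMonoidHom e.surjective, hAp.map e.toMonoidHom⟩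

theorem pCore_map_equiv {X Y : Type*} [Group X] [Group Y] (p : ℕ) (e : X ≃* Y) :
    (pCore p X).map e.toMonoidHom = pCore p Y := by
  apply le_antisymm (pCore_map_equiv_le p e)
  have h := pCore_map_equiv_le p e.symm
  rw [← map_symm_map e (pCore p Y)]
  exact Subgroup.map_mono h

theorem pPrimePCore_eq_pCore_of_pPrimeCore_eq_bot {X : Type*} [Group X] (p : ℕ)
    (h : pPrimeCore p X = ⊥) : pPrimePCore p X = pCore p X := by
  unfold pPrimePCore
  have hinj : Function.Injective (QuotientGroup.mk' (pPrimeCore p X)) := by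
    rw [← MonoidHom.ker_eq_bot_iff, QuotientGroup.ker_mk', h]
  have hbij : Function.Bijective (QuotientGroup.mk' (pPrimeCore p X)) :=
    ⟨hinj, QuotientGroup.mk'_surjective _⟩
  have h1 := pCore_map_equiv p (MulEquiv.ofBijective (QuotientGroup.mk' (pPrimeCore p X)) hbij)
  have h2 : (MulEquiv.ofBijective (QuotientGroup.mk' (pPrimeCore p X)) hbij).toMonoidHom =
      QuotientGroup.mk' (pPrimeCore p X) := rfl
  rw [h2] at h1
  rw [← h1, Subgroup.comap_map_eq, QuotientGroup.ker_mk', h, sup_bot_eq]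

/-- a Sylow p-subgroup of a p-group is everything -/
theorem sylow_eq_top_of_isPGroup {X : Type*} [Group X] {p : ℕ} (hX : IsPGroup p X)
    (P : Sylow p X) : (P : Subgroup X) = ⊤ := by
  have : IsPGroup p (⊤ : Subgroup X) := hX.to_subgroup _
  exact (P.is_maximal' this le_top).symm

theorem sylow_map_subtype_of_isPGroup {X : Type*} [Group X] {p : ℕ} (K : Subgroup X)
    (hK : IsPGroup p K) (P : Sylow p K) : (P : Subgroup K).map K.subtype = K := by
  rw [sylow_eq_top_of_isPGroup hK P, ← MonoidHom.range_eq_map, Subgroup.range_subtype]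

theorem pPrimeCore_le_pPrimePCore (p : ℕ) (G : Type*) [Group G] :
    pPrimeCore p G ≤ pPrimePCore p G := by
  unfold pPrimePCore
  intro x hx
  rw [Subgroup.mem_comap]
  have : QuotientGroup.mk' (pPrimeCore p G) x = 1 := (QuotientGroup.eq_one_iff x).mpr hx
  rw [this]; exact Subgroup.one_mem _

theorem map_pPrimePCore (p : ℕ) (G : Type*) [Group G] :
    (pPrimePCore p G).map (QuotientGroup.mk' (pPrimeCore p G)) =
      pCore p (G ⧸ pPrimeCore p G) := by
  unfold pPrimePCore
  exact Subgroup.map_comap_eq_self_of_surjective (QuotientGroup.mk'_surjective _) _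

/-- if `K/N` is a p-group then every Sylow p-subgroup of `K` covers `K/N` -/
theorem sylow_map_eq_of_isPGroup_map {G : Type*} [Group G] [Finite G] {p : ℕ} [hp : Fact p.Prime]
    (N K : Subgroup G) [N.Normal] (hNK : N ≤ K) (hKp : IsPGroup p (K.map (QuotientGroup.mk' N)))
    (P : Sylow p ↥K) :
    ((P : Subgroup ↥K).map K.subtype).map (QuotientGroup.mk' N) = K.map (QuotientGroup.mk' N) := by
  have hP'K : (P : Subgroup ↥K).map K.subtype ≤ K := Subgroup.map_subtype_le _
  apply le_antisymm
  · exact Subgroup.map_mono hP'K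
  · rw [← Subgroup.relIndex_eq_one]
    have h1 : (((P : Subgroup ↥K).map K.subtype).map (QuotientGroup.mk' N)).relIndex
        (K.map (QuotientGroup.mk' N)) ∣ ((P : Subgroup ↥K).map K.subtype).relIndex K := by
      rw [Subgroup.relIndex_map_map, QuotientGroup.ker_mk', sup_of_le_left hNK]
      exact Subgroup.relIndex_dvd_of_le_left K le_sup_left
    have h2 : ((P : Subgroup ↥K).map K.subtype).relIndex K = (P : Subgroup K).index := by
      unfold Subgroup.relIndex Subgroup.subgroupOf
      rw [Subgroup.comap_map_eq_self_of_injective K.subtype_injective]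
    have h3 : ¬ p ∣ (P : Subgroup K).index := P.not_dvd_index
    have h4 : (((P : Subgroup ↥K).map K.subtype).map (QuotientGroup.mk' N)).relIndex
        (K.map (QuotientGroup.mk' N)) ∣ Nat.card (K.map (QuotientGroup.mk' N)) :=
      Subgroup.relIndex_dvd_card _ _
    obtain ⟨a, ha⟩ := IsPGroup.iff_card.mp hKp
    rw [ha] at h4
    obtain ⟨m, _, hm⟩ := (Nat.dvd_prime_pow hp.out).mp h4
    rcases Nat.eq_zero_or_pos m with hm0 | hmpos
    · rw [hm, hm0, pow_zero]
    · exfalso
      apply h3
      rw [← h2]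
      refine Dvd.dvd.trans ?_ h1
      rw [hm]
      exact dvd_pow_self p hmpos.ne'

/-- the image of a Sylow p-subgroup of `O_{p',p}(G)` in `G / O_{p'}(G)` is `O_p(G / O_{p'}(G))` -/
theorem sylow_pPrimePCore_map {G : Type*} [Group G] [Finite G] {p : ℕ} [hp : Fact p.Prime]
    (P : Sylow p ↥(pPrimePCore p G)) :
    ((P : Subgroup ↥(pPrimePCore p G)).map (pPrimePCore p G).subtype).map
      (QuotientGroup.mk' (pPrimeCore p G)) = pCore p (G ⧸ pPrimeCore p G) := by
  have hKp : IsPGroup p ((pPrimePCore p G).map (QuotientGroup.mk' (pPrimeCore p G))) := by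
    rw [map_pPrimePCore]; exact Cfsg.Agent.Lib.Helper81.isPGroup_pCore p
  rw [sylow_map_eq_of_isPGroup_map _ _ (pPrimeCore_le_pPrimePCore p G) hKp P, map_pPrimePCore]

end Cfsg.Agent.Lib.Helper15
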