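import Cfsg.Agent.Lib.Helper15.BG103B
import Cfsg.Agent.Lib.Helper01.CoprimeSylow2
import Cfsg.Agent.S1403

/-!
BG Lemma 10.3, core: `M` maximal, `K ⊴ M` containing a Sylow `q`-subgroup of `M` of rank at least 3,
`X ≤ M` of order prime to `|K|`, and `C_K(X)` contains an elementary abelian subgroup of order `q²`.
Then `C_M(X)` lies in a unique maximal subgroup.
-/

set_option autoImplicit false

namespace Cfsg.Agent.Lib.Helper15.BG103

open Cfsg
open Pointwise

section conj
variable {G : Type*} [Group G]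

/-- conjugation by a normalizing element, as an automorphism of the subgroup -/
def cAut (Q : Subgroup G) (x : G) (hx : x ∈ Subgroup.normalizer (Q : Set G)) : MulAut Q where
  toFun r := ⟨x * r * x⁻¹, (Subgroup.mem_normalizer_iff.mp hx r).mp r.2⟩
  invFun r := ⟨x⁻¹ * r * x, by
    have := (Subgroup.mem_normalizer_iff.mp hx (x⁻¹ * r * x)).mpr (by
      have e : x * (x⁻¹ * r * x) * x⁻¹ = r := by group
      rw [e]; exact r.2)
    exact this⟩
  left_inv r := by ext; simp [mul_assoc]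
  right_inv r := by ext; simp [mul_assoc]
  map_mul' a b := by ext; simp [mul_assoc]

theorem cAut_apply (Q : Subgroup G) (x : G) (hx : x ∈ Subgroup.normalizer (Q : Set G))
    (r : Q) : ((cAut Q x hx r : Q) : G) = x * r * x⁻¹ := rfl

theorem cAut_pow (Q : Subgroup G) (x : G) (hx : x ∈ Subgroup.normalizer (Q : Set G)) (n : ℕ)
    (r : Q) : (((cAut Q x hx) ^ n) r : G) = x ^ n * r * (x ^ n)⁻¹ := by
  induction n generalizing r with
  | zero => simp
  | succ n ih =>
    rw [pow_succ, MulAut.mul_apply, ih, cAut_apply, pow_succ]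
    group

theorem orderOf_cAut_dvd [Finite G] (Q : Subgroup G) (x : G)
    (hx : x ∈ Subgroup.normalizer (Q : Set G)) : orderOf (cAut Q x hx) ∣ orderOf x := by
  apply orderOf_dvd_of_pow_eq_one
  ext r
  rw [cAut_pow, pow_orderOf_eq_one]
  simp

theorem isElementaryAbelian_map {H : Type*} [Group H] {p : ℕ} (f : G →* H) (E : Subgroup G)
    (hE : IsElementaryAbelian p E) : IsElementaryAbelian p (E.map f) := by
  refine ⟨⟨⟨fun a b => Subtype.ext ?_⟩⟩, ?_⟩
  · obtain ⟨a', ha', hae⟩ := a.2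
    obtain ⟨b', hb', hbe⟩ := b.2
    have := congrArg Subtype.val (hE.1.is_comm.comm (⟨a', ha'⟩ : E) ⟨b', hb'⟩)
    simp only [Subgroup.coe_mul] at this ⊢
    rw [← hae, ← hbe, ← map_mul, ← map_mul, this]
  · rintro _ ⟨a, ha, rfl⟩
    rw [← map_pow, hE.2 a ha, map_one]

theorem isElementaryAbelian_subgroupOf {p : ℕ} (E Q : Subgroup G)
    (hE : IsElementaryAbelian p E) : IsElementaryAbelian p (E.subgroupOf Q) := by
  refine ⟨⟨⟨fun a b => Subtype.ext (Subtype.ext ?_)⟩⟩, ?_⟩
  · have := congrArg Subtype.val (hE.1.is_comm.comm (⟨a.1.1, Subgroup.mem_subgroupOf.1 a.2⟩ : E)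
      ⟨b.1.1, Subgroup.mem_subgroupOf.1 b.2⟩)
    simpa using this
  · intro a ha
    apply Subtype.ext
    have := hE.2 _ (Subgroup.mem_subgroupOf.1 ha)
    simpa using this

end conj

variable {G : Type*} [Group G] [Finite G]

theorem inUniqueMaximal_mono {B H M : Subgroup G} (hB : InUniqueMaximal B) (hBH : B ≤ H)
    (hM : IsCoatom M) (hHM : H ≤ M) : InUniqueMaximal H := by
  refine ⟨M, ⟨hM, hHM⟩, ?_⟩
  rintro M' ⟨hM', hHM'⟩
  exact hB.unique ⟨hM', hBH.trans hHM'⟩ ⟨hM, hBH.trans hHM⟩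

theorem core (hG : IsMinSimpleOddOrder G) (M : Subgroup G) (hM : IsCoatom M) (X : Subgroup G)
    (hXM : X ≤ M) (K : Subgroup G) (hKM : K ≤ M) (hKn : M ≤ Subgroup.normalizer (K : Set G))
    (q : ℕ) [hq : Fact q.Prime] (hcop : (Nat.card X).Coprime (Nat.card K))
    (hqX : ¬ q ∣ Nat.card X)
    (hqK : ¬ q ∣ K.relIndex M) (hqM : ¬ PRankLE q 2 ↥M)
    (E : Subgroup G) (hEK : E ≤ K) (hEX : E ≤ Subgroup.centralizer (X : Set G))
    (hE : IsElementaryAbelian q E) (hE2 : Nat.card E = q ^ 2) :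
    InUniqueMaximal (M ⊓ Subgroup.centralizer (X : Set G)) := by
  classical
  have hMtop : M ≠ ⊤ := hM.1
  have hq2 : q ≠ 2 := by
    rintro rfl
    have hodd : Odd (Nat.card G) := hG.1
    have h1 : 2 ∣ Nat.card E := by rw [hE2]; exact dvd_pow_self 2 (by norm_num)
    have h2 : 2 ∣ Nat.card G := h1.trans (Subgroup.card_subgroup_dvd_card E)
    exact (Nat.not_even_iff_odd.mpr hodd) (even_iff_two_dvd.mpr h2)
  have hKtop : K ≠ ⊤ := fun h => hMtop (top_le_iff.mp (h ▸ hKM))
  have hKsolv : Group.IsSolvable K := hG.2.2.2 K hKtop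
  have hEq : IsPGroup q E := IsPGroup.of_card hE2
  have hXE : X ≤ Subgroup.normalizer (E : Set G) :=
    (Subgroup.le_centralizer_iff.mp hEX).trans (Subgroup.centralizer_le_normalizer (E : Set G))
  obtain ⟨Q, hQ, hEQ, hXQ⟩ := Cfsg.Agent.Lib.Helper01.exists_invariant_isSylowIn_ge (A := X) (K := K)
    (U := E) q (hXM.trans hKn) hcop (Or.inr hKsolv) hEK hEq hXE
  have hQM : Q ≤ M := hQ.1.trans hKM
  -- `Q` is a Sylow subgroup of `M`
  have hQsM : Cfsg.Agent.Lib.Helper01.IsSylowIn q Q M := by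
    refine ⟨hQM, hQ.2.1, ?_⟩
    rw [← Subgroup.relIndex_mul_relIndex Q K M hQ.1 hKM]
    exact fun h => (hq.out.dvd_mul.mp h).elim hQ.2.2 hqK
  -- `Q` has rank at least 3
  have hQ3 : ¬ PRankLE q 2 ↥Q := by
    obtain ⟨F, hFM, hF, hFc⟩ := exists_of_not_pRankLE M hqM
    have hFq : IsPGroup q F := fun g => ⟨1, Subtype.ext (by simpa using hF.2 g g.2)⟩
    obtain ⟨P, hP, hFP, -⟩ := Cfsg.Agent.Lib.Helper01.exists_invariant_isSylowIn_ge (A := ⊥) (K := M)
      (U := F) q bot_le (by rw [Subgroup.card_bot]; exact Nat.coprime_one_left _)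
      (Or.inr (hG.2.2.2 M hMtop)) hFM hFq bot_le
    obtain ⟨k, -, hk⟩ := hP.exists_conj hQsM
    have hle : MulAut.conj k • F ≤ Q := by
      rw [← hk]
      exact Subgroup.pointwise_smul_le_pointwise_smul_iff.mpr hFP
    have hel : IsElementaryAbelian q (MulAut.conj k • F) :=
      isElementaryAbelian_map (MulAut.conj k).toMonoidHom F hF
    have hcard : Nat.card ↥(MulAut.conj k • F) = Nat.card F :=
      (Nat.card_congr (Subgroup.equivSMul (MulAut.conj k) F).toEquiv).symm
    exact not_pRankLE_of_le Q _ hle hel (hcard ▸ hFc)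
  -- apply the `p`-group lemma
  have hQp : IsPGroup q ↥Q := hQ.2.1
  set S : Set (MulAut ↥Q) := Set.range (fun x : X => cAut Q x (hXQ x.2)) with hS
  have hSord : ∀ φ ∈ S, (orderOf φ).Coprime q := by
    rintro _ ⟨x, rfl⟩
    have h1 : orderOf (cAut Q (x : G) (hXQ x.2)) ∣ Nat.card X :=
      (orderOf_cAut_dvd Q x (hXQ x.2)).trans
        ((Subgroup.orderOf_coe x).symm ▸ orderOf_dvd_natCard x)
    exact Nat.Coprime.coprime_dvd_left h1 ((Nat.Prime.coprime_iff_not_dvd hq.out).mpr hqX).symm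
  have hE' : IsElementaryAbelian q (E.subgroupOf Q) := isElementaryAbelian_subgroupOf E Q hE
  have hE'2 : Nat.card ↥(E.subgroupOf Q) = q ^ 2 := by
    rw [Nat.card_congr (Subgroup.subgroupOfEquivOfLe hEQ).toEquiv, hE2]
  have hfix : ∀ φ ∈ S, ∀ e ∈ E.subgroupOf Q, φ e = e := by
    rintro _ ⟨x, rfl⟩ e he
    apply Subtype.ext
    rw [cAut_apply]
    have := (Subgroup.mem_centralizer_iff.mp (hEX (Subgroup.mem_subgroupOf.mp he))) x x.2
    rw [this, mul_inv_cancel_right]
  obtain ⟨B', hB', hB'2, hB'fix, hB'3⟩ := lemmaA q hq2 hQp hQ3 S hSord _ hE' hE'2 hfix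
  set B : Subgroup G := B'.map Q.subtype with hB
  have hBel : IsElementaryAbelian q B := isElementaryAbelian_map _ B' hB'
  have hBcard : Nat.card B = q ^ 2 := by
    rw [← hB'2]
    exact (Nat.card_congr (B'.equivMapOfInjective Q.subtype Q.subtype_injective).toEquiv).symm
  have hBQ : B ≤ Q := Subgroup.map_subtype_le _
  have hBX : B ≤ Subgroup.centralizer (X : Set G) := by
    rintro _ ⟨b, hb, rfl⟩
    rw [Subgroup.mem_centralizer_iff]
    intro x hx
    have h1 := hB'fix _ ⟨⟨x, hx⟩, rfl⟩ b hb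
    have h2 := congrArg Subtype.val h1
    rw [cAut_apply] at h2
    show x * (b : G) = (b : G) * x
    calc x * (b : G) = (x * b * x⁻¹) * x := by group
      _ = (b : G) * x := by rw [h2]
  -- the centralizer of `B` has rank at least 3
  have hCB : ¬ RankLE 2 ↥(Subgroup.centralizer (B : Set G)) := by
    intro hr
    obtain ⟨F', hF'C, hF', hF'c⟩ := exists_of_not_pRankLE _ hB'3
    have hF : IsElementaryAbelian q (F'.map Q.subtype) := isElementaryAbelian_map _ F' hF'
    have hFc : q ^ 2 < Nat.card ↥(F'.map Q.subtype) := by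
      rwa [← Nat.card_congr (F'.equivMapOfInjective Q.subtype Q.subtype_injective).toEquiv]
    have hFle : F'.map Q.subtype ≤ Subgroup.centralizer (B : Set G) := by
      rintro _ ⟨f, hf, rfl⟩
      rw [Subgroup.mem_centralizer_iff]
      rintro _ ⟨b, hb, rfl⟩
      have := (Subgroup.mem_centralizer_iff.mp (hF'C hf)) b hb
      exact congrArg Subtype.val this
    exact not_pRankLE_of_le _ _ hFle hF hFc (hr q hq.out)
  have hB1 : ¬ RankLE 1 ↥B := by
    intro hr
    have h1 := hr q hq.out ⊤ ⟨⟨fun a b => Subtype.ext (hBel.1.is_comm.comm a.1 b.1)⟩⟩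
      (fun a _ => Subtype.ext (by simpa using hBel.2 a.1 a.2))
    rw [Subgroup.card_top, hBcard, pow_one] at h1
    have := hq.out.one_lt
    nlinarith
  have hBtop : B ≠ ⊤ := fun h => hMtop (top_le_iff.mp (h ▸ hBQ.trans hQM))
  have hBU : InUniqueMaximal B := Cfsg.Agent.S1403.result hG B hBtop hB1 (Or.inr hCB)
  exact inUniqueMaximal_mono hBU (le_inf (hBQ.trans hQM) hBX) hM inf_le_left

end Cfsg.Agent.Lib.Helper15.BG103
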