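import Mathlib.GroupTheory.Commutator.Basic
import Mathlib.GroupTheory.Subgroup.Centralizer
import Mathlib.Tactic.Group

set_option autoImplicit false

namespace Cfsg.Agent.Lib.Helper15

open scoped commutatorElement

/-- if the commutators of the generators lie in a subgroup `M` stable under conjugation by
`closure X`, then the derived subgroup of `closure X` lies in `M` -/
theorem commutator_closure_le {G : Type*} [Group G] (X : Set G) (M : Subgroup G)
    (hM : ∀ h ∈ Subgroup.closure X, ∀ m ∈ M, h * m * h⁻¹ ∈ M)
    (hX : ∀ x ∈ X, ∀ y ∈ X, ⁅x, y⁆ ∈ M) :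
    ⁅Subgroup.closure X, Subgroup.closure X⁆ ≤ M := by
  have stepB : ∀ x ∈ X, ∀ g ∈ Subgroup.closure X, ⁅x, g⁆ ∈ M := by
    intro x hx g hg
    induction hg using Subgroup.closure_induction with
    | mem y hy => exact hX x hx y hy
    | one => rw [commutatorElement_one_right]; exact M.one_mem
    | mul g h hg hh ihg ihh =>
      rw [commutatorElement_mul_right_eq_mul_conj]
      have := hM g hg _ ihh
      have h2 : ⁅x, g⁆ * g * ⁅x, h⁆ * g⁻¹ = ⁅x, g⁆ * (g * ⁅x, h⁆ * g⁻¹) := by group
      rw [h2]
      exact M.mul_mem ihg this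
    | inv g hg ihg =>
      rw [commutatorElement_inv_right]
      have h1 : ⁅g, x⁆ ∈ M := by rw [← commutatorElement_inv]; exact M.inv_mem ihg
      have := hM g⁻¹ (Subgroup.inv_mem _ hg) _ h1
      simpa using this
  rw [Subgroup.commutator_le]
  intro h hh g hg
  induction hh using Subgroup.closure_induction with
  | mem y hy => exact stepB y hy g hg
  | one => rw [commutatorElement_one_left]; exact M.one_mem
  | mul x y hx hy ihx ihy =>
    rw [commutatorElement_mul_left_eq_conj_mul]
    exact M.mul_mem (hM x hx _ ihy) ihx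
  | inv x hx ihx =>
    rw [commutatorElement_inv_left]
    have h1 : ⁅g, x⁆ ∈ M := by rw [← commutatorElement_inv]; exact M.inv_mem ihx
    have := hM x⁻¹ (Subgroup.inv_mem _ hx) _ h1
    simpa using this

/-- the normalizer of a subgroup normalizes its centralizer -/
theorem normalizer_le_normalizer_centralizer {G : Type*} [Group G] (H : Subgroup G) :
    Subgroup.normalizer (H : Set G) ≤
      Subgroup.normalizer ((Subgroup.centralizer (H : Set G) : Subgroup G) : Set G) := by
  intro g hg
  rw [Subgroup.mem_normalizer_iff] at hg ⊢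
  intro x
  constructor
  · intro hx
    rw [Subgroup.mem_centralizer_iff] at hx ⊢
    intro h hh
    have h1 : g⁻¹ * h * g ∈ H := by
      rw [hg]; simpa [mul_assoc] using hh
    have h2 := hx _ h1
    have h3 : h * (g * x * g⁻¹) = g * ((g⁻¹ * h * g) * x) * g⁻¹ := by group
    rw [h3, h2]; group
  · intro hx
    rw [Subgroup.mem_centralizer_iff] at hx ⊢
    intro h hh
    have h1 : g * h * g⁻¹ ∈ H := (hg h).mp hh
    have h2 := hx _ h1
    have h3 : h * x = g⁻¹ * ((g * h * g⁻¹) * (g * x * g⁻¹)) * g := by group
    rw [h3, h2]; group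

end Cfsg.Agent.Lib.Helper15
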