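import Cfsg.Agent.Lib.Helper15.Cores

set_option autoImplicit false

namespace Cfsg.Agent.Lib.Helper15

open Cfsg

theorem pPrimeCore_map_equiv_le {X Y : Type*} [Group X] [Group Y] (p : ℕ) (e : X ≃* Y) :
    (pPrimeCore p X).map e.toMonoidHom ≤ pPrimeCore p Y := by
  unfold pPrimeCore
  rw [Subgroup.map_le_iff_le_comap]
  apply sSup_le
  rintro A ⟨hAn, hAp⟩
  rw [← Subgroup.map_le_iff_le_comap]
  apply le_sSup
  refine ⟨Subgroup.Normal.map hAn e.toMonoidHom e.surjective, ?_⟩
  rw [Subgroup.card_map_of_injective e.injective]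
  exact hAp

theorem pPrimeCore_map_equiv {X Y : Type*} [Group X] [Group Y] (p : ℕ) (e : X ≃* Y) :
    (pPrimeCore p X).map e.toMonoidHom = pPrimeCore p Y := by
  apply le_antisymm (pPrimeCore_map_equiv_le p e)
  have h := pPrimeCore_map_equiv_le p e.symm
  rw [← map_symm_map e (pPrimeCore p Y)]
  exact Subgroup.map_mono h

theorem pCore_characteristic (p : ℕ) (X : Type*) [Group X] : (pCore p X).Characteristic := by
  rw [Subgroup.characteristic_iff_map_eq]
  intro φ
  exact pCore_map_equiv p φ

theorem pPrimeCore_characteristic (p : ℕ) (X : Type*) [Group X] :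
    (pPrimeCore p X).Characteristic := by
  rw [Subgroup.characteristic_iff_map_eq]
  intro φ
  exact pPrimeCore_map_equiv p φ

/-- the p'-core of a normal subgroup lies in the p'-core -/
theorem map_pPrimeCore_le_of_normal {X : Type*} [Group X] [Finite X] (p : ℕ) (D : Subgroup X)
    [D.Normal] : (pPrimeCore p ↥D).map D.subtype ≤ pPrimeCore p X := by
  haveI := pPrimeCore_characteristic p ↥D
  have hn : ((pPrimeCore p ↥D).map D.subtype).Normal := ConjAct.normal_of_characteristic_of_normal
  apply Cfsg.Agent.Lib.Helper81.le_pPrimeCore hn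
  rw [Subgroup.card_map_of_injective D.subtype_injective]
  exact Cfsg.Agent.Lib.Helper81.card_pPrimeCore_coprime p

/-- the p-core of a normal subgroup lies in the p-core -/
theorem map_pCore_le_of_normal {X : Type*} [Group X] [Finite X] (p : ℕ) [Fact p.Prime]
    (D : Subgroup X) [D.Normal] : (pCore p ↥D).map D.subtype ≤ pCore p X := by
  haveI := pCore_characteristic p ↥D
  have hn : ((pCore p ↥D).map D.subtype).Normal := ConjAct.normal_of_characteristic_of_normal
  apply Cfsg.Agent.Lib.Helper81.le_pCore hn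
  exact (Cfsg.Agent.Lib.Helper81.isPGroup_pCore p).map _

theorem pPrimeCore_eq_bot_of_normal {X : Type*} [Group X] [Finite X] (p : ℕ) (D : Subgroup X)
    [D.Normal] (h : pPrimeCore p X = ⊥) : pPrimeCore p ↥D = ⊥ := by
  have h1 := map_pPrimeCore_le_of_normal p D
  rw [h, le_bot_iff] at h1
  exact (Subgroup.map_eq_bot_iff_of_injective _ D.subtype_injective).mp h1

/-- p-solvability passes to homomorphic images -/
theorem IsPSolvable.of_surjective {X Y : Type*} [Group X] [Group Y] {p : ℕ} (hp : p.Prime)
    (hX : IsPSolvable p X) (f : X →* Y) (hf : Function.Surjective f) : IsPSolvable p Y := by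
  obtain ⟨n, H, h0, hlast, hmono, hnorm, hstep⟩ := hX
  refine ⟨n, fun i => (H i).map f, ?_, ?_, ?_, ?_, ?_⟩
  · simp [h0]
  · simp only [hlast]
    rw [← MonoidHom.range_eq_map, MonoidHom.range_eq_top]
    exact hf
  · intro i j hij
    exact Subgroup.map_mono (hmono hij)
  · intro i
    exact Subgroup.Normal.map (hnorm i) _ hf
  · intro i
    apply Cfsg.Agent.Lib.Helper81.pow_or_coprime_of_dvd hp _ (hstep i)
    rw [Subgroup.relIndex_map_map]
    haveI := hnorm i.castSucc
    haveI := hnorm i.succ
    have hHH : H i.castSucc ≤ H i.succ := hmono (Fin.castSucc_le_succ i)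
    have : H i.succ ⊔ f.ker = (H i.castSucc ⊔ f.ker) ⊔ H i.succ := by
      rw [sup_comm (H i.castSucc) f.ker, sup_assoc, sup_of_le_right hHH, sup_comm]
    rw [this, Subgroup.relIndex_sup_left]
    exact Subgroup.relIndex_dvd_of_le_left _ le_sup_left

end Cfsg.Agent.Lib.Helper15
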