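import Cfsg.Agent.Lib.Helper15.BG103C
import Cfsg.Agent.Lib.Helper31.Transitivity

/-!
BG Lemma 10.3 (= S1406) from the Hall property of `M_α` (BG Theorem 10.2 (a), part of S1405).
-/

set_option autoImplicit false
open Cfsg

namespace Cfsg.Agent.Lib.Helper15.BG103

/-- BG Lemma 10.3 from the Hall property of `M_α` (BG Theorem 10.2 (a)). -/
theorem lemma_10_3_of_hall {G : Type*} [Group G] [Finite G] (hG : Cfsg.IsMinSimpleOddOrder G)
    (M : Subgroup G) (hM : IsCoatom M) (X : Subgroup G) (hXM : X ≤ M) (hXα : ∀ p : ℕ, p.Prime → p ∣ Nat.card X → p ∉ Cfsg.alpha M)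
    (hr : ¬ Cfsg.RankLE 1 ↥(Cfsg.alphaCore M ⊓ Subgroup.centralizer (X : Set G)))
    (hHall : ∀ p : ℕ, p.Prime → p ∈ Cfsg.alpha M → ¬ p ∣ (Cfsg.alphaCore M).relIndex M) :
    Cfsg.InUniqueMaximal (M ⊓ Subgroup.centralizer (X : Set G)) := by
  classical
  have hKpi : ∀ p : ℕ, p.Prime → p ∣ Nat.card (Cfsg.alphaCore M) → p ∈ Cfsg.alpha M :=
    Cfsg.Agent.Lib.Helper31.piCoreOf_pi (Cfsg.alpha M) M
  have hKM : Cfsg.alphaCore M ≤ M := Cfsg.Agent.Lib.Helper31.piCoreOf_le (Cfsg.alpha M) M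
  have hKn : M ≤ Subgroup.normalizer (Cfsg.alphaCore M : Set G) :=
    Cfsg.Agent.Lib.Helper31.le_normalizer_piCoreOf (Cfsg.alpha M) M
  -- the prime `q` and the elementary abelian subgroup
  unfold Cfsg.RankLE at hr
  push Not at hr
  obtain ⟨q, hq, hq1⟩ := hr
  haveI : Fact q.Prime := ⟨hq⟩
  obtain ⟨E₀, hE₀le, hE₀, hE₀c⟩ := exists_of_not_pRankLE _ hq1
  rw [pow_one] at hE₀c
  have hE₀q : IsPGroup q E₀ := fun g => ⟨1, Subtype.ext (by simpa using hE₀.2 g g.2)⟩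
  -- a subgroup of order `q ^ 2`
  obtain ⟨n, hn⟩ := hE₀q.exists_card_eq
  have hn2 : 2 ≤ n := by
    by_contra hlt
    push Not at hlt
    have : q ^ n ≤ q ^ 1 := Nat.pow_le_pow_right hq.pos (by omega)
    rw [pow_one, ← hn] at this
    omega
  obtain ⟨E₁, hE₁⟩ := Sylow.exists_subgroup_card_pow_prime q
    (show q ^ 2 ∣ Nat.card E₀ from hn ▸ pow_dvd_pow q hn2)
  set E : Subgroup G := E₁.map E₀.subtype with hEdef
  have hEE₀ : E ≤ E₀ := Subgroup.map_subtype_le _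
  have hEcard : Nat.card E = q ^ 2 := by
    rw [← hE₁]
    exact (Nat.card_congr (E₁.equivMapOfInjective E₀.subtype E₀.subtype_injective).toEquiv).symm
  have hEel : Cfsg.IsElementaryAbelian q E := by
    refine ⟨⟨⟨fun a b => Subtype.ext ?_⟩⟩, fun a ha => hE₀.2 a (hEE₀ ha)⟩
    have := congrArg Subtype.val (hE₀.1.is_comm.comm ⟨a.1, hEE₀ a.2⟩ ⟨b.1, hEE₀ b.2⟩)
    simpa using this
  have hEK : E ≤ Cfsg.alphaCore M := hEE₀.trans (hE₀le.trans inf_le_left)
  have hEX : E ≤ Subgroup.centralizer (X : Set G) := hEE₀.trans (hE₀le.trans inf_le_right)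
  -- `q ∈ α(M)`
  have hqα : q ∈ Cfsg.alpha M := by
    apply hKpi q hq
    have h1 : q ∣ Nat.card E := by rw [hEcard]; exact dvd_pow_self q (by norm_num)
    exact h1.trans (Subgroup.card_dvd_of_le hEK)
  have hqX : ¬ q ∣ Nat.card X := fun h => hXα q hq h hqα
  have hcop : (Nat.card X).Coprime (Nat.card (Cfsg.alphaCore M)) := by
    apply Nat.Coprime.symm
    apply Nat.coprime_of_dvd
    intro k hk hk1 hk2
    exact hXα k hk hk2 (hKpi k hk hk1)
  exact core hG M hM X hXM (Cfsg.alphaCore M) hKM hKn q hcop hqX (hHall q hq hqα) hqα.2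
    E hEK hEX hEel hEcard

end Cfsg.Agent.Lib.Helper15.BG103
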