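import Mathlib
import Cfsg.Agent.Lib.Helper15.BG139Defs
import Cfsg.Prelude.Def_Transfer

/-!
# BG Theorem 13.9 (S1378): the data of step 15 (case `r ∈ τ₂(H)`)
-/

set_option autoImplicit false

namespace Cfsg.Agent.Lib.Helper15.BG139

open Cfsg Cfsg.Agent.Lib.Helper55 Cfsg.Agent.Lib.Helper31.BG134

variable {G : Type*} [Group G]

/-- the data of step 15: a complement `EH ≥ C_{M_σ}(P) P` of `H_σ` in `H`, `A ≤ EH` elementary abelian
of order `r²`, normal in `EH`, containing `P`, with `C_A(X) = P` for all `1 ≠ X ≤ C_{M_σ}(P)`. -/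
structure T2 (M P H EH A : Subgroup G) (r : ℕ) : Prop where
  hEH : IsComplIn EH (sigmaCore H) H
  hCE : CP M P ⊔ P ≤ EH
  hAE : A ≤ EH
  hA : IsElementaryAbelian r A
  hAc : Nat.card A = r ^ 2
  hAn : EH ≤ Subgroup.normalizer (A : Set G)
  hPA : P ≤ A
  hfix : ∀ X : Subgroup G, X ≤ CP M P → X ≠ ⊥ → A ⊓ Subgroup.centralizer (X : Set G) = P

end Cfsg.Agent.Lib.Helper15.BG139
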