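import Mathlib
import Cfsg.Agent.S1350
import Cfsg.Agent.S1394
import Cfsg.Agent.S1395
import Cfsg.Agent.S1396
import Cfsg.Agent.S1408
import Cfsg.Agent.S1410
import Cfsg.Agent.Lib.Helper55.SylowIn
import Cfsg.Agent.Lib.Helper55.CoprimeGen
import Cfsg.Agent.Lib.Helper71.BG10Hall
import Cfsg.Agent.Lib.Helper59.BenderUniq
import Cfsg.Agent.Lib.Helper71.BG10Sub
import Cfsg.Agent.Lib.Helper31.Transitivity

set_option autoImplicit false

/-! Bender–Glauberman, towards Theorem 11.7 / 12.5(d): "Lemma Z".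
If `r ∉ σ(M)`, `B ≤ M` is elementary abelian of order `r ^ 2` and `C_G(B) ≤ M`, then no prime of
`σ(M)` divides `#C_G(B)`; in particular `M_σ ∩ C_G(B) = 1`. -/

namespace Cfsg.Agent.Lib.Helper15.BG11Z

open Cfsg Cfsg.Agent.Lib.Helper55

variable {G : Type*} [Group G] [Finite G]

/-- adjoining a centralizing element of order dividing `p` to an elementary abelian subgroup -/
theorem elemAb_sup_zpowers {p : ℕ} (E : Subgroup G) (hE : IsElementaryAbelian p E)
    (x : G) (hx : x ∈ Subgroup.centralizer (E : Set G)) (hxp : x ^ p = 1) :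
    IsElementaryAbelian p (E ⊔ Subgroup.zpowers x) := by
  have hxc : ∀ g ∈ E, g * x = x * g := fun g hg => (Subgroup.mem_centralizer_iff.mp hx g hg)
  have hzk : ∀ (k : ℤ) (g : G), g ∈ E → g * x ^ k = x ^ k * g := fun k g hg =>
    ((show Commute g x from hxc g hg).zpow_right k).eq
  let T : Subgroup G :=
    { carrier := {y | ∃ e ∈ E, ∃ k : ℤ, y = e * x ^ k}
      one_mem' := ⟨1, E.one_mem, 0, by simp⟩
      mul_mem' := by
        rintro a b ⟨e, he, k, rfl⟩ ⟨e', he', k', rfl⟩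
        refine ⟨e * e', E.mul_mem he he', k + k', ?_⟩
        calc e * x ^ k * (e' * x ^ k') = e * (x ^ k * e') * x ^ k' := by group
          _ = e * (e' * x ^ k) * x ^ k' := by rw [hzk k e' he']
          _ = e * e' * x ^ (k + k') := by rw [zpow_add]; group
      inv_mem' := by
        rintro a ⟨e, he, k, rfl⟩
        refine ⟨e⁻¹, E.inv_mem he, -k, ?_⟩
        rw [mul_inv_rev, ← zpow_neg, ← hzk (-k) e⁻¹ (E.inv_mem he)] }
  have hle : E ⊔ Subgroup.zpowers x ≤ T := by
    refine sup_le (fun e he => ⟨e, he, 0, by simp⟩) ?_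
    rw [Subgroup.zpowers_le]
    exact ⟨1, E.one_mem, 1, by simp⟩
  have hmem : ∀ y ∈ E ⊔ Subgroup.zpowers x, ∃ e ∈ E, ∃ k : ℤ, y = e * x ^ k := fun y hy => hle hy
  refine ⟨⟨⟨fun a b => Subtype.ext ?_⟩⟩, ?_⟩
  · obtain ⟨e, he, k, hak⟩ := hmem a.1 a.2
    obtain ⟨e', he', k', hbk⟩ := hmem b.1 b.2
    have hee : e * e' = e' * e := congrArg Subtype.val (hE.1.is_comm.comm (⟨e, he⟩ : E) ⟨e', he'⟩)
    simp only [Subgroup.coe_mul]
    rw [hak, hbk]
    calc e * x ^ k * (e' * x ^ k') = e * (x ^ k * e') * x ^ k' := by group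
      _ = e * (e' * x ^ k) * x ^ k' := by rw [hzk k e' he']
      _ = (e * e') * (x ^ k * x ^ k') := by group
      _ = (e' * e) * (x ^ k' * x ^ k) := by rw [hee, ← zpow_add, ← zpow_add, add_comm]
      _ = e' * (e * x ^ k') * x ^ k := by group
      _ = e' * (x ^ k' * e) * x ^ k := by rw [hzk k' e he]
      _ = e' * x ^ k' * (e * x ^ k) := by group
  · intro y hy
    obtain ⟨e, he, k, rfl⟩ := hmem y hy
    have hc : Commute e (x ^ k) := hzk k e he
    rw [hc.mul_pow, hE.2 e he, one_mul, ← zpow_natCast, ← zpow_mul, mul_comm, zpow_mul, zpow_natCast,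
      hxp, one_zpow]

/-- a maximal elementary abelian `r`-subgroup of `G` satisfies the transitivity hypothesis -/
theorem transHyp_of_maxElem (hG : IsMinSimpleOddOrder G) (r : ℕ) [Fact r.Prime] (B : Subgroup G)
    (hB : IsElementaryAbelian r B) (hB1 : B ≠ ⊥)
    (hmax : ∀ B' : Subgroup G, IsElementaryAbelian r B' → B ≤ B' → B' = B) :
    TransitivityHypothesis B := by
  have hBp : IsPGroup r B := fun g => ⟨1, by
    have := hB.2 g.1 g.2
    exact Subtype.ext (by simpa using this)⟩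
  have hrG : r ∣ Nat.card G := by
    have h1 : Nat.card B ≠ 1 := by
      intro h
      exact hB1 ((Subgroup.card_eq_one).mp h)
    obtain ⟨n, hn⟩ := hBp.exists_card_eq
    have hn0 : n ≠ 0 := by
      rintro rfl
      rw [pow_zero] at hn
      exact h1 hn
    have : r ∣ Nat.card B := by
      rw [hn]; exact dvd_pow_self r hn0
    exact this.trans (Subgroup.card_subgroup_dvd_card B)
  refine Cfsg.Agent.S1396.result hG r hrG B hBp hB.1 (Or.inl ⟨fun x hx => ⟨fun hxr => ?_, fun hxB => hB.2 x hxB⟩,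
    fun H hH => Cfsg.Agent.S1410.result hG r H hH⟩)
  have h1 := elemAb_sup_zpowers B hB x hx hxr
  have h2 := hmax _ h1 le_sup_left
  rw [← h2]
  exact (le_sup_right : Subgroup.zpowers x ≤ B ⊔ Subgroup.zpowers x) (Subgroup.mem_zpowers x)


theorem isPGroup_of_elemAb {r : ℕ} {B : Subgroup G} (hB : IsElementaryAbelian r B) : IsPGroup r B :=
  fun g => ⟨1, by
    have := hB.2 g.1 g.2
    exact Subtype.ext (by simpa using this)⟩

/-- a Sylow `s`-subgroup of `M_σ` is a Sylow `s`-subgroup of `M`, for `s ∈ σ(M)` -/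
theorem isSylowIn_of_sigmaCore (hG : IsMinSimpleOddOrder G) {M : Subgroup G} (hM : IsCoatom M)
    {s : ℕ} (hs : s ∈ sigma M) {Q : Subgroup G} (hQ : IsSylowIn s (sigmaCore M) Q) :
    IsSylowIn s M Q := by
  have hHall := (Cfsg.Agent.S1350.result hG M hM).1
  refine ⟨hQ.1.trans hHall.1, hQ.2.1, fun T' hT'M hT'p hle => ?_⟩
  have hn : M ≤ Subgroup.normalizer ((sigmaCore M : Subgroup G) : Set G) :=
    Cfsg.Agent.Lib.Helper31.le_normalizer_piCoreOf (sigma M) M
  have hT'σ : T' ≤ sigmaCore M := by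
    refine Cfsg.Agent.Lib.Helper71.BG10.le_of_isPiHallOf_normal hHall hn hT'M ?_
    intro q hq hqd
    haveI : Fact s.Prime := ⟨hs.1⟩
    obtain ⟨n, hn⟩ := hT'p.exists_card_eq
    rw [hn] at hqd
    have := (Nat.prime_dvd_prime_iff_eq hq hs.1).mp (hq.dvd_of_dvd_pow hqd)
    rw [this]; exact hs
  exact hQ.2.2 T' hT'σ hT'p hle

/-- **Lemma Z.**  `M` maximal, `r ∉ σ(M)`, `B ≤ M` elementary abelian of order `r ^ 2` with
`C_G(B) ≤ M`.  Then no prime of `σ(M)` divides `#C_G(B)`. -/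
theorem lemmaZ (hG : IsMinSimpleOddOrder G) {M : Subgroup G} (hM : IsCoatom M) (r : ℕ) [Fact r.Prime]
    (hr : r ∉ sigma M) (B : Subgroup G) (hBM : B ≤ M) (hB : IsElementaryAbelian r B)
    (hB2 : Nat.card B = r ^ 2) (hC : Subgroup.centralizer (B : Set G) ≤ M)
    (s : ℕ) (hs : s ∈ sigma M) : ¬ s ∣ Nat.card (Subgroup.centralizer (B : Set G)) := by
  intro hsC
  have hrp : r.Prime := Fact.out
  haveI : Fact s.Prime := ⟨hs.1⟩
  have hBp : IsPGroup r B := isPGroup_of_elemAb hB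
  have hr2 : PRankLE r 2 M := by
    by_contra h
    exact hr (Cfsg.Agent.Lib.Helper71.BG10.alpha_subset_sigma hG hM ⟨hrp, h⟩)
  have hcardsub : Nat.card (B.subgroupOf M) = r ^ 2 := by
    rw [← hB2]
    exact Nat.card_congr (Subgroup.subgroupOfEquivOfLe hBM).toEquiv
  have hr1 : ¬ PRankLE r 1 M := by
    intro h
    have h1 := h (B.subgroupOf M) ⟨⟨fun a b => by
      have := hB.1.is_comm.comm (⟨a.1.1, a.2⟩ : B) ⟨b.1.1, b.2⟩
      apply Subtype.ext; apply Subtype.ext
      exact (congrArg Subtype.val this : _)⟩⟩ (fun a ha => by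
        apply Subtype.ext
        have := hB.2 a.1 ha
        simpa using this)
    rw [hcardsub, pow_one] at h1
    have : r < r ^ 2 := by
      have := hrp.one_lt
      nlinarith
    omega
  have hmax := (Cfsg.Agent.S1408.result hG M hM r hr hr2 hr1).2 B hBM hB hB2
  have hB1 : B ≠ ⊥ := by
    rintro rfl
    rw [Subgroup.card_bot] at hB2
    have := hrp.one_lt
    have : 1 < r ^ 2 := by nlinarith
    omega
  have hTH := transHyp_of_maxElem hG r B hB hB1 hmax
  have hBC : B ≤ Subgroup.centralizer (B : Set G) := by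
    intro x hx
    rw [Subgroup.mem_centralizer_iff]
    intro y hy
    exact congrArg Subtype.val (hB.1.is_comm.comm (⟨y, hy⟩ : B) ⟨x, hx⟩)
  have hZ : ¬ RankLE 1 ↥(B ⊓ Subgroup.centralizer (B : Set G)) := by
    intro h
    have h1 := h r hrp (⊤ : Subgroup ↥(B ⊓ Subgroup.centralizer (B : Set G))) ⟨⟨fun a b => by
      have := hB.1.is_comm.comm (⟨a.1.1, a.1.2.1⟩ : B) ⟨b.1.1, b.1.2.1⟩
      apply Subtype.ext; apply Subtype.ext
      exact (congrArg Subtype.val this : _)⟩⟩ (fun a _ => by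
        apply Subtype.ext
        have := hB.2 a.1 a.2.1
        simpa using this)
    rw [Subgroup.card_top, inf_eq_left.mpr hBC, hB2, pow_one] at h1
    have : r < r ^ 2 := by
      have := hrp.one_lt
      nlinarith
    omega
  have hsr : s ≠ r := by
    rintro rfl
    exact hr hs
  have hsB : ¬ s ∣ Nat.card B := by
    rw [hB2]
    intro h
    exact hsr ((Nat.prime_dvd_prime_iff_eq hs.1 hrp).mp (hs.1.dvd_of_dvd_pow h))
  have htr := Cfsg.Agent.S1394.result hG B hTH hZ s hs.1 hsB hsC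
  -- a Sylow `r`-subgroup of `M` containing `B`
  obtain ⟨T, hT, hBT⟩ := exists_isSylowIn_ge (p := r) hBM hBp
  have hTtop : T ≠ ⊤ := by
    rintro rfl
    exact hM.1 (top_le_iff.mp hT.1)
  have hTπ : ∀ q : ℕ, q.Prime → q ∣ Nat.card T → q ∣ Nat.card B := by
    intro q hq hqd
    obtain ⟨n, hn⟩ := hT.2.1.exists_card_eq
    rw [hn] at hqd
    have := (Nat.prime_dvd_prime_iff_eq hq hrp).mp (hq.dvd_of_dvd_pow hqd)
    rw [this, hB2]
    exact dvd_pow_self r (by norm_num)
  have hsn : (B.subgroupOf T).IsSubnormal := by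
    haveI : Group.IsNilpotent ↥T := hT.2.1.isNilpotent
    exact Cfsg.Agent.Lib.Helper59.Bender.isSubnormal_of_isNilpotent _
  obtain ⟨-, -, -, hd⟩ := Cfsg.Agent.S1395.result hG B hTH s hs.1 hsB T hTtop hTπ hBT hsn htr
  -- a `T`-invariant Sylow `s`-subgroup of `M_σ`
  have hHall := Cfsg.Agent.S1350.result hG M hM
  have hnσ : M ≤ Subgroup.normalizer ((sigmaCore M : Subgroup G) : Set G) :=
    Cfsg.Agent.Lib.Helper31.le_normalizer_piCoreOf (sigma M) M
  have hcop : (Nat.card (sigmaCore M)).Coprime r := by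
    rw [Nat.coprime_comm, Nat.Prime.coprime_iff_not_dvd hrp]
    intro h
    exact hr (hHall.1.2.1 r hrp h)
  obtain ⟨Q, hQ, hTQ⟩ := exists_invariant_isSylowIn (p := r) (A := T) (N := sigmaCore M)
    hT.2.1 (hT.1.trans hnσ) hcop s
  have hQM : IsSylowIn s M Q := isSylowIn_of_sigmaCore hG hM hs hQ
  have hQidx : ¬ s ∣ Q.index := Cfsg.Agent.Lib.Helper71.BG10.sigma_not_dvd_index hs hQM
  have hQmem : Q ∈ maxInvSubgroups ⊤ T {s} := by
    refine ⟨⟨le_top, ?_, hTQ⟩, ?_⟩
    · intro q hq hqd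
      obtain ⟨n, hn⟩ := hQ.2.1.exists_card_eq
      rw [hn] at hqd
      exact (Nat.prime_dvd_prime_iff_eq hq hs.1).mp (hq.dvd_of_dvd_pow hqd)
    · rintro R ⟨-, hRπ, -⟩ hQR
      obtain ⟨n, hn⟩ : ∃ n, Nat.card R = s ^ n :=
        ⟨_, Nat.eq_prime_pow_of_unique_prime_dvd (Nat.card_pos.ne') (fun {q} hq hqd => hRπ q hq hqd)⟩
      have h1 : Q.relIndex R ∣ Q.index := Subgroup.relIndex_dvd_index_of_le hQR
      have h2 : Q.relIndex R ∣ Nat.card R := (Q.subgroupOf R).index_dvd_card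
      rw [hn] at h2
      obtain ⟨k, -, hk⟩ := (Nat.dvd_prime_pow hs.1).mp h2
      have hk0 : k = 0 := by
        by_contra hk0
        apply hQidx
        refine dvd_trans ?_ h1
        rw [hk]
        exact dvd_pow_self s hk0
      rw [hk0, pow_zero] at hk
      exact le_antisymm (Subgroup.relIndex_eq_one.mp hk) hQR
  obtain ⟨-, hN⟩ := hd Q hQmem
  have hNT : Subgroup.normalizer (T : Set G) ≤ M := by
    rw [hN]
    refine sup_le ?_ (inf_le_right.trans (Cfsg.Agent.Lib.Helper71.BG10.sigma_normalizer_le hs hQM))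
    refine (Cfsg.Agent.Lib.Helper31.piCoreOf_le _ _).trans ((Subgroup.centralizer_le ?_).trans hC)
    exact hBT
  apply hr
  refine ⟨hrp, ?_, hT.toSylow, ?_⟩
  · have : r ∣ Nat.card B := by rw [hB2]; exact dvd_pow_self r (by norm_num)
    exact this.trans (Subgroup.card_dvd_of_le hBM)
  · rw [hT.map_toSylow]; exact hNT

/-- **Lemma Z**, second form: `M_σ ∩ C_G(B) = 1`. -/
theorem sigmaCore_inf_centralizer_eq_bot (hG : IsMinSimpleOddOrder G) {M : Subgroup G} (hM : IsCoatom M)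
    (r : ℕ) [Fact r.Prime] (hr : r ∉ sigma M) (B : Subgroup G) (hBM : B ≤ M)
    (hB : IsElementaryAbelian r B) (hB2 : Nat.card B = r ^ 2)
    (hC : Subgroup.centralizer (B : Set G) ≤ M) :
    sigmaCore M ⊓ Subgroup.centralizer (B : Set G) = ⊥ := by
  by_contra hne
  have hcard : Nat.card ↥(sigmaCore M ⊓ Subgroup.centralizer (B : Set G)) ≠ 1 := by
    intro h
    exact hne (Subgroup.card_eq_one.mp h)
  obtain ⟨s, hsp, hsd⟩ := Nat.exists_prime_and_dvd hcard
  have hHall := Cfsg.Agent.S1350.result hG M hM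
  have hs : s ∈ sigma M :=
    hHall.1.2.1 s hsp (hsd.trans (Subgroup.card_dvd_of_le inf_le_left))
  exact lemmaZ hG hM r hr B hBM hB hB2 hC s hs (hsd.trans (Subgroup.card_dvd_of_le inf_le_right))

end Cfsg.Agent.Lib.Helper15.BG11Z
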