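import Mathlib
import Cfsg.Agent.Lib.Helper15.BG139Defs
import Cfsg.Agent.Lib.Helper15.BG139Defs2
import Cfsg.Agent.Lib.Helper83.BG139K2a
import Cfsg.Agent.Lib.Helper70.BG139L0
import Cfsg.Agent.Lib.Helper02.BG139L3
import Cfsg.Agent.Lib.Helper01.BG139L456
import Cfsg.Agent.Lib.Helper31.BG139L11
import Cfsg.Agent.Lib.Helper58.BG139L12a
import Cfsg.Agent.Lib.Helper58.BG139L12
import Cfsg.Agent.Lib.Helper31.BG139L13
import Cfsg.Agent.Lib.Helper21.BG139K3a
import Cfsg.Agent.Lib.Helper83.BG139K3b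
import Cfsg.Agent.Lib.Helper68.BG139L1b
import Cfsg.Agent.Lib.Helper31.BG139L178
import Cfsg.Agent.Lib.Helper31.BG139K1
import Cfsg.Agent.Lib.Helper70.BG139K2b
import Cfsg.Agent.Lib.Helper58.BG139K2c
import Cfsg.Agent.Lib.Helper83.BG139K3c
import Cfsg.Agent.Lib.Helper65.BG134G1
import Cfsg.Agent.Lib.Helper70.BG134G2
import Cfsg.Agent.Lib.Helper58.BG134G3
import Cfsg.Agent.Lib.Helper97.BG134G4
import Cfsg.Agent.Lib.Helper16.BG134Asm
import Cfsg.Agent.Lib.Helper03.FrobThompson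
import Cfsg.Agent.Lib.Helper12.CNMaxSub
import Cfsg.Agent.Lib.Helper13.BG12B
import Cfsg.Agent.Lib.Helper31.BG12a
import Cfsg.Agent.S1350
import Cfsg.Agent.S1405

/-!
# BG Theorem 13.9 (S1378): the glue (assembly of the keystones 137801-137819)
-/

set_option autoImplicit false
set_option linter.unusedVariables false
set_option linter.unusedSectionVars false

namespace Cfsg.Agent.Lib.Helper15.BG139

open Cfsg Cfsg.Agent.Lib.Helper55 Cfsg.Agent.Lib.Helper31.BG134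

variable {G : Type*} [Group G] [Finite G]

/-- **BG 13.1(a)** (Lemma T), from the S1428 pack-1 leaves G1-G4. -/
theorem t131 (hG : IsMinSimpleOddOrder G) : T131 G := by
  intro M H hM hH hnc s _ hsM X hXs hXM hXH hs1
  by_cases hX1 : X = ⊥
  · subst hX1; exact bot_le
  have hsH : s ∣ Nat.card H :=
    (Cfsg.Agent.Lib.Helper58.BG134.dvd_card_of_isPGroup_ne_bot hXs hX1).trans
      (Subgroup.card_dvd_of_le hXH)
  by_cases hσ : s ∈ sigma H
  · exact Cfsg.Agent.Lib.Helper58.BG134.centralizes_of_le_commutator hG hM hH hnc hsM hXs hXM hXH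
      (Cfsg.Agent.Lib.Helper65.BG134.le_commutator_of_mem_sigma hG hH hσ hXH hXs)
  · rcases Cfsg.Agent.Lib.Helper16.BG134.mem_tau_cases hG hH Fact.out hsH hσ with h | h | h
    · exact absurd h hs1
    · exact Cfsg.Agent.Lib.Helper97.BG134.centralizes_of_mem_tau2 hG hM hH hnc hsM h hXs hXM hXH
    · exact Cfsg.Agent.Lib.Helper58.BG134.centralizes_of_le_commutator hG hM hH hnc hsM hXs hXM
        hXH (Cfsg.Agent.Lib.Helper70.BG134.le_commutator_of_mem_tau3 hG hH h hXH hXs)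

theorem not_prime_dvd_card_bot {q : ℕ} (hq : q.Prime) :
    ¬ q ∣ Nat.card (⊥ : Subgroup G) := by
  rw [Subgroup.card_bot]
  exact hq.one_lt.ne' ∘ Nat.dvd_one.mp

/-- a prime of `τ₁(M)` divides the order of a Hall `τ₁(M)`-subgroup of a complement of `M_σ` -/
theorem tau1_dvd_card (hG : IsMinSimpleOddOrder G) {M E E₁ : Subgroup G} (hM : IsCoatom M)
    (hE : IsComplIn E (sigmaCore M) M) (hE₁ : IsPiHallOf (tau1 M) E₁ E) {u : ℕ}
    (hu : u ∈ tau1 M) : u ∣ Nat.card E₁ := by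
  have hHall := (Cfsg.Agent.S1350.result hG M hM).1
  have hup : u.Prime := hu.1
  have h1 : u ∣ Nat.card M := hu.2.2.1
  rw [← Cfsg.Agent.Lib.Helper31.IsComplIn.card_mul hE] at h1
  have h2 : u ∣ Nat.card E := by
    rcases (Nat.Prime.dvd_mul hup).mp h1 with h | h
    · exact h
    · exact absurd (hHall.2.1 u hup h) hu.2.1
  have h3 : Nat.card (E₁.subgroupOf E) * (E₁.subgroupOf E).index = Nat.card E :=
    Subgroup.card_mul_index _
  have h4 : Nat.card (E₁.subgroupOf E) = Nat.card E₁ :=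
    Nat.card_congr (Subgroup.subgroupOfEquivOfLe hE₁.1).toEquiv
  rw [h4] at h3
  rw [← h3] at h2
  rcases (Nat.Prime.dvd_mul hup).mp h2 with h | h
  · exact h
  · exact absurd h (hE₁.2.2 u hup hu)

/-- steps 3-8: `τ₁(M) ⊆ τ₁(N)` in the configuration `Cfg` -/
theorem sub_tau1 {M N S : Subgroup G} {p : ℕ} (c : Cfg M N S p) (h28 : H1428 G) (h131 : T131 G) :
    tau1 M ⊆ tau1 N := by
  obtain ⟨E, hE, -, hES⟩ := Cfsg.Agent.Lib.Helper02.BG139.Cfg.exists_compl c (P := ⊥) bot_le bot_le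
    (fun q hq hqd => absurd hqd (not_prime_dvd_card_bot hq))
  obtain ⟨E₁, E₃, d, -⟩ := Cfsg.Agent.Lib.Helper01.BG139.Cfg.exists_str c hE hES (P := ⊥) bot_le
    (fun q hq hqd => absurd hqd (not_prime_dvd_card_bot hq))
  have hpa : PrimeAct M E₁ := Cfsg.Agent.Lib.Helper31.BG139.primeAct c.hG c.hM h28 hE d.hE₁
  intro u hu
  exact Cfsg.Agent.Lib.Helper31.BG139.Cfg.tau1_sub c d hpa h131 u hu.1 (tau1_dvd_card c.hG c.hM hE d.hE₁ hu)

/-- the consequence of steps 0-8 used in part II -/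
theorem sigmaTau (hG : IsMinSimpleOddOrder G) (h28 : H1428 G) (h131 : T131 G) : SigmaTau G := by
  intro M L hM hL hnc q hqM hqL r hr hrL
  obtain ⟨g, S, c⟩ := Cfsg.Agent.Lib.Helper70.BG139.exists_cfg hG hM hL hnc hqM hqL
  have h1 : r ∈ tau1 (cj g L) := sub_tau1 c h28 h131 hr
  have : Fact r.Prime := ⟨hr.1⟩
  exact h1.2.1 (Cfsg.Agent.Lib.Helper31.BG12.mem_sigma_cj hrL g)

/-- the fixed-point-freeness of `E₁` on `S` from prime action and `C_S(E₁) = 1` -/
theorem fpf_of_primeAct {M S E₁ : Subgroup G} (hSσ : S ≤ sigmaCore M) (hpa : PrimeAct M E₁)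
    (hfix : S ⊓ Subgroup.centralizer (E₁ : Set G) = ⊥) :
    ∀ e ∈ E₁, e ≠ 1 → ∀ u ∈ S, e * u = u * e → u = 1 := by
  intro e he he1 u hu heu
  have h1 : u ∈ sigmaCore M ⊓ Subgroup.centralizer ({e} : Set G) := by
    refine ⟨hSσ hu, ?_⟩
    exact Subgroup.mem_centralizer_singleton_iff.mpr heu.symm
  have h2 : u ∈ S ⊓ Subgroup.centralizer (E₁ : Set G) := ⟨hu, hpa e he he1 h1⟩
  rw [hfix] at h2
  exact Subgroup.mem_bot.mp h2

/-- step 11 for one side: `|E₁|` is prime -/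
theorem card_E1_prime {M N S E E₁ E₃ : Subgroup G} {p : ℕ} (c : Cfg M N S p)
    (d : Str M S E E₁ E₃) (hpa : PrimeAct M E₁) : (Nat.card E₁).Prime := by
  obtain ⟨hSσ, hS1, hSab, hSc, hpα, hpβ⟩ := Cfsg.Agent.Lib.Helper31.BG139.Cfg.basic c
  have hE₁1 : E₁ ≠ ⊥ := by
    rintro rfl
    apply hS1
    have := d.hfix
    rw [Subgroup.coe_bot, Subgroup.centralizer_eq_top_iff_subset.mpr (by simp), inf_top_eq] at this
    exact this
  obtain ⟨t, T, ht, hT, hTα, hST, hPT, hcop, hncT⟩ :=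
    Cfsg.Agent.Lib.Helper31.BG139.Cfg.exists_inv_sylow_alpha c d (Cfsg.Agent.Lib.Helper68.BG139.Cfg.alphaCore_ne_bot c) hpα
  have : Fact p.Prime := ⟨c.hpM.1⟩
  have hSnil : Group.IsNilpotent S := c.hS.2.1.isNilpotent
  have hασ : alphaCore M ≤ sigmaCore M := (Cfsg.Agent.S1405.result c.hG M c.hM).2.2.1
  refine Cfsg.Agent.Lib.Helper31.BG139.card_prime_of_wielandt ht hT hE₁1 hSnil (d.hE₁.1.trans d.hES)
    (fpf_of_primeAct hSσ hpa d.hfix) hST hPT hcop ?_ hncT
  intro e he he1 x hx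
  exact hpa e he he1 ⟨hασ (hTα hx.1), hx.2⟩

/-- the output of part I for the `M`-side, given the structure on both sides -/
theorem pout_of_str {M N S E E' P E₃ E₃' : Subgroup G} {p : ℕ} (c : Cfg M N S p)
    (d : Str M S E P E₃) (d' : Str N S E' P E₃') (hr : (Nat.card P).Prime)
    (hpa : PrimeAct M P) (hτ : tau1 M = tau1 N) (h131 : T131 G) :
    POut M P (Nat.card P) := by
  have hG := c.hG
  have hM := c.hM
  have hPMN : P ≤ M ⊓ N := (d.hE₁.1.trans d.hES).trans c.hNS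
  have hr1 : Nat.card P ∈ tau1 M := d.hE₁.2.1 _ hr dvd_rfl
  have h3 := Cfsg.Agent.Lib.Helper58.BG139.Str.E3_inf_centralizer hG hM d hr
  have h3' := Cfsg.Agent.Lib.Helper58.BG139.Str.E3_inf_centralizer hG c.hN d' hr
  have hCD := Cfsg.Agent.Lib.Helper58.BG139.Cfg.cent_inf_le c d d' hr hτ (Cfsg.Agent.Lib.Helper68.BG139.Cfg.tau2_empty c.symm) h131 h3 h3'
  have hP1 : P ≠ ⊥ := by
    rintro rfl
    rw [Subgroup.card_bot] at hr
    exact Nat.not_prime_one hr
  refine ⟨hG, hM, hPMN.trans inf_le_left, rfl, hr1, ?_, ?_,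
    Cfsg.Agent.Lib.Helper31.BG139.Cfg.cent_le_beta c hr rfl hr1.2.1 hPMN hCD,
    Cfsg.Agent.Lib.Helper58.BG139.Str.normalizer_le hG hM d hr h3⟩
  · intro u hu
    have := tau1_dvd_card hG hM d.hE d.hE₁ hu
    exact (Nat.prime_dvd_prime_iff_eq hu.1 hr).mp this
  · intro hbot
    apply Cfsg.Agent.Lib.Helper68.BG139.Cfg.not_nilpotent c
    apply Cfsg.Agent.Lib.Helper03.FrobThompson.isNilpotent_of_fpf (sigmaCore M) P hP1
    · intro e he u hu
      have := Cfsg.Agent.Lib.Helper71.BG11.le_normalizer_sigmaCore M ((hPMN.trans inf_le_left) he)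
      exact (Subgroup.mem_normalizer_iff.mp this u).mp hu
    · intro e he he1 u hu heu
      have h1 : u ∈ sigmaCore M ⊓ Subgroup.centralizer ({e} : Set G) := by
        refine ⟨hu, ?_⟩
        exact Subgroup.mem_centralizer_singleton_iff.mpr heu.symm
      have h2 : u ∈ CP M P := ⟨hu, hpa e he he1 h1⟩
      rw [hbot] at h2
      exact Subgroup.mem_bot.mp h2

/-- PART I: from the configuration to the two outputs -/
theorem part_one {M N S : Subgroup G} {p : ℕ} (c : Cfg M N S p) (h28 : H1428 G) (h131 : T131 G) :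
    ∃ (P : Subgroup G) (r : ℕ), POut M P r ∧ POut N P r := by
  have hG := c.hG
  -- the `M`-side
  obtain ⟨E, hE, -, hES⟩ := Cfsg.Agent.Lib.Helper02.BG139.Cfg.exists_compl c (P := ⊥) bot_le bot_le
    (fun q hq hqd => absurd hqd (not_prime_dvd_card_bot hq))
  obtain ⟨P, E₃, d, -⟩ := Cfsg.Agent.Lib.Helper01.BG139.Cfg.exists_str c hE hES (P := ⊥) bot_le
    (fun q hq hqd => absurd hqd (not_prime_dvd_card_bot hq))
  have hpa : PrimeAct M P := Cfsg.Agent.Lib.Helper31.BG139.primeAct hG c.hM h28 hE d.hE₁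
  have hr : (Nat.card P).Prime := card_E1_prime c d hpa
  have hτ : tau1 M = tau1 N :=
    Set.Subset.antisymm (sub_tau1 c h28 h131) (sub_tau1 c.symm h28 h131)
  have hPMN : P ≤ M ⊓ N := (d.hE₁.1.trans hES).trans c.hNS
  have hr1 : Nat.card P ∈ tau1 M := d.hE₁.2.1 _ hr dvd_rfl
  have hr1N : Nat.card P ∈ tau1 N := hτ ▸ hr1
  have hPprimes : ∀ q : ℕ, q.Prime → q ∣ Nat.card P → q = Nat.card P :=
    fun q hq hqd => (Nat.prime_dvd_prime_iff_eq hq hr).mp hqd
  -- the `N`-side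
  obtain ⟨E', hE', hPE', hES'⟩ := Cfsg.Agent.Lib.Helper02.BG139.Cfg.exists_compl c.symm (P := P) (hPMN.trans inf_le_right)
    (d.hE₁.1.trans hES) (fun q hq hqd => by rw [hPprimes q hq hqd]; exact hr1N.2.1)
  obtain ⟨P', E₃', d', hPP'⟩ := Cfsg.Agent.Lib.Helper01.BG139.Cfg.exists_str c.symm hE' hES' hPE'
    (fun q hq hqd => by rw [hPprimes q hq hqd]; exact hr1N)
  have hpa' : PrimeAct N P' := Cfsg.Agent.Lib.Helper31.BG139.primeAct hG c.hN h28 hE' d'.hE₁
  have hr' : (Nat.card P').Prime := card_E1_prime c.symm d' hpa'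
  have hcard : Nat.card P = Nat.card P' :=
    (Nat.prime_dvd_prime_iff_eq hr hr').mp (Subgroup.card_dvd_of_le hPP')
  have hPeq : P = P' := Subgroup.eq_of_le_of_card_ge hPP' hcard.ge
  subst hPeq
  have hτ' : tau1 N = tau1 M := hτ.symm
  exact ⟨P, Nat.card P, pout_of_str c d d' hr hpa hτ h131,
    pout_of_str c.symm d' d hr hpa' hτ' h131⟩

/-- PART II: the contradiction in a maximal subgroup containing `N_G(P)` -/
theorem part_two (hG : IsMinSimpleOddOrder G) {M N P : Subgroup G} {r : ℕ} (oM : POut M P r)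
    (oN : POut N P r) (hnc : ∀ g : G, cj g M ≠ N) (hST : SigmaTau G) (h131 : T131 G)
    (h28 : H1428 G) : False := by
  have hr : r.Prime := oM.hr1.1
  have hP1 : P ≠ ⊥ := by
    rintro rfl
    have := oM.hPc
    rw [Subgroup.card_bot] at this
    rw [← this] at hr
    exact Nat.not_prime_one hr
  have hPtop : P ≠ ⊤ := by
    rintro rfl
    exact oM.hM.1 (top_le_iff.mp oM.hPM)
  obtain ⟨H, hH, hNH⟩ := Cfsg.Agent.Lib.Helper12.CNMaxSub.exists_coatom_normalizer_le hG hP1 hPtop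
  obtain ⟨lM, hcase⟩ := Cfsg.Agent.Lib.Helper31.BG139.POut.loc oM hH hNH hST h131
  obtain ⟨lN, -⟩ := Cfsg.Agent.Lib.Helper31.BG139.POut.loc oN hH hNH hST h131
  have hnc' : ∀ g : G, cj g N ≠ M := Cfsg.Agent.Lib.Helper16.BG134.not_conj_symm hnc
  rcases hcase with hrσ | hr2
  · have hM1 := Cfsg.Agent.Lib.Helper83.BG139.sigma_primes lM lN hnc hrσ
      (fun Y h1 h2 h3 => Cfsg.Agent.Lib.Helper21.BG139.Loc.le_CP lM hrσ h131 h1 h2 h3)
    have hN1 := Cfsg.Agent.Lib.Helper83.BG139.sigma_primes lN lM hnc' hrσ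
      (fun Y h1 h2 h3 => Cfsg.Agent.Lib.Helper21.BG139.Loc.le_CP lN hrσ h131 h1 h2 h3)
    exact Cfsg.Agent.Lib.Helper83.BG139.sigma_final lM lN hnc hrσ
      (fun EH E₁ h1 h2 => Cfsg.Agent.Lib.Helper31.BG139.primeAct hG hH h28 h1 h2) hM1 hN1
  · obtain ⟨EH, A, w⟩ := Cfsg.Agent.Lib.Helper83.BG139.Loc.tau2_act lM hr2
    obtain ⟨EH', A', w'⟩ := Cfsg.Agent.Lib.Helper83.BG139.Loc.tau2_act lN hr2
    exact Cfsg.Agent.Lib.Helper58.BG139.tau2_final lM lN hnc hr2 w (Cfsg.Agent.Lib.Helper70.BG139.Loc.tau2_primes lM hr2 w)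
      (Cfsg.Agent.Lib.Helper70.BG139.Loc.tau2_primes lN hr2 w')

/-- **BG Theorem 13.9**: `σ(M) ∩ σ(N) = ∅` for non-conjugate maximal subgroups. -/
theorem sigma_disjoint (hG : IsMinSimpleOddOrder G) (h28 : H1428 G) {M N : Subgroup G}
    (hM : IsCoatom M) (hN : IsCoatom N) (hnc : ∀ g : G, cj g M ≠ N) {p : ℕ} (hpM : p ∈ sigma M)
    (hpN : p ∈ sigma N) : False := by
  have h131 := t131 hG
  obtain ⟨g, S, c⟩ := Cfsg.Agent.Lib.Helper70.BG139.exists_cfg hG hM hN hnc hpM hpN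
  obtain ⟨P, r, oM, oN⟩ := part_one c h28 h131
  exact part_two hG oM oN c.hnc (sigmaTau hG h28 h131) h131 h28

/-- the easy half: every prime divisor of `|G|` lies in some `σ(M)` -/
theorem exists_mem_sigma (hG : IsMinSimpleOddOrder G) {p : ℕ} (hp : p.Prime)
    (hpG : p ∣ Nat.card G) : ∃ M : Subgroup G, IsCoatom M ∧ p ∈ sigma M := by
  have : Fact p.Prime := ⟨hp⟩
  obtain ⟨P⟩ : Nonempty (Sylow p G) := inferInstance
  have hP1 : (P : Subgroup G) ≠ ⊥ := by
    intro h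
    have h1 := P.card_eq_multiplicity
    rw [h, Subgroup.card_bot] at h1
    have h2 : p ∣ p ^ (Nat.card G).factorization p := by
      apply dvd_pow_self
      intro h0
      have := (Nat.factorization_eq_zero_iff _ _).mp h0
      rcases this with h | h | h
      · exact h hp
      · exact h hpG
      · exact Nat.card_pos.ne' h
    rw [← h1] at h2
    exact hp.one_lt.ne' (Nat.dvd_one.mp h2)
  have hPtop : (P : Subgroup G) ≠ ⊤ := by
    intro h
    obtain ⟨-, hsimple, hnc, -⟩ := hG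
    have hpg : IsPGroup p G := by
      intro g
      obtain ⟨k, hk⟩ := P.isPGroup' ⟨g, h ▸ Subgroup.mem_top g⟩
      exact ⟨k, by simpa using congrArg Subtype.val hk⟩
    have hnil : Group.IsNilpotent G := hpg.isNilpotent
    have hsolv : Group.IsSolvable G := inferInstance
    have hcomm := (IsSimpleGroup.comm_iff_isSolvable).mpr hsolv
    exact hnc ⟨⟨fun a b => hcomm a b⟩⟩
  obtain ⟨M, hM, hNM⟩ :=
    Cfsg.Agent.Lib.Helper12.CNMaxSub.exists_coatom_normalizer_le hG hP1 hPtop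
  have hPM : (P : Subgroup G) ≤ M := Subgroup.le_normalizer.trans hNM
  have hsyl : IsSylowIn p M (P : Subgroup G) := isSylowIn_of_sylow_le P hPM
  refine ⟨M, hM, hp, ?_, hsyl.toSylow, ?_⟩
  · have : p ∣ Nat.card (P : Subgroup G) :=
      Cfsg.Agent.Lib.Helper58.BG134.dvd_card_of_isPGroup_ne_bot P.isPGroup' hP1
    exact this.trans (Subgroup.card_dvd_of_le hPM)
  · rw [hsyl.map_toSylow]
    exact hNM

/-- S1378 from S1428 -/
theorem result_of_h28 (hG : IsMinSimpleOddOrder G) (h28 : H1428 G) :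
    (∀ p : ℕ, p.Prime → p ∣ Nat.card G → ∃ M : Subgroup G, IsCoatom M ∧ p ∈ Cfsg.sigma M) ∧
      ∀ M N : Subgroup G, IsCoatom M → IsCoatom N → (Cfsg.sigma M ∩ Cfsg.sigma N).Nonempty →
        ∃ g : G, N = M.map (MulAut.conj g).toMonoidHom := by
  refine ⟨fun p hp hpG => exists_mem_sigma hG hp hpG, ?_⟩
  intro M N hM hN ⟨p, hpM, hpN⟩
  by_contra h
  exact sigma_disjoint hG h28 hM hN (fun g hg => h ⟨g, hg.symm⟩) hpM hpN

end Cfsg.Agent.Lib.Helper15.BG139
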