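import Mathlib
import Cfsg.Agent.Lib.Helper15.BG139Defs2

/-!
# BG Theorem 14.2 (S1430, S1431): shared definitions for the keystone pack K-S1430

Spec of the leaves: `notes/S1430_keystones.lean.txt`.  Paper: `notes/BG14_2_clause_direct_helper74.md`
(T-X, direct route), `notes/BG14_2_regular_helper36.md`, `notes/BG14_2_helper15.md`.
-/

set_option autoImplicit false

namespace Cfsg.Agent.Lib.Helper15.BG142

open Cfsg Cfsg.Agent.Lib.Helper55 Cfsg.Agent.Lib.Helper31.BG134 Cfsg.Agent.Lib.Helper15.BG139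

variable {G : Type*} [Group G] [Finite G]

/-- the sigma-partition (S1378, BG 13.9) as a `Prop` -/
def HSP (G : Type*) [Group G] [Finite G] : Prop :=
  ∀ (M N : Subgroup G), IsCoatom M → IsCoatom N → (∀ g : G, cj g M ≠ N) →
    ∀ p : ℕ, p ∈ sigma M → p ∉ sigma N

/-- the BAD configuration: `P ≤ M` of prime order `p ∈ τ₁(M) ∪ τ₃(M)` with `C_{M_σ}(P) ≠ 1`,
`H` a maximal subgroup over `N_G(P)` with `p ∈ τ₂(H)`.  (T-X: it does not exist.) -/
structure Bad (M P H : Subgroup G) (p : ℕ) : Prop where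
  hG : IsMinSimpleOddOrder G
  hM : IsCoatom M
  hPM : P ≤ M
  hPc : Nat.card P = p
  hp13 : p ∈ tau1 M ∨ p ∈ tau3 M
  hC1 : CP M P ≠ ⊥
  hH : IsCoatom H
  hNH : Subgroup.normalizer (P : Set G) ≤ H
  hp2 : p ∈ tau2 H

/-- **T-X**: a subgroup `P` of prime order `p ∈ τ₁(M) ∪ τ₃(M)` of `M` with `C_{M_σ}(P) ≠ 1` lies in
`H_σ` for every maximal subgroup `H` over `N_G(P)`. -/
def HTX (G : Type*) [Group G] [Finite G] : Prop :=
  ∀ (M P H : Subgroup G) (p : ℕ), IsCoatom M → P ≤ M → Nat.card P = p →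
    (p ∈ tau1 M ∨ p ∈ tau3 M) → CP M P ≠ ⊥ → IsCoatom H →
    Subgroup.normalizer (P : Set G) ≤ H → p ∈ sigma H

/-- the configuration of the main argument of T-X: a BAD triple with its data `T2`, a subgroup
`T ≤ C_{M_σ}(P)` of prime order `t`, and a maximal subgroup `L` over `N_G(A)`. -/
structure TXc (M P H EH A T L : Subgroup G) (p t : ℕ) : Prop where
  b : Bad M P H p
  w : T2 M P H EH A p
  hTC : T ≤ CP M P
  hTc : Nat.card T = t
  ht : t.Prime
  hL : IsCoatom L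
  hNL : Subgroup.normalizer (A : Set G) ≤ L

/-- BG 13.7 (`tau12_regular`) in the form used by the S1353 pack -/
def H137 (G : Type*) [Group G] [Finite G] : Prop :=
  ∀ (M E P A : Subgroup G) (p q : ℕ), IsCoatom M → IsComplIn E (sigmaCore M) M → p ∈ tau1 M →
    P ≤ E → Nat.card P = p → q ∈ tau2 M → A ≤ E → IsElementaryAbelian q A → Nat.card A = q ^ 2 →
    A ⊓ Subgroup.centralizer (P : Set G) ≠ ⊥ →
    sigmaCore M ⊓ Subgroup.centralizer (P : Set G) = ⊥

/-- uniqueness (A): `M` is the only maximal subgroup over `N_G(Y)` for `Y` of prime order in the fixed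
points on `M_σ` of a subgroup of prime order `p ∈ τ₁(M) ∪ τ₃(M)`. -/
def HA (G : Type*) [Group G] [Finite G] : Prop :=
  ∀ (M P Y : Subgroup G) (p : ℕ), IsCoatom M → P ≤ M → Nat.card P = p →
    (p ∈ tau1 M ∨ p ∈ tau3 M) → Y ≤ CP M P → (Nat.card Y).Prime →
    ∀ M2 : Subgroup G, IsCoatom M2 → Subgroup.normalizer (Y : Set G) ≤ M2 → M2 = M

/-- Lemma D (BG 13.10/13.11): the structure of `M` when `κ(M) ⊄ τ₁(M)` (`E₃` nonregular). -/
def HD (G : Type*) [Group G] [Finite G] : Prop :=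
  ∀ (M E : Subgroup G), IsCoatom M → IsComplIn E (sigmaCore M) M →
    ¬ (∀ p : ℕ, p ∈ kappa M → p ∈ tau1 M) →
    (∀ p : ℕ, p.Prime → p ∣ Nat.card E → p ∈ kappa M) ∧
    (∀ x ∈ E, x ≠ 1 → sigmaCore M ⊓ Subgroup.centralizer ({x} : Set G) ≤
      Subgroup.centralizer (E : Set G)) ∧
    (∀ X : Subgroup G, X ≤ E → (Nat.card X).Prime → E ≤ Subgroup.normalizer (X : Set G))

end Cfsg.Agent.Lib.Helper15.BG142
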