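import Mathlib
import Cfsg.Agent.Lib.Helper15.BG142Defs

/-!
# BG Theorem 14.2 (S1430, S1431): the structure `KS` (output of the regular / nonregular analysis)
-/

set_option autoImplicit false

namespace Cfsg.Agent.Lib.Helper15.BG142

open Cfsg Cfsg.Agent.Lib.Helper55 Cfsg.Agent.Lib.Helper31.BG134 Cfsg.Agent.Lib.Helper15.BG139

variable {G : Type*} [Group G] [Finite G]

/-- `K* = C_{M_σ}(K)` -/
abbrev KStar (M K : Subgroup G) : Subgroup G :=
  sigmaCore M ⊓ Subgroup.centralizer (K : Set G)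

/-- the structure of `M` around a Hall `κ(M)`-subgroup `K ≠ 1` (both in the regular case
`κ(M) ⊆ τ₁(M)`, `K = E₁`, `E = U ⋊ K`, and in the nonregular case `K = E`, `U = 1`). -/
structure KS (M K E : Subgroup G) : Prop where
  hE : IsComplIn E (sigmaCore M) M
  hKE : K ≤ E
  hK1 : K ≠ ⊥
  hfac : ∀ x ∈ E, ∃ a ∈ ⁅E, E⁆, ∃ k ∈ K, x = a * k
  hpa : ∀ k ∈ K, k ≠ 1 →
    sigmaCore M ⊓ Subgroup.centralizer ({k} : Set G) = KStar M K
  hKs : KStar M K ≠ ⊥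
  h13 : ∀ X : Subgroup G, X ≤ K → (Nat.card X).Prime →
    Nat.card X ∈ tau1 M ∨ Nat.card X ∈ tau3 M
  huniq : ∀ X Y : Subgroup G, X ≤ K → Y ≤ K → (Nat.card X).Prime → Nat.card Y = Nat.card X → Y = X
  hN : ∀ X : Subgroup G, X ≤ K → (Nat.card X).Prime →
    M ⊓ Subgroup.normalizer (X : Set G) = K ⊔ KStar M K
  hNK : M ⊓ Subgroup.normalizer (K : Set G) = K ⊔ KStar M K
  hU : ∃ U : Subgroup G, IsMulCommutative U ∧
    IsPiHallOf {q | q.Prime ∧ q ∉ kappa M ∧ q ∉ sigma M} U M ∧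
    K ≤ Subgroup.normalizer (U : Set G) ∧
    ∀ k ∈ K, k ≠ 1 → U ⊓ Subgroup.centralizer ({k} : Set G) = ⊥

end Cfsg.Agent.Lib.Helper15.BG142
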