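import Mathlib
import Cfsg.Agent.Lib.Helper55.Basic
import Cfsg.Agent.Lib.Helper41.BG134Z

/-!
# BG 14.2, keystone 143011 (K-TX-11): `normalizer_of_derived_cent` (pure)
-/

set_option autoImplicit false

namespace Cfsg.Agent.Lib.Helper15.BG142

open Cfsg Cfsg.Agent.Lib.Helper55

variable {G : Type*} [Group G] [Finite G]

theorem normalizer_of_derived_cent {E S T P : Subgroup G}
    (hES : E ≤ Subgroup.normalizer (S : Set G))
    (hder : ⁅E, E⁆ ≤ Subgroup.centralizer (S : Set G)) (hTE : T ≤ E)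
    (hD : IsCyclic ↥(S ⊓ Subgroup.centralizer (T : Set G)))
    (hPD : P ≤ S ⊓ Subgroup.centralizer (T : Set G)) :
    E ≤ Subgroup.normalizer (P : Set G) := by
  intro e he
  rw [← cj_eq_self_iff]
  -- `cj e D ≤ D`
  have hDD : cj e (S ⊓ Subgroup.centralizer (T : Set G)) ≤ S ⊓ Subgroup.centralizer (T : Set G) := by
    rintro _ ⟨d, hd, rfl⟩
    have hdS : d ∈ S := hd.1
    have hdT : d ∈ Subgroup.centralizer (T : Set G) := hd.2
    refine ⟨?_, ?_⟩
    · have := (Subgroup.mem_normalizer_iff.mp (hES he) d).mp hdS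
      simpa [MulAut.conj_apply] using this
    · show (MulAut.conj e).toMonoidHom d ∈ Subgroup.centralizer (T : Set G)
      rw [Subgroup.mem_centralizer_iff]
      intro x hx
      have hxE : x ∈ E := hTE hx
      -- `c := x⁻¹ e⁻¹ x e ∈ ⁅E,E⁆` centralizes `S`
      have hc : x⁻¹ * e⁻¹ * x * e ∈ ⁅E, E⁆ := by
        have := Subgroup.commutator_mem_commutator (E.inv_mem hxE) (E.inv_mem he)
        simpa [commutatorElement_def] using this
      have hcS := hder hc
      have h1 : (x⁻¹ * e⁻¹ * x * e) * d = d * (x⁻¹ * e⁻¹ * x * e) :=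
        (Subgroup.mem_centralizer_iff.mp hcS d hdS).symm
      have h2 : x * d = d * x := Subgroup.mem_centralizer_iff.mp hdT x hx
      -- `e⁻¹ x e = x * c`
      have h3 : (e⁻¹ * x * e) * d = d * (e⁻¹ * x * e) := by
        have e1 : e⁻¹ * x * e = x * (x⁻¹ * e⁻¹ * x * e) := by group
        rw [e1, mul_assoc, h1, ← mul_assoc, h2, mul_assoc]
      simp only [MulEquiv.coe_toMonoidHom, MulAut.conj_apply]
      calc x * (e * d * e⁻¹) = e * ((e⁻¹ * x * e) * d) * e⁻¹ := by group
        _ = e * (d * (e⁻¹ * x * e)) * e⁻¹ := by rw [h3]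
        _ = e * d * e⁻¹ * x := by group
  have h1 : cj e P ≤ S ⊓ Subgroup.centralizer (T : Set G) := (cj_mono hPD).trans hDD
  exact Cfsg.Agent.Lib.Helper41.BG134.z_eq_of_le_cyclic hD h1 hPD (card_cj e P)

end Cfsg.Agent.Lib.Helper15.BG142
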