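import Mathlib
import Cfsg.Agent.S1415
import Cfsg.Agent.S1423
import Cfsg.Agent.S1426
import Cfsg.Agent.Lib.Helper12.CNMaxSub
import Cfsg.Agent.Lib.Helper13.BG12A
import Cfsg.Agent.Lib.Helper16.BG134Asm
import Cfsg.Agent.Lib.Helper31.BG139L178
import Cfsg.Agent.Lib.Helper54.BG134A3a
import Cfsg.Agent.Lib.Helper55.Uniq2
import Cfsg.Agent.Lib.Helper01.BG142TX6
import Cfsg.Agent.Lib.Helper74.BG142TX7
import Cfsg.Agent.Lib.Helper74.BG142TX8
import Cfsg.Agent.Lib.Helper82.BG142TX5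
import Cfsg.Agent.Lib.Helper16.BG142K10
import Cfsg.Agent.Lib.Helper93.BG142TX12
import Cfsg.Agent.Lib.Helper83.BG142TX13
import Cfsg.Agent.Lib.Helper83.BG142TX9
import Cfsg.Agent.Lib.Helper15.BG142TX11

/-!
# BG 14.2, keystone 143014 (K-TX-14): the assembly `TXc.false_of` of steps (4)-(8) of T-X
-/

set_option autoImplicit false
set_option linter.unusedSectionVars false
set_option linter.unusedVariables false
set_option linter.style.haveILetI false

namespace Cfsg.Agent.Lib.Helper15.BG142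

open Cfsg Cfsg.Agent.Lib.Helper55 Cfsg.Agent.Lib.Helper31.BG134 Cfsg.Agent.Lib.Helper15.BG139

variable {G : Type*} [Group G] [Finite G]

theorem TXc.false_of {M P H EH A T L : Subgroup G} {p t : ℕ} (c : TXc M P H EH A T L p t)
    (hSP : HSP G) (hT : T131 G) (h28 : H1428 G)
    (hX : ∀ (H2 P' : Subgroup G) (p' : ℕ), Bad L T H2 t → P' ≤ CP L T → Nat.card P' = p' → p'.Prime →
      p' ≠ t → p' ∣ t - 1) : False := by
  have hG := c.b.hG
  have hM := c.b.hM
  have hH := c.b.hH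
  have hL := c.hL
  have hp : p.Prime := c.b.hp2.1
  haveI : Fact p.Prime := ⟨hp⟩
  have ht : t.Prime := c.ht
  haveI : Fact t.Prime := ⟨ht⟩
  have hbL := Cfsg.Agent.Lib.Helper01.BG142.TXc.basicL c hSP
  obtain ⟨hpL, hEHL, hLH, hncL, hAL, htM, htL, hpβ⟩ := id hbL
  have ht2 := Cfsg.Agent.Lib.Helper74.BG142.TXc.not_tau2 c hbL
  have htp_ne : t ≠ p := fun h => htL (h ▸ hpL)
  have htp : t ∣ p - 1 :=
    Cfsg.Agent.Lib.Helper82.BG142.T2.dvd_pred c.w hp c.b.hPc c.hTC c.hTc ht htp_ne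
  have huniq := Cfsg.Agent.Lib.Helper74.BG142.TXc.uniq c hSP hbL ht2 htp hX
  -- `N_G(T) ≤ M`
  have hT1 : T ≠ ⊥ := by
    intro h
    have := c.hTc
    rw [h, Subgroup.card_bot] at this
    exact ht.one_lt.ne this
  have hTEH : T ≤ EH := c.hTC.trans (le_sup_left.trans c.w.hCE)
  have hTL : T ≤ L := hTEH.trans hEHL
  have hTtop : T ≠ ⊤ := fun h => hL.1 (top_le_iff.mp (h ▸ hTL))
  obtain ⟨H2, hH2, hNT2⟩ :=
    Cfsg.Agent.Lib.Helper12.CNMaxSub.exists_coatom_normalizer_le hG hT1 hTtop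
  have hNTM : Subgroup.normalizer (T : Set G) ≤ M := by
    have := huniq H2 hH2 hNT2
    rw [← this]; exact hNT2
  have hTA : T ≤ Subgroup.normalizer (A : Set G) := hTEH.trans c.w.hAn
  have hTσ : ∀ q : ℕ, q.Prime → q ∣ Nat.card T → q ∉ sigma L := by
    intro q hq hqd
    rw [c.hTc] at hqd
    rw [(Nat.prime_dvd_prime_iff_eq hq ht).mp hqd]
    exact htL
  have hAp : IsPGroup p A := IsPGroup.of_card c.w.hAc
  obtain ⟨S, EL, hS, hAS, hEL, hTEL, hELS⟩ :=
    Cfsg.Agent.Lib.Helper83.BG142.exists_sylow_compl hG hL hpL hAp hAL hTL hTA hTσ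
  have hder := Cfsg.Agent.Lib.Helper16.BG142.derived_cent_sylow hG hL hEL hpL hpβ hS.2.1 hS.1 hELS
  -- `D := S ⊓ C(T) ≤ M` is cyclic
  have hp1 : PRankLE p 1 M := by
    rcases c.b.hp13 with h | h
    · exact h.2.2.2.2
    · exact h.2.2.2
  have hP1 : P ≠ ⊥ := by
    intro h
    have := c.b.hPc
    rw [h, Subgroup.card_bot] at this
    exact hp.one_lt.ne this
  have hPp : IsPGroup p P := IsPGroup.of_card (n := 1) (by rw [c.b.hPc, pow_one])
  have hp2' : p ≠ 2 := ms_prime_ne_two hG hPp hP1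
  have hDM : S ⊓ Subgroup.centralizer (T : Set G) ≤ M :=
    inf_le_right.trans ((Subgroup.centralizer_le_normalizer _).trans hNTM)
  have hDp : IsPGroup p ↥(S ⊓ Subgroup.centralizer (T : Set G)) := hS.2.1.to_le inf_le_left
  have hDc : IsCyclic ↥(S ⊓ Subgroup.centralizer (T : Set G)) :=
    Cfsg.Agent.Lib.Helper13.BG12.isCyclic_of_pRankLE_one hp2' hp1 hDM hDp
  have hPT : P ≤ Subgroup.centralizer (T : Set G) := by
    intro y hy
    rw [Subgroup.mem_centralizer_iff]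
    intro z hz
    exact (Subgroup.mem_centralizer_iff.mp (c.hTC hz).2 y hy).symm
  have hPD : P ≤ S ⊓ Subgroup.centralizer (T : Set G) := le_inf (c.w.hPA.trans hAS) hPT
  have hELP : EL ≤ Subgroup.normalizer (P : Set G) :=
    normalizer_of_derived_cent hELS hder hTEL hDc hPD
  have hELH : EL ≤ H := hELP.trans c.b.hNH
  have hPL : P ≤ sigmaCore L := c.w.hPA.trans hAL
  have hPH : P ≤ H := Subgroup.le_normalizer.trans c.b.hNH
  have hτ2 := Cfsg.Agent.Lib.Helper93.BG142.tau2_empty_of_compl_le hG hL hH hLH hEL hELH hPL hPH hP1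
  have htdL : t ∣ Nat.card L := by
    rw [← c.hTc]; exact Subgroup.card_dvd_of_le hTL
  rcases Cfsg.Agent.Lib.Helper16.BG134.mem_tau_cases hG hL ht htdL htL with h1 | h2 | h3
  · -- `t ∈ τ₁(L)`
    have hPC : P ≤ Subgroup.centralizer (EL : Set G) :=
      Cfsg.Agent.Lib.Helper83.BG142.cent_compl_of_tau1 hG hL hEL hτ2 h1 hTEL c.hTc hS.1 hder hPD
        (fun E₁ hE₁ => Cfsg.Agent.Lib.Helper31.BG139.primeAct hG hL h28 hEL hE₁)
    have h26 := (Cfsg.Agent.S1426.result hG L hL EL hEL).1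
    have hPd : P ≤ ⁅sigmaCore L, sigmaCore L⁆ := (le_inf hPL hPC).trans h26
    have hPLL : P ≤ L := hPL.trans (Cfsg.Agent.Lib.Helper71.BG11.sigmaCore_le L)
    obtain ⟨⟨-, huL⟩, -, -⟩ := Cfsg.Agent.S1423.result hG L hL p hpL P hPLL c.b.hPc default
      (Or.inr hPd)
    exact hLH (huL H hH ((Subgroup.centralizer_le_normalizer _).trans c.b.hNH)).symm
  · exact ht2 h2
  · -- `t ∈ τ₃(L)`
    have hELL : EL ≤ L := hEL.1
    have hELtop : EL ≠ ⊤ := fun h => hL.1 (top_le_iff.mp (h ▸ hELL))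
    have hsolv : Group.IsSolvable ↥EL := ms_solvable hG hELtop
    obtain ⟨E₃, hE₃, hTE₃⟩ := Cfsg.Agent.Lib.Helper54.BG134.exists_isPiHallOf_ge hsolv (tau3 L) hTEL
      (by
        intro q hq hqd
        rw [c.hTc] at hqd
        rw [(Nat.prime_dvd_prime_iff_eq hq ht).mp hqd]
        exact h3)
    obtain ⟨-, hE₃d, -⟩ := (Cfsg.Agent.S1415.result hG L hL EL hEL).2.2 E₃ hE₃
    have hTS : T ≤ Subgroup.centralizer (S : Set G) := hTE₃.trans (hE₃d.trans hder)
    have hAT : A ≤ Subgroup.centralizer (T : Set G) := by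
      intro a ha
      rw [Subgroup.mem_centralizer_iff]
      intro z hz
      exact (Subgroup.mem_centralizer_iff.mp (hTS hz) a (hAS ha)).symm
    have hfix := c.w.hfix T c.hTC hT1
    rw [inf_of_le_left hAT] at hfix
    have h2 := c.w.hAc
    rw [hfix, c.b.hPc] at h2
    have h3' : p * 1 = p * p := by rw [mul_one, ← sq]; exact h2
    have h4 : 1 = p := Nat.eq_of_mul_eq_mul_left hp.pos h3'
    exact hp.one_lt.ne h4

end Cfsg.Agent.Lib.Helper15.BG142
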