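import Mathlib
import Cfsg.Agent.S1409
import Cfsg.Agent.Lib.Helper12.CNMaxSub
import Cfsg.Agent.Lib.Helper96.BG142TX1
import Cfsg.Agent.Lib.Helper70.BG142F
import Cfsg.Agent.Lib.Helper83.BG142TX3
import Cfsg.Agent.Lib.Helper15.BG142TX14

/-!
# BG 14.2: glue of Part A (T-X by the direct route)
-/

set_option autoImplicit false

namespace Cfsg.Agent.Lib.Helper15.BG142

open Cfsg Cfsg.Agent.Lib.Helper55 Cfsg.Agent.Lib.Helper31.BG134 Cfsg.Agent.Lib.Helper15.BG139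

variable {G : Type*} [Group G] [Finite G]

theorem Bad.prime {M P H : Subgroup G} {p : ℕ} (b : Bad M P H p) : p.Prime := b.hp2.1

theorem Bad.exists_T2 {M P H : Subgroup G} {p : ℕ} (b : Bad M P H p) (hSP : HSP G) (hT : T131 G) :
    ∃ EH A : Subgroup G, T2 M P H EH A p := by
  have hb := Cfsg.Agent.Lib.Helper96.BG142.Bad.basic b hSP hT
  have hp : p.Prime := b.prime
  haveI : Fact p.Prime := ⟨hp⟩
  have hpσ : p ∉ sigma M := by rcases b.hp13 with h | h <;> exact h.2.1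
  have hp1 : PRankLE p 1 M := by
    rcases b.hp13 with h | h
    · exact h.2.2.2.2
    · exact h.2.2.2
  exact Cfsg.Agent.Lib.Helper83.BG142.Bad.act b hb (fun A Y hPA hA hAc hY hYc hAY =>
    Cfsg.Agent.Lib.Helper70.BG142.no_cent_elemAb b.hG hSP b.hM hpσ hp1 b.hPM b.hPc hPA hA hAc hY hYc hAY)

/-- **T-X** -/
theorem htx (hG : IsMinSimpleOddOrder G) (hSP : HSP G) (hT : T131 G) (h28 : H1428 G) : HTX G := by
  intro M P H p hM hPM hPc hp13 hC1 hH hNH
  by_contra hpσ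
  have hp : p.Prime := by rcases hp13 with h | h <;> exact h.1
  haveI : Fact p.Prime := ⟨hp⟩
  have h09 := Cfsg.Agent.S1409.result hG H hH p hpσ P hPc hNH
  have hp2 : p ∈ tau2 H := ⟨hp, hpσ, h09.1.1, h09.1.2⟩
  have b : Bad M P H p := ⟨hG, hM, hPM, hPc, hp13, hC1, hH, hNH, hp2⟩
  obtain ⟨EH, A, w⟩ := b.exists_T2 hSP hT
  -- a subgroup `T ≤ C_{M_σ}(P)` of prime order
  have hc1 : Nat.card ↥(CP M P) ≠ 1 := fun h => hC1 (Subgroup.card_eq_one.mp h)
  obtain ⟨t, ht, htd⟩ := Nat.exists_prime_and_dvd hc1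
  haveI : Fact t.Prime := ⟨ht⟩
  obtain ⟨x, hx⟩ := exists_prime_orderOf_dvd_card' t htd
  have hxG : orderOf (x : G) = t := by rw [Subgroup.orderOf_coe, hx]
  have hTC : Subgroup.zpowers (x : G) ≤ CP M P := Subgroup.zpowers_le.mpr x.2
  have hTc : Nat.card ↥(Subgroup.zpowers (x : G)) = t := by rw [Nat.card_zpowers, hxG]
  -- `L ≥ N_G(A)`
  have hA1 : A ≠ ⊥ := by
    intro h
    have := w.hAc
    rw [h, Subgroup.card_bot] at this
    have h2 : 1 < p ^ 2 := Nat.one_lt_pow (by norm_num) hp.one_lt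
    omega
  have hAtop : A ≠ ⊤ := by
    intro h
    have hle : A ≤ H := w.hAE.trans w.hEH.1
    rw [h] at hle
    exact hH.1 (top_le_iff.mp hle)
  obtain ⟨L, hL, hNL⟩ := Cfsg.Agent.Lib.Helper12.CNMaxSub.exists_coatom_normalizer_le hG hA1 hAtop
  have c : TXc M P H EH A (Subgroup.zpowers (x : G)) L p t := ⟨b, w, hTC, hTc, ht, hL, hNL⟩
  exact TXc.false_of c hSP hT h28 (fun H2 P' p' b' hP' hP'c hp' hne => by
    obtain ⟨EH', A', w'⟩ := b'.exists_T2 hSP hT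
    exact Cfsg.Agent.Lib.Helper82.BG142.T2.dvd_pred w' ht hTc hP' hP'c hp' hne)

end Cfsg.Agent.Lib.Helper15.BG142
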