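import Mathlib
import Cfsg.Agent.S1428
import Cfsg.Agent.Lib.Helper15.BG139Glue
import Cfsg.Agent.Lib.Helper15.BG142GlueA
import Cfsg.Agent.Lib.Helper52.BG142TX15

/-!
# BG 14.2: T-X and BG 13.7, unconditional

* `htx' hG : HTX G`  (T-X: a subgroup `P ≤ M` of prime order `p ∈ τ₁(M) ∪ τ₃(M)` with
  `C_{M_σ}(P) ≠ 1` lies in `H_σ` for every maximal subgroup `H ≥ N_G(P)`)
* `h137 hG : H137 G`  (BG 13.7, `tau12_regular`)
* `hsp hG : HSP G` (sigma-partition, S1378), `h1428 hG : H1428 G` (S1428)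
-/

set_option autoImplicit false

namespace Cfsg.Agent.Lib.Helper15.BG142

open Cfsg Cfsg.Agent.Lib.Helper55 Cfsg.Agent.Lib.Helper31.BG134 Cfsg.Agent.Lib.Helper15.BG139

variable {G : Type*} [Group G] [Finite G]

theorem h1428 (hG : IsMinSimpleOddOrder G) : H1428 G :=
  fun M hM E hE p hp P hPE hP R hRE hR =>
    Cfsg.Agent.S1428.result hG M hM E hE p hp P hPE hP R hRE hR

theorem hsp (hG : IsMinSimpleOddOrder G) : HSP G :=
  fun _ _ hM hN hnc _ hpM hpN => sigma_disjoint hG (h1428 hG) hM hN hnc hpM hpN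

/-- **T-X** -/
theorem htx' (hG : IsMinSimpleOddOrder G) : HTX G :=
  htx hG (hsp hG) (Cfsg.Agent.Lib.Helper15.BG139.t131 hG) (h1428 hG)

/-- **BG 13.7** (`tau12_regular`) -/
theorem h137 (hG : IsMinSimpleOddOrder G) : H137 G :=
  Cfsg.Agent.Lib.Helper52.BG142.h137_of_htx hG (hsp hG) (htx' hG)

/-- BG 13.7 in the form of helper58's keystone 135307 -/
theorem tau12_regular (hG : IsMinSimpleOddOrder G) {M E P A : Subgroup G} (hM : IsCoatom M)
    (hE : IsComplIn E (sigmaCore M) M) {p q : ℕ} (hp : p ∈ tau1 M) (hPE : P ≤ E)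
    (hPc : Nat.card P = p) (hq : q ∈ tau2 M) (hAE : A ≤ E) (hA : IsElementaryAbelian q A)
    (hAc : Nat.card A = q ^ 2) (hCA : A ⊓ Subgroup.centralizer (P : Set G) ≠ ⊥) :
    sigmaCore M ⊓ Subgroup.centralizer (P : Set G) = ⊥ :=
  h137 hG M E P A p q hM hE hp hPE hPc hq hAE hA hAc hCA

end Cfsg.Agent.Lib.Helper15.BG142
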