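import Mathlib
import Cfsg.Agent.S1350
import Cfsg.Agent.Lib.Helper13.BG12B
import Cfsg.Agent.Lib.Helper31.FittingHall
import Cfsg.Agent.Lib.Helper71.BG11a
import Cfsg.Agent.Lib.Helper15.BG142Defs2
import Cfsg.Agent.Lib.Helper86.BG142D1
import Cfsg.Agent.Lib.Helper82.BG142D2
import Cfsg.Agent.Lib.Helper93.BG142D3
import Cfsg.Agent.Lib.Helper57.BG142D4

/-!
# BG 14.2, keystone 143031 (K-D5): `ks_nonregular` (the structure `KS` from Lemma D)
-/

set_option autoImplicit false
set_option linter.unusedSectionVars false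
set_option linter.unusedVariables false

namespace Cfsg.Agent.Lib.Helper15.BG142

open Cfsg Cfsg.Agent.Lib.Helper55 Cfsg.Agent.Lib.Helper31.BG134 Cfsg.Agent.Lib.Helper15.BG139

variable {G : Type*} [Group G] [Finite G]

theorem ks_nonregular (hG : IsMinSimpleOddOrder G) (hD : HD G) {M K : Subgroup G} (hM : IsCoatom M)
    (hK : IsPiHallOf (kappa M) K M) (hK1 : K ≠ ⊥)
    (hκ : ¬ ∀ p : ℕ, p ∈ kappa M → p ∈ tau1 M) : ∃ E : Subgroup G, KS M K E := by
  classical
  have hHall := (Cfsg.Agent.S1350.result hG M hM).1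
  have hKσ : ∀ p : ℕ, p.Prime → p ∣ Nat.card K → p ∉ sigma M := fun p hp hpd =>
    (hK.2.1 p hp hpd).2.2.1
  obtain ⟨E, hE, hKE⟩ := Cfsg.Agent.Lib.Helper13.BG12.exists_complIn_ge hG hM hHall hK.1 hKσ
  obtain ⟨hEκ, hpa, hnorm⟩ := hD M E hM hE hκ
  have hKeq : K = E := Cfsg.Agent.Lib.Helper86.BG142.compl_eq_of_hall_kappa hE.1 hKE hK hEκ
  subst hKeq
  have hKM : K ≤ M := hE.1
  have hMn : M ≤ Subgroup.normalizer (sigmaCore M : Set G) :=
    Cfsg.Agent.Lib.Helper71.BG11.le_normalizer_sigmaCore M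
  -- prime action as an equality
  have hpa' : ∀ k ∈ K, k ≠ 1 →
      sigmaCore M ⊓ Subgroup.centralizer ({k} : Set G) = KStar M K := by
    intro k hk hk1
    apply le_antisymm
    · exact le_inf inf_le_left (hpa k hk hk1)
    · exact inf_le_inf_left _ (Subgroup.centralizer_le (by
        intro y hy
        rw [Set.mem_singleton_iff] at hy
        rw [hy]; exact hk))
  -- fixed points of a nontrivial subgroup
  have hfixX : ∀ X : Subgroup G, X ≤ K → X ≠ ⊥ →
      sigmaCore M ⊓ Subgroup.centralizer (X : Set G) = KStar M K := by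
    intro X hXK hX1
    obtain ⟨x, hx1⟩ := (Subgroup.ne_bot_iff_exists_ne_one).mp hX1
    have hxX' : (x : G) ∈ X := x.2
    have hx1' : (x : G) ≠ 1 := fun h => hx1 (Subtype.ext h)
    apply le_antisymm
    · rw [← hpa' (x : G) (hXK hxX') hx1']
      exact inf_le_inf_left _ (Subgroup.centralizer_le (by
        intro y hy
        rw [Set.mem_singleton_iff] at hy
        rw [hy]; exact hxX'))
    · exact inf_le_inf_left _ (Subgroup.centralizer_le (SetLike.coe_subset_coe.mpr hXK))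
  have hprime_ne_bot : ∀ X : Subgroup G, (Nat.card X).Prime → X ≠ ⊥ := by
    intro X hXp h
    rw [h, Subgroup.card_bot] at hXp
    exact Nat.not_prime_one hXp
  have hXκ : ∀ X : Subgroup G, X ≤ K → (Nat.card X).Prime → Nat.card X ∈ kappa M :=
    fun X hXK hXp => hEκ _ hXp (Subgroup.card_dvd_of_le hXK)
  refine ⟨K, ⟨hE, le_rfl, hK1, ?_, hpa', ?_, ?_, ?_, ?_, ?_, ?_⟩⟩
  · -- hfac
    intro x hx
    exact ⟨1, Subgroup.one_mem _, x, hx, (one_mul x).symm⟩
  · -- hKs
    have hc1 : Nat.card K ≠ 1 := fun h => hK1 (Subgroup.card_eq_one.mp h)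
    obtain ⟨p, hp, hpd⟩ := Nat.exists_prime_and_dvd hc1
    haveI : Fact p.Prime := ⟨hp⟩
    obtain ⟨x, hx⟩ := exists_prime_orderOf_dvd_card' p hpd
    have hxG : orderOf (x : G) = p := by rw [Subgroup.orderOf_coe, hx]
    have hPK : Subgroup.zpowers (x : G) ≤ K := Subgroup.zpowers_le.mpr x.2
    have hPc : Nat.card ↥(Subgroup.zpowers (x : G)) = p := by rw [Nat.card_zpowers, hxG]
    have hC := (Cfsg.Agent.Lib.Helper57.BG142.kappa_facts hM (hEκ p hp hpd)).2.1
      (Subgroup.zpowers (x : G)) (hPK.trans hKM) hPc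
    have hP1 : Subgroup.zpowers (x : G) ≠ ⊥ := hprime_ne_bot _ (by rw [hPc]; exact hp)
    rw [← hfixX _ hPK hP1]
    exact hC
  · -- h13
    intro X hXK hXp
    exact (Cfsg.Agent.Lib.Helper57.BG142.kappa_facts hM (hXκ X hXK hXp)).1
  · -- huniq
    apply Cfsg.Agent.Lib.Helper82.BG142.uniq_prime_sub_of_normal _ hnorm
    intro r _ R
    by_cases hrd : r ∣ Nat.card K
    · exact (Cfsg.Agent.Lib.Helper57.BG142.kappa_facts hM (hEκ r Fact.out hrd)).2.2 K hKM R
    · have hcard : Nat.card (R : Subgroup K) = 1 := by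
        rw [Sylow.card_eq_multiplicity, Nat.factorization_eq_zero_of_not_dvd hrd, pow_zero]
      have : (R : Subgroup K) = ⊥ := Subgroup.card_eq_one.mp hcard
      rw [this]
      infer_instance
  · -- hN
    intro X hXK hXp
    rw [Cfsg.Agent.Lib.Helper93.BG142.normalizer_inf_eq_of_normal hE hMn hXK (hnorm X hXK hXp),
      hfixX X hXK (hprime_ne_bot X hXp)]
  · -- hNK
    exact Cfsg.Agent.Lib.Helper93.BG142.normalizer_inf_eq_of_normal hE hMn le_rfl
      Subgroup.le_normalizer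
  · -- hU
    refine ⟨⊥, ?_, ⟨bot_le, ?_, ?_⟩, ?_, ?_⟩
    · exact ⟨⟨fun a b => Subsingleton.elim _ _⟩⟩
    · intro p hp hpd
      rw [Subgroup.card_bot] at hpd
      exact absurd (Nat.dvd_one.mp hpd) hp.one_lt.ne'
    · intro p hp hpπ hdvd
      rw [Subgroup.relIndex_bot_left] at hdvd
      rw [← Cfsg.Agent.Lib.Helper31.IsComplIn.card_mul hE] at hdvd
      rcases (Nat.Prime.dvd_mul hp).mp hdvd with h | h
      · exact hpπ.2.1 (hEκ p hp h)
      · exact hpπ.2.2 (Cfsg.Agent.Lib.Helper71.BG11.sigmaCore_pi hG hM hp h)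
    · intro k _
      rw [Subgroup.mem_normalizer_iff]
      intro h
      simp [Subgroup.mem_bot]
    · intro k _ _
      exact bot_inf_eq _

end Cfsg.Agent.Lib.Helper15.BG142
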