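import Mathlib
import Cfsg.Agent.S0023
import Cfsg.Agent.S1350
import Cfsg.Agent.Lib.Helper13.BG12B
import Cfsg.Agent.Lib.Helper71.BG11a
import Cfsg.Agent.Lib.Helper15.BG142Defs2

/-!
# BG 14.2, keystone 143034 (K-U3): `KS.sylow_not_comm`
-/

set_option autoImplicit false
set_option linter.unusedSectionVars false
set_option linter.unusedVariables false

namespace Cfsg.Agent.Lib.Helper15.BG142

open Cfsg Cfsg.Agent.Lib.Helper55 Cfsg.Agent.Lib.Helper31.BG134 Cfsg.Agent.Lib.Helper15.BG139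

variable {G : Type*} [Group G] [Finite G]

theorem KS.sylow_not_comm (hG : IsMinSimpleOddOrder G) {M K E S : Subgroup G} (hM : IsCoatom M)
    (ks : KS M K E) {q : ℕ} [Fact q.Prime] (hq : q ∣ Nat.card ↥(KStar M K)) (hqβ : q ∉ beta M)
    (hS : IsSylowIn q (sigmaCore M) S)
    (hder : ∀ S₁ : Subgroup G, IsPGroup q S₁ → S₁ ≤ sigmaCore M →
      E ≤ Subgroup.normalizer (S₁ : Set G) → ⁅E, E⁆ ≤ Subgroup.centralizer (S₁ : Set G))
    (hU1 : ∀ S₁ : Subgroup G, IsSylowIn q (sigmaCore M) S₁ → IsMulCommutative S₁ →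
      S₁ ⊓ Subgroup.centralizer (E : Set G) = ⊥)
    (hU2 : ∀ S₁ : Subgroup G, IsSylowIn q (sigmaCore M) S₁ →
      K ≤ Subgroup.normalizer (S₁ : Set G) → S₁ ⊓ Subgroup.centralizer (K : Set G) ≠ ⊥) :
    ¬ IsMulCommutative S := by
  intro hSc
  have hEM : E ≤ M := ks.hE.1
  have hEn : E ≤ Subgroup.normalizer (sigmaCore M : Set G) :=
    hEM.trans (Cfsg.Agent.Lib.Helper71.BG11.le_normalizer_sigmaCore M)
  have hHall := (Cfsg.Agent.S1350.result hG M hM).1
  have hEσ := Cfsg.Agent.Lib.Helper13.BG12.complIn_prime_not_mem_sigma hHall ks.hE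
  have hcop : (Nat.card E).Coprime (Nat.card (sigmaCore M)) := by
    apply Nat.coprime_of_dvd
    intro r hr hrE hrσ
    exact hEσ r hr hrE (Cfsg.Agent.Lib.Helper71.BG11.sigmaCore_pi hG hM hr hrσ)
  have hStop : sigmaCore M ≠ ⊤ := fun h =>
    hM.1 (top_le_iff.mp (h ▸ Cfsg.Agent.Lib.Helper71.BG11.sigmaCore_le M))
  have hsolv : Group.IsSolvable ↥(sigmaCore M) := ms_solvable hG hStop
  obtain ⟨P, hP⟩ := Cfsg.Agent.S0023.result E (sigmaCore M) hEn hcop (Or.inr hsolv) q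
  have hS₁ : IsSylowIn q (sigmaCore M) ((P : Subgroup ↥(sigmaCore M)).map (sigmaCore M).subtype) :=
    isSylowIn_of_sylow P
  obtain ⟨a, ha, haS⟩ := hS.exists_conj hS₁
  have hS₁c : IsMulCommutative
      ↥((P : Subgroup ↥(sigmaCore M)).map (sigmaCore M).subtype) := by
    rw [← haS]
    haveI := hSc
    exact Subgroup.map_isMulCommutative S _
  have h1 := hU1 _ hS₁ hS₁c
  have h2 := hder _ hS₁.2.1 hS₁.1 hP
  have h3 := hU2 _ hS₁ (ks.hKE.trans hP)
  apply h3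
  rw [eq_bot_iff, ← h1]
  intro z hz
  refine ⟨hz.1, ?_⟩
  show z ∈ Subgroup.centralizer (E : Set G)
  rw [Subgroup.mem_centralizer_iff]
  intro x hx
  obtain ⟨a', ha', k, hk, rfl⟩ := ks.hfac x hx
  have e1 : a' * z = z * a' := (Subgroup.mem_centralizer_iff.mp (h2 ha') z hz.1).symm
  have e2 : k * z = z * k := Subgroup.mem_centralizer_iff.mp hz.2 k hk
  rw [mul_assoc, e2, ← mul_assoc, e1, mul_assoc]

end Cfsg.Agent.Lib.Helper15.BG142
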