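import Mathlib
import Cfsg.Agent.Lib.Helper15.BG142TX
import Cfsg.Agent.Lib.Helper15.BG142U3
import Cfsg.Agent.Lib.Helper16.BG142R6b
import Cfsg.Agent.Lib.Helper40.BG142R1
import Cfsg.Agent.Lib.Helper28.BG142A
import Cfsg.Agent.Lib.Helper65.BG142F
import Cfsg.Agent.Lib.Helper21.BG142U4
import Cfsg.Agent.Lib.Helper29.BG142U1
import Cfsg.Agent.Lib.Helper84.BG142U2
import Cfsg.Agent.Lib.Helper16.BG142K10
import Cfsg.Agent.Lib.Helper71.BG10Sub

/-!
# BG 14.2: final glue (S1430, S1431 from the structure `KS`)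
-/

set_option autoImplicit false

namespace Cfsg.Agent.Lib.Helper15.BG142

open Cfsg Cfsg.Agent.Lib.Helper55 Cfsg.Agent.Lib.Helper31.BG134 Cfsg.Agent.Lib.Helper15.BG139

variable {G : Type*} [Group G] [Finite G]

/-- (A): uniqueness -/
theorem ha (hG : IsMinSimpleOddOrder G) : HA G :=
  Cfsg.Agent.Lib.Helper28.BG142.ha_of_htx hG (hsp hG) (htx' hG)

/-- the structure `KS` in the regular case -/
theorem ks_regular (hG : IsMinSimpleOddOrder G) {M K : Subgroup G} (hM : IsCoatom M)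
    (hK : IsPiHallOf (kappa M) K M) (hK1 : K ≠ ⊥)
    (hκ : ∀ p : ℕ, p ∈ kappa M → p ∈ tau1 M) : ∃ E : Subgroup G, KS M K E :=
  Cfsg.Agent.Lib.Helper16.BG142.ks_regular_of_r1 hG (h1428 hG) (h137 hG) hM hK hK1 hκ
    (fun _ hE hKE => Cfsg.Agent.Lib.Helper40.BG142.exists_normal_compl_tau1 hG hM hE hKE)

/-- S1430 from `KS` -/
theorem s1430_of_ks (hG : IsMinSimpleOddOrder G) {M K E : Subgroup G} (hM : IsCoatom M)
    (ks : KS M K E) :
    (∀ k ∈ K, k ≠ 1 → sigmaCore M ⊓ Subgroup.centralizer ({k} : Set G) =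
        (sigmaCore M ⊓ Subgroup.centralizer (K : Set G))) ∧
      (∃ U : Subgroup G, IsMulCommutative U ∧
        IsPiHallOf {q | q.Prime ∧ q ∉ kappa M ∧ q ∉ sigma M} U M ∧
        K ≤ Subgroup.normalizer (U : Set G) ∧
        ∀ k ∈ K, k ≠ 1 → U ⊓ Subgroup.centralizer ({k} : Set G) = ⊥) ∧
      ∀ X : Subgroup G, X ≤ K → (Nat.card X).Prime →
        M ⊓ Subgroup.normalizer (X : Set G) =
          K ⊔ (sigmaCore M ⊓ Subgroup.centralizer (K : Set G)) ∧
        M ⊓ Subgroup.normalizer (K : Set G) =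
          K ⊔ (sigmaCore M ⊓ Subgroup.centralizer (K : Set G)) ∧
        ∀ Mstar : Subgroup G, IsCoatom Mstar → Subgroup.normalizer (X : Set G) ≤ Mstar →
          X ≤ sigmaCore Mstar := by
  refine ⟨ks.hpa, ks.hU, ?_⟩
  intro X hXK hXp
  refine ⟨ks.hN X hXK hXp, ks.hNK, ?_⟩
  intro Mstar hMs hNX
  have hXM : X ≤ M := hXK.trans (ks.hKE.trans ks.hE.1)
  have hC : CP M X ≠ ⊥ := by
    intro h
    apply ks.hKs
    rw [eq_bot_iff, ← h]
    exact inf_le_inf_left _ (Subgroup.centralizer_le (SetLike.coe_subset_coe.mpr hXK))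
  have hpσ : Nat.card X ∈ sigma Mstar :=
    htx' hG M X Mstar (Nat.card X) hM hXM rfl (ks.h13 X hXK hXp) hC hMs hNX
  have hHall := (Cfsg.Agent.S1350.result hG Mstar hMs).1
  apply Cfsg.Agent.Lib.Helper71.BG10.le_of_isPiHallOf_normal hHall
    (Cfsg.Agent.Lib.Helper71.BG11.le_normalizer_sigmaCore Mstar)
    (Subgroup.le_normalizer.trans hNX)
  intro q hq hqd
  rw [(Nat.prime_dvd_prime_iff_eq hq hXp).mp hqd]
  exact hpσ

/-- S1431 from `KS` -/
theorem s1431_of_ks (hG : IsMinSimpleOddOrder G) {M K E : Subgroup G} (hM : IsCoatom M)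
    (ks : KS M K E) :
    (∀ g : G, g ∉ M → (sigmaCore M ⊓ Subgroup.centralizer (K : Set G)) ⊓
        M.map (MulAut.conj g).toMonoidHom = ⊥) ∧
      (∀ g ∈ M, g ∉ K ⊔ (sigmaCore M ⊓ Subgroup.centralizer (K : Set G)) →
        K ⊓ K.map (MulAut.conj g).toMonoidHom = ⊥) ∧
      (∀ (p : ℕ), p.Prime → p ∣ Nat.card ↥(sigmaCore M ⊓ Subgroup.centralizer (K : Set G)) →
        ∀ S : Sylow p ↥(sigmaCore M),
        InUniqueMaximal ((S : Subgroup ↥(sigmaCore M)).map (sigmaCore M).subtype) ∧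
        (S : Subgroup ↥(sigmaCore M)).map (sigmaCore M).subtype ≤ M ∧
        ¬ (S : Subgroup ↥(sigmaCore M)).map (sigmaCore M).subtype ≤
          (sigmaCore M ⊓ Subgroup.centralizer (K : Set G))) ∧
      ∀ Y : Subgroup G, (∀ p : ℕ, p.Prime → p ∣ Nat.card Y → p ∈ sigma M) →
        Y ⊓ (sigmaCore M ⊓ Subgroup.centralizer (K : Set G)) ≠ ⊥ → Y ≤ sigmaCore M := by
  have hTX := htx' hG
  obtain ⟨h1, h2, h4⟩ := Cfsg.Agent.Lib.Helper65.BG142.KS.s1431_rest hG (ha hG) hM ks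
  refine ⟨h1, h2, ?_, h4⟩
  apply Cfsg.Agent.Lib.Helper21.BG142.KS.sylow_clause hG hTX hM ks
  intro q _ S hq hqβ hS
  have hqσ : q ∈ sigma M := Cfsg.Agent.Lib.Helper71.BG11.sigmaCore_pi hG hM Fact.out
    (hq.trans (Subgroup.card_dvd_of_le inf_le_left))
  exact KS.sylow_not_comm hG hM ks hq hqβ hS
    (fun S₁ hS₁ hS₁L hES =>
      Cfsg.Agent.Lib.Helper16.BG142.derived_cent_sylow hG hM ks.hE hqσ hqβ hS₁ hS₁L hES)
    (fun S₁ hS₁ hS₁c =>
      Cfsg.Agent.Lib.Helper29.BG142.sylow_inf_cent_compl_eq_bot hG hM ks.hE hqσ hqβ hS₁ hS₁c)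
    (fun S₁ hS₁ hKS₁ => by
      have hKM : K ≤ M := ks.hKE.trans ks.hE.1
      have hKn : K ≤ Subgroup.normalizer (sigmaCore M : Set G) :=
        hKM.trans (Cfsg.Agent.Lib.Helper71.BG11.le_normalizer_sigmaCore M)
      have hHall := (Cfsg.Agent.S1350.result hG M hM).1
      have hEσ := Cfsg.Agent.Lib.Helper13.BG12.complIn_prime_not_mem_sigma hHall ks.hE
      have hcop : (Nat.card K).Coprime (Nat.card (sigmaCore M)) := by
        apply Nat.Coprime.coprime_dvd_left (Subgroup.card_dvd_of_le ks.hKE)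
        apply Nat.coprime_of_dvd
        intro r hr hrE hrσ
        exact hEσ r hr hrE (Cfsg.Agent.Lib.Helper71.BG11.sigmaCore_pi hG hM hr hrσ)
      have hStop : sigmaCore M ≠ ⊤ := fun h =>
        hM.1 (top_le_iff.mp (h ▸ Cfsg.Agent.Lib.Helper71.BG11.sigmaCore_le M))
      exact Cfsg.Agent.Lib.Helper84.BG142.sylow_inf_cent_ne_bot hKn hcop
        (Or.inr (ms_solvable hG hStop)) hS₁ hKS₁ hq)

end Cfsg.Agent.Lib.Helper15.BG142
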