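import Mathlib
import Cfsg.Agent.Lib.Helper15.BG142Final
import Cfsg.Agent.Lib.Helper15.BG142D5
import Cfsg.Agent.Lib.Helper02.BG1310Final

/-!
# BG 14.2: the structure `KS` exists for every Hall `κ(M)`-subgroup `K ≠ 1`
-/

set_option autoImplicit false

namespace Cfsg.Agent.Lib.Helper15.BG142

open Cfsg Cfsg.Agent.Lib.Helper55 Cfsg.Agent.Lib.Helper31.BG134 Cfsg.Agent.Lib.Helper15.BG139

variable {G : Type*} [Group G] [Finite G]

theorem exists_ks (hG : IsMinSimpleOddOrder G) {M K : Subgroup G} (hM : IsCoatom M)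
    (hK : IsPiHallOf (kappa M) K M) (hK1 : K ≠ ⊥) : ∃ E : Subgroup G, KS M K E := by
  by_cases hκ : ∀ p : ℕ, p ∈ kappa M → p ∈ tau1 M
  · exact ks_regular hG hM hK hK1 hκ
  · exact ks_nonregular hG (Cfsg.Agent.Lib.Helper02.BG1310.hd_main hG) hM hK hK1 hκ

end Cfsg.Agent.Lib.Helper15.BG142
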