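import Cfsg.Agent.S1452
import Cfsg.Agent.S1453

/-!
BG Lemma 10.3, the `p`-group part: a `q`-group `R` of rank at least 3 (`q` odd), a set of automorphisms
of order prime to `q` fixing pointwise an elementary abelian subgroup `E` of order `q²`.  Then there is
an elementary abelian subgroup `B` of order `q²`, fixed pointwise by the automorphisms, whose centralizer
has rank at least 3.
-/

set_option autoImplicit false

namespace Cfsg.Agent.Lib.Helper15.BG103

open Cfsg

section lemmaA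
variable {R : Type*} [Group R]

/-- the commutator map `w ↦ w b w⁻¹ b⁻¹` is multiplicative on elements with central commutators -/
theorem comm_mul_of_central (b w₁ w₂ : R) (h2 : w₂ * b * w₂⁻¹ * b⁻¹ ∈ Subgroup.center R) :
    (w₁ * w₂) * b * (w₁ * w₂)⁻¹ * b⁻¹ = (w₁ * b * w₁⁻¹ * b⁻¹) * (w₂ * b * w₂⁻¹ * b⁻¹) := by
  have hc := Subgroup.mem_center_iff.mp h2
  have e1 : (w₁ * w₂) * b * (w₁ * w₂)⁻¹ * b⁻¹ = w₁ * (w₂ * b * w₂⁻¹ * b⁻¹) * (b * w₁⁻¹ * b⁻¹) := by
    group
  rw [e1, hc w₁, hc (w₁ * b * w₁⁻¹ * b⁻¹)]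
  group

theorem iterate_fixed [Finite R] (φ : MulAut R) (w u : R) (hw : φ w = w * u) (hu : φ u = u) :
    ∀ n : ℕ, (φ ^ n) w = w * u ^ n := by
  intro n
  induction n with
  | zero => simp
  | succ n ih =>
    rw [pow_succ', MulAut.mul_apply, ih, map_mul, map_pow, hw, hu, pow_succ, mul_assoc]
    congr 1
    exact (pow_mul_comm' u n).symm ▸ rfl

/-- transfer of rank bounds to subgroups of the ambient group -/
theorem card_le_of_pRankLE {p k : ℕ} (M X : Subgroup R) (hXM : X ≤ M)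
    (h : PRankLE p k ↥M) (hX : IsElementaryAbelian p X) : Nat.card X ≤ p ^ k := by
  have h1 : IsMulCommutative (X.subgroupOf M) := by
    refine ⟨⟨fun a b => Subtype.ext (Subtype.ext ?_)⟩⟩
    have := congrArg Subtype.val (hX.1.is_comm.comm (⟨a.1.1, Subgroup.mem_subgroupOf.1 a.2⟩ : X)
      ⟨b.1.1, Subgroup.mem_subgroupOf.1 b.2⟩)
    simpa using this
  have h2 : ∀ a ∈ X.subgroupOf M, a ^ p = 1 := by
    intro a ha
    apply Subtype.ext
    have := hX.2 _ (Subgroup.mem_subgroupOf.1 ha)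
    simpa using this
  have h3 := h (X.subgroupOf M) h1 h2
  rwa [Nat.card_congr (Subgroup.subgroupOfEquivOfLe hXM).toEquiv] at h3

theorem not_pRankLE_of_le {p k : ℕ} (M X : Subgroup R) (hXM : X ≤ M)
    (hX : IsElementaryAbelian p X) (hc : p ^ k < Nat.card X) : ¬ PRankLE p k ↥M := fun h =>
  absurd (card_le_of_pRankLE M X hXM h hX) (not_le.2 hc)

theorem exists_of_not_pRankLE {p k : ℕ} (M : Subgroup R) (h : ¬ PRankLE p k ↥M) :
    ∃ X : Subgroup R, X ≤ M ∧ IsElementaryAbelian p X ∧ p ^ k < Nat.card X := by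
  unfold PRankLE at h
  push Not at h
  obtain ⟨A, hA1, hA2, hA3⟩ := h
  refine ⟨A.map M.subtype, Subgroup.map_subtype_le _, ⟨?_, ?_⟩, ?_⟩
  · refine ⟨⟨fun a b => Subtype.ext ?_⟩⟩
    obtain ⟨a', ha', hae⟩ := a.2
    obtain ⟨b', hb', hbe⟩ := b.2
    have := congrArg Subtype.val (congrArg Subtype.val (hA1.is_comm.comm (⟨a', ha'⟩ : A) ⟨b', hb'⟩))
    simp only [Subgroup.coe_mul] at this ⊢
    rw [← hae, ← hbe]
    exact this
  · rintro _ ⟨a, ha, rfl⟩
    have := hA2 a ha
    simpa using congrArg Subtype.val this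
  · rwa [Nat.card_congr (A.equivMapOfInjective M.subtype M.subtype_injective).symm.toEquiv]

theorem not_pRankLE_mono {p k : ℕ} (H K : Subgroup R) (hHK : H ≤ K) (h : ¬ PRankLE p k ↥H) :
    ¬ PRankLE p k ↥K := by
  obtain ⟨X, hXH, hX, hc⟩ := exists_of_not_pRankLE H h
  exact not_pRankLE_of_le K X (hXH.trans hHK) hX hc

/-- adjoining a central element of order dividing `p` to an elementary abelian subgroup -/
theorem isElementaryAbelian_sup_zpowers {p : ℕ} (E : Subgroup R) (hE : IsElementaryAbelian p E)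
    (z : R) (hz : z ∈ Subgroup.center R) (hzp : z ^ p = 1) :
    IsElementaryAbelian p (E ⊔ Subgroup.zpowers z) := by
  have hzc : ∀ g : R, g * z = z * g := fun g => Subgroup.mem_center_iff.mp hz g
  have hzn : (Subgroup.zpowers z).Normal := by
    refine ⟨fun n hn g => ?_⟩
    obtain ⟨k, rfl⟩ := Subgroup.mem_zpowers_iff.mp hn
    have : g * z ^ k * g⁻¹ = z ^ k := by
      have h1 : Commute g z := hzc g
      have := (h1.zpow_right k).eq
      rw [this]; group
    rw [this]; exact Subgroup.zpow_mem_zpowers z k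
  have hmem : ∀ x ∈ E ⊔ Subgroup.zpowers z, ∃ e ∈ E, ∃ k : ℤ, x = e * z ^ k := by
    intro x hx
    rw [Subgroup.mem_sup_of_normal_right] at hx
    obtain ⟨e, he, y, hy, rfl⟩ := hx
    obtain ⟨k, rfl⟩ := Subgroup.mem_zpowers_iff.mp hy
    exact ⟨e, he, k, rfl⟩
  have hzk : ∀ (k : ℤ) (g : R), g * z ^ k = z ^ k * g := fun k g =>
    ((show Commute g z from hzc g).zpow_right k).eq
  refine ⟨⟨⟨fun a b => Subtype.ext ?_⟩⟩, ?_⟩
  · obtain ⟨e, he, k, hak⟩ := hmem a.1 a.2
    obtain ⟨e', he', k', hbk⟩ := hmem b.1 b.2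
    have hee : e * e' = e' * e := congrArg Subtype.val (hE.1.is_comm.comm (⟨e, he⟩ : E) ⟨e', he'⟩)
    simp only [Subgroup.coe_mul]
    rw [hak, hbk]
    calc e * z ^ k * (e' * z ^ k') = e * (z ^ k * e') * z ^ k' := by group
      _ = e * (e' * z ^ k) * z ^ k' := by rw [hzk k e']
      _ = (e * e') * (z ^ k * z ^ k') := by group
      _ = (e' * e) * (z ^ k' * z ^ k) := by rw [hee, ← zpow_add, ← zpow_add, add_comm]
      _ = e' * (e * z ^ k') * z ^ k := by group
      _ = e' * (z ^ k' * e) * z ^ k := by rw [hzk k' e]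
      _ = e' * z ^ k' * (e * z ^ k) := by group
  · intro x hx
    obtain ⟨e, he, k, rfl⟩ := hmem x hx
    have hc : Commute e (z ^ k) := hzk k e
    rw [hc.mul_pow, hE.2 e he, one_mul, ← zpow_natCast, ← zpow_mul, mul_comm, zpow_mul, zpow_natCast,
      hzp, one_zpow]

end lemmaA

end Cfsg.Agent.Lib.Helper15.BG103
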