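import Mathlib
import Cfsg.Agent.S0033
import Cfsg.Agent.Lib.Helper13.BG12B
import Cfsg.Agent.Lib.Helper15.BG103A
import Cfsg.Agent.Lib.Helper15.BG103C
import Cfsg.Agent.Lib.Helper71.BG10Hall

set_option autoImplicit false

/-! S1429 from the statement of S1417 (BG Theorem 12.5) and Thompson's theorem S0033. -/

namespace Cfsg.Agent.Lib.Helper15.BG1302

open Cfsg Cfsg.Agent.Lib.Helper13.BG12 Cfsg.Agent.Lib.Helper15.BG103

variable {G : Type*} [Group G] [Finite G]

/-- the subgroup generated by the elements of order dividing `p` of a commutative subgroup consists of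
such elements -/
theorem closure_pow_eq_one {p : ℕ} (T : Subgroup G) (hT : ∀ a ∈ T, ∀ b ∈ T, a * b = b * a) :
    ∀ x ∈ Subgroup.closure {x : G | x ∈ T ∧ x ^ p = 1}, x ∈ T ∧ x ^ p = 1 := by
  intro x hx
  induction hx using Subgroup.closure_induction with
  | mem y hy => exact hy
  | one => exact ⟨T.one_mem, one_pow p⟩
  | mul a b _ _ iha ihb =>
    refine ⟨T.mul_mem iha.1 ihb.1, ?_⟩
    have hc : Commute a b := hT a iha.1 b ihb.1
    rw [hc.mul_pow, iha.2, ihb.2, one_mul]
  | inv a _ iha =>
    exact ⟨T.inv_mem iha.1, by rw [inv_pow, iha.2, inv_one]⟩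

theorem main (hG : IsMinSimpleOddOrder G) (M : Subgroup G) (hM : IsCoatom M) (h17 : Hyp17 M)
    (p : ℕ) [Fact p.Prime] (hpM : p ∣ Nat.card M) (hp : p ∉ sigma M ∪ kappa M) (S : Sylow p M) :
    Nat.card ↥(Subgroup.closure {x : G | x ∈ (S : Subgroup M).map M.subtype ∧ x ^ p = 1}) ≤ p ^ 2 ∧
      sigmaCore M ⊓ Subgroup.centralizer ((Subgroup.closure {x : G | x ∈ (S : Subgroup M).map M.subtype ∧ x ^ p = 1} : Subgroup G) : Set G) = ⊥ ∧
      Group.IsNilpotent (sigmaCore M) := by
  have hpp : p.Prime := Fact.out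
  have hpσ : p ∉ sigma M := fun h => hp (Or.inl h)
  have hpκ : p ∉ kappa M := fun h => hp (Or.inr h)
  set T : Subgroup G := (S : Subgroup M).map M.subtype with hTdef
  have hTM : T ≤ M := Subgroup.map_subtype_le _
  have hTp : IsPGroup p T := S.isPGroup'.map _
  have hp2 : p ≠ 2 := by
    rintro rfl
    have h2G : 2 ∣ Nat.card G := hpM.trans (Subgroup.card_subgroup_dvd_card M)
    have := hG.1
    rw [Nat.odd_iff] at this
    omega
  by_cases hcyc : IsCyclic T
  · -- cyclic Sylow subgroup: `p ∉ κ(M)` gives a fixed-point-free action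
    have hTcomm : ∀ a ∈ T, ∀ b ∈ T, a * b = b * a := by
      intro a ha b hb
      obtain ⟨g, hg⟩ := hcyc.exists_generator
      obtain ⟨m, hm⟩ := Subgroup.mem_zpowers_iff.mp (hg ⟨a, ha⟩)
      obtain ⟨n, hn⟩ := Subgroup.mem_zpowers_iff.mp (hg ⟨b, hb⟩)
      have h1 : (⟨a, ha⟩ : T) * ⟨b, hb⟩ = ⟨b, hb⟩ * ⟨a, ha⟩ := by
        rw [← hm, ← hn, ← zpow_add, ← zpow_add, add_comm]
      exact congrArg Subtype.val h1
    have hcl := closure_pow_eq_one (p := p) T hTcomm
    -- no non-identity element of `T` commutes with a non-identity element of `M_σ`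
    have hfree : ∀ t ∈ T, t ≠ 1 → ∀ y ∈ sigmaCore M, y ≠ 1 → t * y ≠ y * t := by
      intro t ht ht1 y hy hy1 hty
      have hex : ∃ P0 : Sylow p M, ¬ (IsCyclic P0 ∧
          ∃ x : M, x ∈ (P0 : Subgroup M) ∧ x ≠ 1 ∧ ∃ y ∈ sigmaCore M, y ≠ 1 ∧ (x : G) * y = y * x) := by
        by_contra hcon
        push Not at hcon
        apply hpκ
        refine ⟨hpp, hpM, hpσ, fun P => ?_⟩
        obtain ⟨h1, x, hx, hx1, y, hy, hy1, hxy⟩ := hcon P
        exact ⟨h1, x, hx, hx1, y, hy, hy1, hxy⟩
      obtain ⟨P0, hP0⟩ := hex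
      obtain ⟨g, hg⟩ := MulAction.exists_smul_eq M S P0
      -- `P0 = g • S`
      have hP0cyc : IsCyclic P0 := by
        have hScyc : IsCyclic (S : Subgroup M) := by
          have e : (S : Subgroup M) ≃* T := (Subgroup.equivMapOfInjective _ _ M.subtype_injective)
          exact isCyclic_of_surjective e.symm.toMonoidHom e.symm.surjective
        have e2 : (S : Subgroup M) ≃* ((g • S : Sylow p M) : Subgroup M) := Sylow.equivSMul S g
        rw [← hg]
        exact isCyclic_of_surjective e2.toMonoidHom e2.surjective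
      apply hP0
      refine ⟨hP0cyc, ?_⟩
      obtain ⟨s, hs, rfl⟩ := ht
      refine ⟨g * s * g⁻¹, ?_, ?_, (g : G) * y * (g : G)⁻¹, ?_, ?_, ?_⟩
      · rw [← hg, Sylow.smul_def]
        exact Subgroup.mem_pointwise_smul_iff_inv_smul_mem.mpr (by
          simp only [MulAut.smul_def, MulAut.conj_inv_apply]
          have : g⁻¹ * (g * s * g⁻¹) * g = s := by group
          rw [this]; exact hs)
      · intro h
        apply ht1
        have : s = 1 := by
          have h2 : g⁻¹ * (g * s * g⁻¹) * g = g⁻¹ * 1 * g := by rw [h]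
          simpa [mul_assoc] using h2
        simp [this]
      · have hn : M ≤ Subgroup.normalizer ((sigmaCore M : Subgroup G) : Set G) :=
          Cfsg.Agent.Lib.Helper31.le_normalizer_piCoreOf (sigma M) M
        exact (Subgroup.mem_normalizer_iff.mp (hn g.2) y).mp hy
      · intro h
        apply hy1
        have h2 : (g : G)⁻¹ * ((g : G) * y * (g : G)⁻¹) * (g : G) = (g : G)⁻¹ * 1 * (g : G) := by rw [h]
        simpa [mul_assoc] using h2
      · have hty' : (s : G) * y = y * (s : G) := hty
        simp only [Subgroup.coe_mul, Subgroup.coe_inv]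
        calc (g : G) * s * (g : G)⁻¹ * ((g : G) * y * (g : G)⁻¹)
            = (g : G) * ((s : G) * y) * (g : G)⁻¹ := by group
          _ = (g : G) * (y * (s : G)) * (g : G)⁻¹ := by rw [hty']
          _ = (g : G) * y * (g : G)⁻¹ * ((g : G) * s * (g : G)⁻¹) := by group
    -- an element of order `p` in `T`
    have hT1 : Nat.card T ≠ 1 := by
      have e : Nat.card T = Nat.card (S : Subgroup M) :=
        Nat.card_congr (Subgroup.equivMapOfInjective _ _ M.subtype_injective).symm.toEquiv
      rw [e]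
      intro h1
      have := S.not_dvd_index
      have h2 : (S : Subgroup M).index = Nat.card M := by
        have := (S : Subgroup M).card_mul_index
        rw [h1, one_mul] at this
        exact this
      rw [h2] at this
      exact this hpM
    obtain ⟨x0, hx0T, hx0⟩ : ∃ x0 ∈ T, orderOf x0 = p := by
      have hpT : p ∣ Nat.card T := by
        obtain ⟨n, hn⟩ := hTp.exists_card_eq
        rw [hn]
        refine dvd_pow_self p ?_
        rintro rfl
        rw [pow_zero] at hn
        exact hT1 hn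
      obtain ⟨x, hx⟩ := exists_prime_orderOf_dvd_card' p hpT
      exact ⟨x.1, x.2, by rw [← hx]; exact (Subgroup.orderOf_coe x)⟩
    have hx01 : x0 ≠ 1 := by
      rintro rfl
      rw [orderOf_one] at hx0
      exact hpp.one_lt.ne hx0
    have hx0Ω : x0 ∈ Subgroup.closure {x : G | x ∈ T ∧ x ^ p = 1} :=
      Subgroup.subset_closure ⟨hx0T, by rw [← hx0]; exact pow_orderOf_eq_one x0⟩
    refine ⟨?_, ?_, ?_⟩
    · -- the cardinality bound
      have hle : Subgroup.closure {x : G | x ∈ T ∧ x ^ p = 1} ≤ T := fun x hx => (hcl x hx).1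
      have hfin : Nat.card ↥(Subgroup.closure {x : G | x ∈ T ∧ x ^ p = 1}) ≤ p := by
        classical
        haveI : Fintype T := Fintype.ofFinite T
        have hcard : (Finset.univ.filter fun a : T => a ^ p = 1).card ≤ p :=
          @IsCyclic.card_pow_eq_one_le T _ _ _ hcyc p hpp.pos
        have h2 : Nat.card {a : T // a ^ p = 1} = (Finset.univ.filter fun a : T => a ^ p = 1).card := by
          rw [Nat.card_eq_fintype_card, Fintype.card_subtype]
        let f : ↥(Subgroup.closure {x : G | x ∈ T ∧ x ^ p = 1}) → {a : T // a ^ p = 1} :=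
          fun x => ⟨⟨x.1, hle x.2⟩, Subtype.ext (by simpa using (hcl x.1 x.2).2)⟩
        have hinj : Function.Injective f := by
          intro a b hab
          have := congrArg (fun z : {a : T // a ^ p = 1} => ((z.1 : T) : G)) hab
          exact Subtype.ext this
        have := Nat.card_le_card_of_injective f hinj
        omega
      calc _ ≤ p := hfin
        _ ≤ p ^ 2 := by nlinarith [hpp.one_lt]
    · rw [eq_bot_iff]
      intro y hy
      rw [Subgroup.mem_bot]
      by_contra hy1
      have hyc := Subgroup.mem_centralizer_iff.mp hy.2 x0 hx0Ω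
      exact hfree x0 hx0T hx01 y hy.1 hy1 hyc
    · -- Thompson's theorem
      have hn : M ≤ Subgroup.normalizer ((sigmaCore M : Subgroup G) : Set G) :=
        Cfsg.Agent.Lib.Helper31.le_normalizer_piCoreOf (sigma M) M
      have hx0n : x0 ∈ Subgroup.normalizer ((sigmaCore M : Subgroup G) : Set G) := hn (hTM hx0T)
      set φ := cAut (sigmaCore M) x0 hx0n with hφ
      have hfpf : MonoidHom.FixedPointFree ((φ : sigmaCore M ≃* sigmaCore M) : sigmaCore M →* sigmaCore M) := by
        intro y hy
        by_contra hy1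
        have h1 : ((φ y : sigmaCore M) : G) = y := congrArg Subtype.val hy
        rw [hφ, cAut_apply] at h1
        have h2 : x0 * (y : G) = (y : G) * x0 := by
          calc x0 * (y : G) = x0 * (y : G) * x0⁻¹ * x0 := by group
            _ = (y : G) * x0 := by rw [h1]
        exact hfree x0 hx0T hx01 y y.2 (fun h => hy1 (Subtype.ext h)) h2
      have hdvd : orderOf φ ∣ p := by
        rw [← hx0]; exact orderOf_cAut_dvd _ _ _
      rcases (Nat.dvd_prime hpp).mp hdvd with h1 | h1
      · -- `φ = 1`, so `M_σ` is trivial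
        have hφ1 : φ = 1 := orderOf_eq_one_iff.mp h1
        have : Subsingleton (sigmaCore M) := by
          refine ⟨fun a b => ?_⟩
          have ha := hfpf a (by rw [hφ1]; rfl)
          have hb := hfpf b (by rw [hφ1]; rfl)
          rw [ha, hb]
        infer_instance
      · exact Cfsg.Agent.S0033.result φ hfpf p hpp h1
  · -- noncyclic Sylow subgroup: `p ∈ τ₂(M)`
    obtain ⟨A, hAT, hA, hA2⟩ := exists_elemAb_sq_le hp2 hTp hcyc
    have hAM : A ≤ M := hAT.trans hTM
    have hr1 : ¬ PRankLE p 1 M := by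
      refine not_pRankLE_of_le M A hAM hA ?_
      rw [hA2, pow_one]
      nlinarith [hpp.one_lt]
    have hr2 : PRankLE p 2 M := by
      by_contra h
      exact hpσ (Cfsg.Agent.Lib.Helper71.BG10.alpha_subset_sigma hG hM ⟨hpp, h⟩)
    have hτ : p ∈ tau2 M := ⟨hpp, hpσ, hr2, hr1⟩
    obtain ⟨hnil, hb, -, hd, -, -⟩ := h17 p hτ A ⟨hAM, hA, hA2⟩
    obtain ⟨-, hb2⟩ := hb S
    obtain ⟨hiff, -⟩ := hb2 hAT
    have hset : {x : G | x ∈ T ∧ x ^ p = 1} = (A : Set G) := by
      ext x
      constructor
      · rintro ⟨hxT, hxp⟩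
        exact (hiff x hxT).mp hxp
      · intro hxA
        exact ⟨hAT hxA, (hiff x (hAT hxA)).mpr hxA⟩
    rw [hset, Subgroup.closure_eq]
    exact ⟨hA2.le, hd, hnil⟩

end Cfsg.Agent.Lib.Helper15.BG1302
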