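import Mathlib
import Cfsg.Agent.Lib.Helper15.BG142KS

/-!
# BG 14.7 (partner theory): the LOCAL closure lemma - shared definitions for keystones 1471xx

Setting: `(M, K)` a P-pair (`K ≠ 1` a Hall `κ(M)`-subgroup of the maximal subgroup `M`),
`K* = KStar M K = C_{M_σ}(K)`, `Z = K ⊔ K*`, `X ≤ K` of prime order, `H` a maximal subgroup over
`N_G(X)`.  Spec of the leaves: `notes/S1366_closure.lean.txt`.
-/

set_option autoImplicit false

namespace Cfsg.Agent.Lib.Helper15.BG147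

open Cfsg Cfsg.Agent.Lib.Helper55 Cfsg.Agent.Lib.Helper31.BG134 Cfsg.Agent.Lib.Helper15.BG139
  Cfsg.Agent.Lib.Helper15.BG142

variable {G : Type*} [Group G] [Finite G]

/-- hypotheses of the closure lemma -/
structure CL (M K X H : Subgroup G) : Prop where
  hG : IsMinSimpleOddOrder G
  hM : IsCoatom M
  hK : IsPiHallOf (kappa M) K M
  hK1 : K ≠ ⊥
  hXK : X ≤ K
  hXp : (Nat.card X).Prime
  hH : IsCoatom H
  hNH : Subgroup.normalizer (X : Set G) ≤ H

/-- first consequences (leaf C1) -/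
structure CL1 (M K X H : Subgroup G) : Prop where
  hnc : ∀ g : G, cj g M ≠ H
  hXσ : X ≤ sigmaCore H
  hZH : K ⊔ KStar M K ≤ H
  hσ : sigmaCore M ⊓ H = KStar M K
  hbot : sigmaCore M ⊓ sigmaCore H = ⊥
  hcomm : sigmaCore H ⊓ M ≤ Subgroup.centralizer (KStar M K : Set G)
  hKs : KStar M K ≠ ⊥

end Cfsg.Agent.Lib.Helper15.BG147
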