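import Cfsg.Agent.Lib.Helper15.Transport

set_option autoImplicit false

namespace Cfsg.Agent.Lib.Helper15

universe u

theorem isElementaryAbelian_bot {S : Type u} [Group S] (p : ℕ) :
    Cfsg.IsElementaryAbelian p (⊥ : Subgroup S) := by
  refine ⟨⟨⟨fun a b => Subsingleton.elim _ _⟩⟩, ?_⟩
  intro a ha
  rw [Subgroup.mem_bot] at ha
  rw [ha, one_pow]

theorem exists_maxElem {S : Type u} [Group S] [Finite S] (p : ℕ) :
    (Cfsg.maxElementaryAbelianSubgroups p S).Nonempty := by
  haveI : Nonempty {A : Subgroup S // Cfsg.IsElementaryAbelian p A} :=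
    ⟨⟨⊥, isElementaryAbelian_bot p⟩⟩
  obtain ⟨A, hA⟩ := Finite.exists_max
    (fun A : {A : Subgroup S // Cfsg.IsElementaryAbelian p A} => Nat.card (A : Subgroup S))
  exact ⟨A.1, A.2, fun B hB => hA ⟨B, hB⟩⟩

theorem le_of_maxElem_of_le {S : Type u} [Group S] [Finite S] {p : ℕ} {A B : Subgroup S}
    (hA : A ∈ Cfsg.maxElementaryAbelianSubgroups p S) (hB : Cfsg.IsElementaryAbelian p B)
    (hAB : A ≤ B) : B = A := by
  have h := hA.2 B hB
  exact (Subgroup.eq_of_le_of_card_ge hAB h).symm

/-- adjoining to an elementary abelian subgroup an element of order dividing p that centralizes it -/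
theorem isElementaryAbelian_adjoin {S : Type u} [Group S] {p : ℕ} {A : Subgroup S}
    (hA : Cfsg.IsElementaryAbelian p A) (x : S) (hx : x ^ p = 1)
    (hxA : ∀ a ∈ A, x * a = a * x) :
    Cfsg.IsElementaryAbelian p (Subgroup.closure ((A : Set S) ∪ {x})) := by
  obtain ⟨hc, he⟩ := hA
  have hcomm : ∀ a ∈ ((A : Set S) ∪ {x}), ∀ b ∈ ((A : Set S) ∪ {x}), a * b = b * a := by
    rintro a (ha | ha) b (hb | hb)
    · have := hc.is_comm.comm (⟨a, ha⟩ : A) ⟨b, hb⟩
      exact congrArg Subtype.val this
    · rw [Set.mem_singleton_iff] at hb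
      subst hb
      exact (hxA a ha).symm
    · rw [Set.mem_singleton_iff] at ha
      subst ha
      exact hxA b hb
    · rw [Set.mem_singleton_iff] at ha hb
      subst ha; subst hb; rfl
  have hBc : IsMulCommutative (Subgroup.closure ((A : Set S) ∪ {x})) :=
    Subgroup.isMulCommutative_closure hcomm
  refine ⟨hBc, ?_⟩
  intro g hg
  induction hg using Subgroup.closure_induction with
  | mem y hy =>
    rcases hy with hy | hy
    · exact he y hy
    · rw [Set.mem_singleton_iff] at hy; rw [hy]; exact hx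
  | one => exact one_pow _
  | mul g h hg hh ihg ihh =>
    have hcm : Commute g h := by
      have := hBc.is_comm.comm (⟨g, hg⟩ : Subgroup.closure ((A : Set S) ∪ {x})) ⟨h, hh⟩
      exact congrArg Subtype.val this
    rw [hcm.mul_pow, ihg, ihh, one_mul]
  | inv g _ ihg => rw [inv_pow, ihg, inv_one]

/-- an element of order dividing p centralizing a maximal elementary abelian subgroup lies in it -/
theorem mem_of_maxElem_of_centralizes {S : Type u} [Group S] [Finite S] {p : ℕ} {A : Subgroup S}
    (hA : A ∈ Cfsg.maxElementaryAbelianSubgroups p S) (x : S) (hx : x ^ p = 1)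
    (hxA : ∀ a ∈ A, x * a = a * x) : x ∈ A := by
  have hB := isElementaryAbelian_adjoin hA.1 x hx hxA
  have hAB : A ≤ Subgroup.closure ((A : Set S) ∪ {x}) := by
    intro a ha
    exact Subgroup.subset_closure (Or.inl ha)
  have := le_of_maxElem_of_le hA hB hAB
  rw [← this]
  exact Subgroup.subset_closure (Or.inr rfl)

theorem central_mem_thompson {S : Type u} [Group S] [Finite S] {p : ℕ} (x : S)
    (hxc : x ∈ Subgroup.center S) (hx : x ^ p = 1) : x ∈ Cfsg.thompsonSubgroup p S := by
  obtain ⟨A, hA⟩ := exists_maxElem (S := S) p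
  have hxA : x ∈ A := mem_of_maxElem_of_centralizes hA x hx
    (fun a _ => (Subgroup.mem_center_iff.mp hxc a).symm)
  exact (le_sSup hA : A ≤ Cfsg.thompsonSubgroup p S) hxA

theorem omegaOne_center_le_omegaCenterThompson {S : Type u} [Group S] [Finite S] (p : ℕ) :
    Cfsg.omegaOne p (Subgroup.center S) ≤ Cfsg.omegaCenterThompson p S := by
  unfold Cfsg.omegaCenterThompson Cfsg.omegaOne
  apply Subgroup.closure_mono
  rintro x ⟨hxc, hxp⟩
  refine ⟨?_, hxp⟩
  rw [Subgroup.mem_inf]
  refine ⟨central_mem_thompson x hxc hxp, ?_⟩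
  exact Subgroup.center_le_centralizer _ hxc

end Cfsg.Agent.Lib.Helper15
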