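import Cfsg.Prelude.Def_PLocal

set_option autoImplicit false

namespace Cfsg.Agent.Lib.Helper15

universe u

section general

variable {G H : Type*} [Group G] [Group H]

theorem omegaOne_map (p : ℕ) (f : G →* H) (hf : Function.Injective f) (K : Subgroup G) :
    (Cfsg.omegaOne p K).map f = Cfsg.omegaOne p (K.map f) := by
  unfold Cfsg.omegaOne
  rw [MonoidHom.map_closure]
  congr 1
  ext y
  constructor
  · rintro ⟨x, ⟨hx, hxp⟩, rfl⟩
    exact ⟨Subgroup.mem_map_of_mem f hx, by rw [← map_pow, hxp, map_one]⟩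
  · rintro ⟨⟨x, hx, rfl⟩, hxp⟩
    refine ⟨x, ⟨hx, ?_⟩, rfl⟩
    apply hf
    rw [map_pow, hxp, map_one]

theorem omegaOne_mono (p : ℕ) {K L : Subgroup G} (h : K ≤ L) :
    Cfsg.omegaOne p K ≤ Cfsg.omegaOne p L := by
  unfold Cfsg.omegaOne
  apply Subgroup.closure_mono
  rintro x ⟨hx, hxp⟩
  exact ⟨h hx, hxp⟩

theorem omegaOne_le (p : ℕ) (K : Subgroup G) : Cfsg.omegaOne p K ≤ K := by
  unfold Cfsg.omegaOne
  rw [Subgroup.closure_le]
  rintro x ⟨hx, _⟩
  exact hx

theorem map_inf_centralizer (f : G →* H) (hf : Function.Injective f) (K : Subgroup G) :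
    (K ⊓ Subgroup.centralizer (K : Set G)).map f =
      K.map f ⊓ Subgroup.centralizer ((K.map f : Subgroup H) : Set H) := by
  ext y
  rw [Subgroup.mem_map, Subgroup.mem_inf, Subgroup.mem_map]
  constructor
  · rintro ⟨x, hx, rfl⟩
    rw [Subgroup.mem_inf] at hx
    obtain ⟨hxK, hxC⟩ := hx
    refine ⟨⟨x, hxK, rfl⟩, ?_⟩
    rw [Subgroup.mem_centralizer_iff]
    intro z hz
    rw [SetLike.mem_coe, Subgroup.mem_map] at hz
    obtain ⟨k, hk, rfl⟩ := hz
    rw [← map_mul, ← map_mul, Subgroup.mem_centralizer_iff.mp hxC k hk]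
  · rintro ⟨⟨x, hxK, rfl⟩, hC⟩
    refine ⟨x, ?_, rfl⟩
    rw [Subgroup.mem_inf]
    refine ⟨hxK, ?_⟩
    rw [Subgroup.mem_centralizer_iff]
    intro k hk
    apply hf
    rw [map_mul, map_mul]
    exact Subgroup.mem_centralizer_iff.mp hC (f k) (Subgroup.mem_map_of_mem f hk)

theorem center_eq_top_inf (G : Type*) [Group G] :
    Subgroup.center G = (⊤ : Subgroup G) ⊓ Subgroup.centralizer (((⊤ : Subgroup G)) : Set G) := by
  rw [top_inf_eq, Subgroup.coe_top, Subgroup.centralizer_univ]

theorem map_center_equiv (η : G ≃* H) :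
    (Subgroup.center G).map η.toMonoidHom = Subgroup.center H := by
  rw [center_eq_top_inf G, center_eq_top_inf H, map_inf_centralizer _ η.injective]
  have : (⊤ : Subgroup G).map η.toMonoidHom = ⊤ := by
    rw [← MonoidHom.range_eq_map, MonoidHom.range_eq_top]
    exact η.surjective
  rw [this]

/-- the centre of a normal subgroup, then omega one of it, is normal -/
theorem omegaOne_center_normal (p : ℕ) (N : Subgroup H) [hN : N.Normal] :
    (Cfsg.omegaOne p (N ⊓ Subgroup.centralizer (N : Set H))).Normal := by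
  constructor
  intro n hn g
  have h1 : (MulAut.conj g).toMonoidHom n ∈
      (Cfsg.omegaOne p (N ⊓ Subgroup.centralizer (N : Set H))).map (MulAut.conj g).toMonoidHom :=
    Subgroup.mem_map_of_mem _ hn
  rw [omegaOne_map p _ (MulAut.conj g).injective, map_inf_centralizer _ (MulAut.conj g).injective] at h1
  have h2 : N.map (MulAut.conj g).toMonoidHom = N := by
    have := Subgroup.Normal.conj_smul_eq_self g N
    rwa [Subgroup.pointwise_smul_def] at this
  rw [h2] at h1
  simpa using h1

theorem isElementaryAbelian_map {S S' : Type u} [Group S] [Group S'] {p : ℕ} (f : S →* S')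
    {A : Subgroup S} (hA : Cfsg.IsElementaryAbelian p A) : Cfsg.IsElementaryAbelian p (A.map f) := by
  obtain ⟨hc, he⟩ := hA
  refine ⟨Subgroup.map_isMulCommutative A f, ?_⟩
  rintro _ ⟨a, ha, rfl⟩
  rw [← map_pow, he a ha, map_one]

theorem map_symm_map {S S' : Type*} [Group S] [Group S'] (η : S ≃* S') (B : Subgroup S') :
    (B.map η.symm.toMonoidHom).map η.toMonoidHom = B := by
  rw [Subgroup.map_map]
  ext x
  constructor
  · rintro ⟨y, hy, rfl⟩
    simpa using hy
  · intro hx
    exact ⟨x, hx, by simp⟩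

theorem map_mem_maxElem {S S' : Type u} [Group S] [Group S'] (p : ℕ) (η : S ≃* S')
    {A : Subgroup S} (hA : A ∈ Cfsg.maxElementaryAbelianSubgroups p S) :
    A.map η.toMonoidHom ∈ Cfsg.maxElementaryAbelianSubgroups p S' := by
  obtain ⟨hAe, hAm⟩ := hA
  refine ⟨isElementaryAbelian_map _ hAe, ?_⟩
  intro B hB
  have h1 := hAm (B.map η.symm.toMonoidHom) (isElementaryAbelian_map _ hB)
  rw [Subgroup.card_map_of_injective η.symm.injective] at h1
  rw [Subgroup.card_map_of_injective η.injective]
  exact h1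

theorem thompsonSubgroup_map {S S' : Type u} [Group S] [Group S'] (p : ℕ) (η : S ≃* S') :
    (Cfsg.thompsonSubgroup p S).map η.toMonoidHom = Cfsg.thompsonSubgroup p S' := by
  unfold Cfsg.thompsonSubgroup
  apply le_antisymm
  · rw [Subgroup.map_le_iff_le_comap]
    apply sSup_le
    intro A hA
    rw [← Subgroup.map_le_iff_le_comap]
    exact le_sSup (map_mem_maxElem p η hA)
  · apply sSup_le
    intro B hB
    have := map_mem_maxElem p η.symm hB
    rw [← map_symm_map η B]
    exact Subgroup.map_mono (le_sSup this)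

theorem omegaCenterThompson_map {S S' : Type u} [Group S] [Group S'] (p : ℕ) (η : S ≃* S') :
    (Cfsg.omegaCenterThompson p S).map η.toMonoidHom = Cfsg.omegaCenterThompson p S' := by
  unfold Cfsg.omegaCenterThompson
  rw [omegaOne_map p _ η.injective, map_inf_centralizer _ η.injective, thompsonSubgroup_map]

end general

end Cfsg.Agent.Lib.Helper15
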