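import Mathlib
import Cfsg.Agent.Lib.Helper11.BG14DDefs
import Cfsg.Agent.Lib.Helper11.BG144Defs

/-!
# S1379 (BG 14.? : the tilde sets and `Ẑ` cover `G - 1`): shared definitions of the pack K-1379.
Architect: helper15.  Spec: `notes/S1379_keystones.lean.txt`.
-/

set_option autoImplicit false

namespace Cfsg.Agent.Lib.Helper15.BG1379

open Cfsg Subgroup

variable {G : Type*} [Group G]

/-- `g` lies in the tilde set `Ñ` of some maximal subgroup `N`. -/
def Cov (g : G) : Prop :=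
  ∃ N : Subgroup G, IsCoatom N ∧ g ∈ tildeOf N ((sigmaCore N : Set G) \ {1})

/-- the `κ`-configuration: `g = x r` with `x ∈ N_σ - 1` and `r ∈ C_N(x) - 1` a `κ(N)`-element. -/
def KapCfg (N : Subgroup G) (g : G) : Prop :=
  ∃ x r : G, g = x * r ∧ x ∈ sigmaCore N ∧ x ≠ 1 ∧ r ∈ N ∧ r ≠ 1 ∧ x * r = r * x ∧
    ∀ q : ℕ, q.Prime → q ∣ orderOf r → q ∈ kappa N

end Cfsg.Agent.Lib.Helper15.BG1379
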