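import Mathlib
import Cfsg.Agent.Lib.Helper15.BG1379Defs
import Cfsg.Agent.Lib.Helper68.BG144G2
import Cfsg.Agent.Lib.Helper64.BG14K
import Cfsg.Agent.Lib.Helper57.BG142D4

/-!
# K-1379 V8: `κ` is invariant under conjugation (one inclusion)
-/

set_option autoImplicit false

namespace Cfsg.Agent.Lib.Helper15.BG1379

open Cfsg Subgroup Cfsg.Agent.Lib.Helper55

variable {G : Type*} [Group G] [Finite G]

theorem mem_kappa_cj (hG : IsMinSimpleOddOrder G) {M : Subgroup G} (hM : IsCoatom M) (h : G) {q : ℕ}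
    (hq : q ∈ kappa (M.map (MulAut.conj h).toMonoidHom)) : q ∈ kappa M := by
  have hM' : IsCoatom (cj h M) := isCoatom_cj h hM
  have hq' : q ∈ kappa (cj h M) := hq
  obtain ⟨h13, hCP, -⟩ := Cfsg.Agent.Lib.Helper57.BG142.kappa_facts hM' hq'
  have hqp : q.Prime := hq'.1
  haveI : Fact q.Prime := ⟨hqp⟩
  have hqd : q ∣ Nat.card M := by
    have := hq'.2.1
    rwa [card_cj] at this
  have hqσ : q ∉ sigma M := by
    have := hq'.2.2.1
    rwa [Cfsg.Agent.Lib.Helper01.BG134.mem_sigma_cj_iff] at this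
  have hr1 : PRankLE q 1 M := by
    rcases h13 with h1 | h3
    · have := h1.2.2.2.2
      rwa [Cfsg.Agent.Lib.Helper01.BG134.pRankLE_cj_iff] at this
    · have := h3.2.2.2
      rwa [Cfsg.Agent.Lib.Helper01.BG134.pRankLE_cj_iff] at this
  obtain ⟨x, hx⟩ := exists_prime_orderOf_dvd_card' (G := ↥M) q hqd
  have hRM : zpowers (x : G) ≤ M := by
    rw [zpowers_le]; exact x.2
  have hRc : Nat.card (zpowers (x : G)) = q := by
    rw [Nat.card_zpowers, Subgroup.orderOf_coe, hx]
  have h1 := hCP (cj h (zpowers (x : G))) (cj_mono hRM) (by rw [card_cj, hRc])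
  have hC : sigmaCore M ⊓ centralizer ((zpowers (x : G) : Subgroup G) : Set G) ≠ ⊥ := by
    intro hbot
    apply h1
    have h2 : sigmaCore (cj h M) ⊓ centralizer ((cj h (zpowers (x : G)) : Subgroup G) : Set G) =
        cj h (sigmaCore M ⊓ centralizer ((zpowers (x : G) : Subgroup G) : Set G)) := by
      rw [cj_inf, Cfsg.Agent.Lib.Helper68.BG144.sigmaCore_cj hG hM h, cj_centralizer]
    show sigmaCore (cj h M) ⊓ centralizer ((cj h (zpowers (x : G)) : Subgroup G) : Set G) = ⊥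
    rw [h2, hbot, cj_bot]
  exact Cfsg.Agent.Lib.Helper64.BG14.mem_kappa_of_cent_ne_bot hG hM hqp hqd hqσ hr1 hRM hRc hC

end Cfsg.Agent.Lib.Helper15.BG1379
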