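import Cfsg.Agent.Lib.Helper15.ThompsonOf

set_option autoImplicit false

namespace Cfsg.Agent.Lib.Helper15

open scoped Pointwise

universe u

variable {G : Type u} [Group G]

/-- for a normal subgroup `N` of a finite group, `|N : S ∩ N|` divides `|G : S|` -/
theorem relIndex_dvd_index_of_normal_right [Finite G] (S N : Subgroup G) [N.Normal] :
    S.relIndex N ∣ S.index := by
  have h1 : (S ⊓ N).relIndex S * S.index = (S ⊓ N).index :=
    Subgroup.relIndex_mul_index inf_le_left
  have h2 : (S ⊓ N).relIndex N * N.index = (S ⊓ N).index :=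
    Subgroup.relIndex_mul_index inf_le_right
  have h3 : (S ⊓ N).relIndex S = N.relIndex S := Subgroup.inf_relIndex_left S N
  have h4 : (S ⊓ N).relIndex N = S.relIndex N := Subgroup.inf_relIndex_right S N
  have h5 : N.relIndex (S ⊔ N) * (S ⊔ N).index = N.index :=
    Subgroup.relIndex_mul_index le_sup_right
  have h6 : N.relIndex (S ⊔ N) = N.relIndex S := Subgroup.relIndex_sup_right S N
  rw [h3] at h1
  rw [h4, ← h5, h6] at h2
  have hne : N.relIndex S ≠ 0 := by
    unfold Subgroup.relIndex
    exact Subgroup.index_ne_zero_of_finite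
  have : N.relIndex S * S.index = N.relIndex S * (S.relIndex N * (S ⊔ N).index) := by
    rw [h1, ← h2]; ring
  have h7 := Nat.eq_of_mul_eq_mul_left (Nat.pos_of_ne_zero hne) this
  exact ⟨_, h7⟩

/-- the intersection of a Sylow subgroup with a normal subgroup is a Sylow subgroup of it -/
theorem sylow_inf_normal [Finite G] {p : ℕ} [Fact p.Prime] (S : Sylow p G) (N : Subgroup G)
    [N.Normal] : ∃ P : Sylow p N, (P : Subgroup N).map N.subtype = (S : Subgroup G) ⊓ N := by
  have hp : IsPGroup p ((S : Subgroup G).subgroupOf N) := S.isPGroup'.comap_subtype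
  have hidx : ¬ p ∣ ((S : Subgroup G).subgroupOf N).index := by
    intro h
    have h1 : (S : Subgroup G).relIndex N ∣ (S : Subgroup G).index :=
      relIndex_dvd_index_of_normal_right _ N
    exact S.not_dvd_index (h.trans h1)
  refine ⟨hp.toSylow hidx, ?_⟩
  rw [IsPGroup.toSylow_coe, Subgroup.subgroupOf_map_subtype]

end Cfsg.Agent.Lib.Helper15
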