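import Cfsg.Agent.Lib.Helper15.BG103A

/-!
BG Lemma 10.3, the `p`-group part (main lemma).
-/

set_option autoImplicit false

namespace Cfsg.Agent.Lib.Helper15.BG103

open Cfsg
open scoped commutatorElement

variable {R : Type*} [Group R] [Finite R]

theorem lemmaA (q : ℕ) [hq' : Fact q.Prime] (hq : q ≠ 2) (hR : IsPGroup q R)
    (hr : ¬ PRankLE q 2 R) (S : Set (MulAut R)) (hS : ∀ φ ∈ S, (orderOf φ).Coprime q)
    (E : Subgroup R) (hE : IsElementaryAbelian q E) (hE2 : Nat.card E = q ^ 2)
    (hfix : ∀ φ ∈ S, ∀ e ∈ E, φ e = e) :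
    ∃ B : Subgroup R, IsElementaryAbelian q B ∧ Nat.card B = q ^ 2 ∧
      (∀ φ ∈ S, ∀ b ∈ B, φ b = b) ∧
      ¬ PRankLE q 2 ↥(Subgroup.centralizer (B : Set R)) := by
  classical
  by_cases hc : PRankLE q 2 ↥(Subgroup.centralizer (E : Set R))
  swap
  · exact ⟨E, hE, hE2, hfix, hc⟩
  -- `E` is a maximal elementary abelian subgroup
  have hEmax : ∀ B : Subgroup R, IsElementaryAbelian q B → E ≤ B → B = E := by
    intro B hB hEB
    have hBC : B ≤ Subgroup.centralizer (E : Set R) := by
      intro b hb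
      rw [Subgroup.mem_centralizer_iff]
      intro e he
      exact congrArg Subtype.val (hB.1.is_comm.comm (⟨e, hEB he⟩ : B) ⟨b, hb⟩)
    have h1 := card_le_of_pRankLE _ B hBC hc hB
    rw [← hE2] at h1
    exact (Subgroup.eq_of_le_of_card_ge hEB h1).symm
  obtain ⟨h1, h2, ⟨h3, h4⟩, -, -⟩ := Cfsg.Agent.S1453.result q hq hR hr E hE hE2 hEmax
  set W : Subgroup R :=
    Subgroup.closure {x : R | x ∈ Subgroup.upperCentralSeries R 2 ∧ x ^ q = 1} with hW
  set Z : Subgroup R := Subgroup.closure {x : R | x ∈ Subgroup.center R ∧ x ^ q = 1} with hZ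
  -- `W` is invariant under all automorphisms
  have hWchar : ∀ φ : MulAut R, ∀ w ∈ W, φ w ∈ W := by
    intro φ w hw
    induction hw using Subgroup.closure_induction with
    | mem x hx =>
      apply Subgroup.subset_closure
      refine ⟨?_, ?_⟩
      · have hch : (Subgroup.upperCentralSeries R 2).Characteristic := inferInstance
        have := hch.fixed φ
        have h' : x ∈ (Subgroup.upperCentralSeries R 2).comap φ.toMonoidHom := by rw [this]; exact hx.1
        exact h'
      · rw [← map_pow, hx.2, map_one]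
    | one => rw [map_one]; exact W.one_mem
    | mul x y _ _ hx hy => rw [map_mul]; exact W.mul_mem hx hy
    | inv x _ hx => rw [map_inv]; exact W.inv_mem hx
  haveI hWn : W.Normal := ⟨fun n hn g => by
    have := hWchar (MulAut.conj g) n hn
    simpa using this⟩
  have hWZ2 : W ≤ Subgroup.upperCentralSeries R 2 := by
    rw [hW, Subgroup.closure_le]
    intro x hx
    exact hx.1
  -- `Z ≤ E`
  have hZE : Z ≤ E := by
    rw [hZ, Subgroup.closure_le]
    intro z hz
    have h5 := isElementaryAbelian_sup_zpowers E hE z hz.1 hz.2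
    have h6 := hEmax _ h5 le_sup_left
    have : z ∈ E ⊔ Subgroup.zpowers z := (le_sup_right : Subgroup.zpowers z ≤ _) (Subgroup.mem_zpowers z)
    rw [h6] at this
    exact this
  have hZc : Z ≤ Subgroup.center R := by
    rw [hZ, Subgroup.closure_le]
    intro z hz
    exact hz.1
  have hZW : Z ≤ W := by
    rw [hZ, Subgroup.closure_le]
    intro z hz
    apply Subgroup.subset_closure
    refine ⟨?_, hz.2⟩
    have h7 : Subgroup.upperCentralSeries R 1 ≤ Subgroup.upperCentralSeries R 2 :=
      Subgroup.upperCentralSeries_mono R (by norm_num)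
    apply h7
    rw [Subgroup.upperCentralSeries_one]
    exact hz.1
  -- pick `b ∈ E` not centralizing `W`
  obtain ⟨b, hbE, hbW⟩ : ∃ b ∈ E, b ∉ Subgroup.centralizer (W : Set R) := by
    by_contra hcon
    push Not at hcon
    exact h1 hcon
  -- the commutator map
  have hcZ : ∀ w ∈ W, w * b * w⁻¹ * b⁻¹ ∈ Z := by
    intro w hw
    apply Subgroup.subset_closure
    refine ⟨?_, ?_⟩
    · have h8 := hWZ2 hw
      have h9 : ∀ y : R, ⁅w, y⁆ ∈ Subgroup.upperCentralSeries R 1 :=
        Subgroup.mem_upperCentralSeries_succ_iff.mp h8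
      have h10 := h9 b
      rw [Subgroup.upperCentralSeries_one, commutatorElement_def] at h10
      exact h10
    · have h11 : w * b * w⁻¹ * b⁻¹ ∈ W := by
        have : b * w⁻¹ * b⁻¹ ∈ W := hWn.conj_mem _ (W.inv_mem hw) b
        have e : w * b * w⁻¹ * b⁻¹ = w * (b * w⁻¹ * b⁻¹) := by group
        rw [e]
        exact W.mul_mem hw this
      exact h3.2 _ h11
  -- `C_W(b) = Z`
  have hCWb : W ⊓ Subgroup.centralizer ({b} : Set R) = Z := by
    symm
    apply Subgroup.eq_of_le_of_card_ge
    · refine le_inf hZW ?_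
      intro z hz
      rw [Subgroup.mem_centralizer_singleton_iff]
      exact (Subgroup.mem_center_iff.mp (hZc hz) b).symm
    · -- card of the proper subgroup
      have hlt : W ⊓ Subgroup.centralizer ({b} : Set R) < W := by
        refine lt_of_le_of_ne inf_le_left ?_
        intro heq
        apply hbW
        rw [Subgroup.mem_centralizer_iff]
        intro w hw
        have : w ∈ W ⊓ Subgroup.centralizer ({b} : Set R) := by rw [heq]; exact hw
        have := Subgroup.mem_centralizer_singleton_iff.mp this.2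
        exact this
      have hdvd : Nat.card ↥(W ⊓ Subgroup.centralizer ({b} : Set R)) ∣ q ^ 2 := by
        rw [← h4]
        exact Subgroup.card_dvd_of_le inf_le_left
      have hltc : Nat.card ↥(W ⊓ Subgroup.centralizer ({b} : Set R)) < q ^ 2 := by
        rw [← h4]
        by_contra hcon
        push Not at hcon
        exact hlt.ne (Subgroup.eq_of_le_of_card_ge inf_le_left hcon)
      obtain ⟨k, hk, hkc⟩ := (Nat.dvd_prime_pow hq'.out).mp hdvd
      rw [hkc] at hltc ⊢
      have hk1 : k < 2 := (Nat.pow_lt_pow_iff_right hq'.out.one_lt).mp hltc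
      rw [h2]
      calc q ^ k ≤ q ^ 1 := Nat.pow_le_pow_right hq'.out.pos (by omega)
        _ = q := pow_one q
  -- `W` is fixed pointwise
  have hfixW : ∀ φ ∈ S, ∀ w ∈ W, φ w = w := by
    intro φ hφ w hw
    have hφb : φ b = b := hfix φ hφ b hbE
    set u : R := w⁻¹ * φ w with hu
    have huW : u ∈ W := W.mul_mem (W.inv_mem hw) (hWchar φ w hw)
    have hφw : φ w = w * u := by rw [hu]; group
    -- c (φ w) = c w
    have h12 : φ w * b * (φ w)⁻¹ * b⁻¹ = w * b * w⁻¹ * b⁻¹ := by
      have h13 : φ (w * b * w⁻¹ * b⁻¹) = w * b * w⁻¹ * b⁻¹ := hfix φ hφ _ (hZE (hcZ w hw))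
      rw [← h13]
      simp only [map_mul, map_inv, hφb]
    have h14 : (w * u) * b * (w * u)⁻¹ * b⁻¹ = (w * b * w⁻¹ * b⁻¹) * (u * b * u⁻¹ * b⁻¹) :=
      comm_mul_of_central b w u (hZc (hcZ u huW))
    rw [← hφw, h12] at h14
    have h15 : u * b * u⁻¹ * b⁻¹ = 1 := by
      have := h14.symm
      rwa [mul_eq_left] at this
    have h16 : u ∈ W ⊓ Subgroup.centralizer ({b} : Set R) := by
      refine ⟨huW, ?_⟩
      show u ∈ Subgroup.centralizer ({b} : Set R)
      rw [Subgroup.mem_centralizer_singleton_iff]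
      have e : u * b = (u * b * u⁻¹ * b⁻¹) * (b * u) := by group
      rw [e, h15, one_mul]
    rw [hCWb] at h16
    have hφu : φ u = u := hfix φ hφ u (hZE h16)
    have h17 := iterate_fixed φ w u hφw hφu (orderOf φ)
    rw [pow_orderOf_eq_one, MulAut.one_apply] at h17
    have h18 : u ^ orderOf φ = 1 := by
      have := h17.symm
      rwa [mul_eq_left] at this
    have h19 : u ^ q = 1 := h3.2 u huW
    have h20 : orderOf u ∣ Nat.gcd (orderOf φ) q :=
      Nat.dvd_gcd (orderOf_dvd_of_pow_eq_one h18) (orderOf_dvd_of_pow_eq_one h19)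
    rw [(hS φ hφ)] at h20
    have h21 : u = 1 := orderOf_eq_one_iff.mp (Nat.dvd_one.mp h20)
    rw [hφw, h21, mul_one]
  -- the centralizer of `W` has rank at least 3
  have hrank : ¬ PRankLE q 2 ↥(Subgroup.centralizer (W : Set R)) := by
    obtain ⟨A, hWA, -, hCA, hA3⟩ := Cfsg.Agent.S1452.result q hq hR hr W h3 h4
    have hAC : A ≤ Subgroup.centralizer (W : Set R) := by
      intro a ha
      have ha' : a ∈ Subgroup.centralizer (A : Set R) := by rw [hCA]; exact ha
      rw [Subgroup.mem_centralizer_iff] at ha' ⊢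
      intro w hw
      exact ha' w (hWA hw)
    exact not_pRankLE_mono A _ hAC hA3
  exact ⟨W, h3, h4, hfixW, hrank⟩

end Cfsg.Agent.Lib.Helper15.BG103
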