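import Mathlib
import Cfsg.Agent.Lib.Helper15.BG1379Defs
import Cfsg.Agent.Lib.Helper11.BG144Glue
import Cfsg.Agent.Lib.Helper81.BG1379V1
import Cfsg.Agent.Lib.Helper28.BG1379V2
import Cfsg.Agent.Lib.Helper74.BG1379V3
import Cfsg.Agent.Lib.Helper30.BG1379V5
import Cfsg.Agent.Lib.Helper14.BG1379V6
import Cfsg.Agent.Lib.Helper74.BG1379V9
import Cfsg.Agent.Lib.Helper96.BG1379V10
import Cfsg.Agent.Lib.Helper15.BG1379V8
import Cfsg.Agent.Lib.Helper15.BG142KS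
import Cfsg.Agent.Lib.Helper29.BG147D1
import Cfsg.Agent.Lib.Helper60.BG144F
import Cfsg.Agent.Lib.Helper71.BG11a

set_option autoImplicit false

namespace Cfsg.Agent.Lib.Helper15.BG1379

open Cfsg Subgroup Cfsg.Agent.Lib.Helper11.BG14D Cfsg.Agent.Lib.Helper11.BG144
  Cfsg.Agent.Lib.Helper81.BG1379 Cfsg.Agent.Lib.Helper28.BG1379 Cfsg.Agent.Lib.Helper74.BG1379
  Cfsg.Agent.Lib.Helper30.BG1379 Cfsg.Agent.Lib.Helper14.BG1379 Cfsg.Agent.Lib.Helper96.BG1379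

variable {G : Type*} [Group G] [Finite G]

theorem orderOf_conj' (y g : G) : orderOf (y * g * y⁻¹) = orderOf g := by
  have h : y * g * y⁻¹ = MulAut.conj y g := by simp [MulAut.conj_apply]
  rw [h]
  exact orderOf_injective (MulAut.conj y).toMonoidHom (MulAut.conj y).injective g

/-- a conjugate of `g ≠ 1` lies in a maximal subgroup `N` and has a nontrivial `σ(N)`-part -/
theorem exists_good (hG : IsMinSimpleOddOrder G) {g : G} (hg : g ≠ 1) :
    ∃ (N : Subgroup G) (y : G), IsCoatom N ∧ y * g * y⁻¹ ∈ N ∧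
      ∃ p : ℕ, p.Prime ∧ p ∣ orderOf (y * g * y⁻¹) ∧ p ∈ sigma N := by
  obtain ⟨L, y, x0, hL, hx0, hx01, hx0g⟩ := exists_sigma_pow hG hg
  obtain ⟨g', hg'⟩ : ∃ g' : G, g' = y * g * y⁻¹ := ⟨_, rfl⟩
  rw [← hg'] at hx0g
  have hcent : g' ∈ centralizer ({x0} : Set G) := by
    rw [mem_centralizer_iff]
    intro h hh
    rw [Set.mem_singleton_iff] at hh
    subst hh
    obtain ⟨k, rfl⟩ := mem_zpowers_iff.mp hx0g
    exact ((Commute.refl g').zpow_left k).eq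
  have ho1 : orderOf x0 ≠ 1 := by
    intro h
    exact hx01 (orderOf_eq_one_iff.mp h)
  obtain ⟨p, hp, hpd⟩ := Nat.exists_prime_and_dvd ho1
  have hpg : p ∣ orderOf g' := hpd.trans (orderOf_dvd_of_mem_zpowers hx0g)
  have hpσ : p ∈ sigma L :=
    Cfsg.Agent.Lib.Helper71.BG11.sigmaCore_pi hG hL hp
      (hpd.trans (Subgroup.orderOf_dvd_natCard _ hx0))
  by_cases hC : centralizer ({x0} : Set G) ≤ L
  · exact ⟨L, y, hL, hg' ▸ hC hcent, p, hp, hg' ▸ hpg, hpσ⟩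
  · obtain ⟨N, hS⟩ := hB_main hG L hL x0 hx0 hx01 hC
    by_cases hex : ∃ q : ℕ, q.Prime ∧ q ∣ orderOf g' ∧ q ∈ sigma N
    · obtain ⟨q, hq, hqd, hqσ⟩ := hex
      exact ⟨N, y, hS.coatom, hg' ▸ hS.cent_le hcent, q, hq, hg' ▸ hqd, hqσ⟩
    · obtain ⟨c, -, hcL⟩ := exists_conj_mem_of_coprime hG hL hx0 hx01 hS hcent
        (fun q hq hqd hqσ => hex ⟨q, hq, hqd, hqσ⟩)
      have heq : (c * y) * g * (c * y)⁻¹ = c * g' * c⁻¹ := by
        rw [hg']; group
      refine ⟨L, c * y, hL, heq ▸ hcL, p, hp, ?_, hpσ⟩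
      rw [heq, orderOf_conj']
      exact hpg

/-- the dichotomy for an element of `N` with nontrivial `σ(N)`-part -/
theorem cov_or_kap (hG : IsMinSimpleOddOrder G) {N : Subgroup G} (hN : IsCoatom N) {g : G}
    (hgN : g ∈ N) (hp : ∃ p : ℕ, p.Prime ∧ p ∣ orderOf g ∧ p ∈ sigma N) :
    Cov g ∨ KapCfg N g := by
  obtain ⟨x, r, hgxr, hcomm, -, hrz, hxσ, hrσ, hx1'⟩ := exists_sigma_parts hG hN hgN
  obtain ⟨p, hp, hpd, hpσ⟩ := hp
  have hx1 : x ≠ 1 := hx1' p hp hpd hpσ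
  have hrN : r ∈ N := (zpowers_le.mpr hgN) hrz
  by_cases hr1 : r = 1
  · left
    refine ⟨N, hN, ?_⟩
    rw [hgxr, hr1, mul_one]
    exact ⟨x, ⟨hxσ, fun h => hx1 (Set.mem_singleton_iff.mp h)⟩, 1, one_mem _, 1, by simp⟩
  · have hrc : r ∈ N ⊓ centralizer ({x} : Set G) := by
      refine Subgroup.mem_inf.mpr ⟨hrN, ?_⟩
      rw [mem_centralizer_iff]
      intro h hh
      rw [Set.mem_singleton_iff] at hh
      subst hh
      exact hcomm
    rcases h1432_main hG N hN x hxσ hx1 r hrc hr1 hrσ with ⟨hκ, -⟩ | ⟨hτ, hL, hC⟩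
    · right
      exact ⟨x, r, hgxr, hxσ, hx1, hrN, hr1, hcomm, hκ⟩
    · left
      rw [hgxr]
      exact cov_of_tau2 hG hN hxσ hx1 hrN hr1 hcomm hτ hL hC

/-- clause 2 of S1379 -/
theorem cov_of_kappa_empty (hG : IsMinSimpleOddOrder G)
    (hκ : ∀ M : Subgroup G, IsCoatom M → kappa M = ∅) {g : G} (hg : g ≠ 1) : Cov g := by
  obtain ⟨N, y, hN, hgN, hp⟩ := exists_good hG hg
  rcases cov_or_kap hG hN hgN hp with h | ⟨x, r, -, -, -, -, hr1, -, hrκ⟩
  · have := Cov.conj h y⁻¹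
    have heq : y⁻¹ * (y * g * y⁻¹) * y⁻¹⁻¹ = g := by group
    rwa [heq] at this
  · exfalso
    have ho1 : orderOf r ≠ 1 := fun h => hr1 (orderOf_eq_one_iff.mp h)
    obtain ⟨q, hq, hqd⟩ := Nat.exists_prime_and_dvd ho1
    have := hrκ q hq hqd
    rw [hκ N hN] at this
    exact this

/-- clause 3a of S1379 -/
theorem cov_or_zhat (hG : IsMinSimpleOddOrder G) {M K Mstar : Subgroup G} (hM : IsCoatom M)
    (hK : IsPiHallOf (kappa M) K M) (hK1 : K ≠ ⊥) (hMstar : IsCoatom Mstar)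
    (hKst : K = sigmaCore Mstar ⊓ centralizer ((Ks M K : Subgroup G) : Set G))
    (hKstH : IsPiHallOf (kappa Mstar) (Ks M K) Mstar)
    (h69 : ∀ H : Subgroup G, IsCoatom H → (kappa H).Nonempty →
      ∃ g : G, H = M.map (MulAut.conj g).toMonoidHom ∨ H = Mstar.map (MulAut.conj g).toMonoidHom)
    {g : G} (hg : g ≠ 1) :
    Cov g ∨ ∃ y : G, ∃ z ∈ Zhat M K, g = y * z * y⁻¹ := by
  obtain ⟨N, y, hN, hgN, hp⟩ := exists_good hG hg
  rcases cov_or_kap hG hN hgN hp with h | hk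
  · left
    have := Cov.conj h y⁻¹
    have heq : y⁻¹ * (y * g * y⁻¹) * y⁻¹⁻¹ = g := by group
    rwa [heq] at this
  · right
    have hne : (kappa N).Nonempty := by
      obtain ⟨x, r, -, -, -, -, hr1, -, hrκ⟩ := hk
      have ho1 : orderOf r ≠ 1 := fun h => hr1 (orderOf_eq_one_iff.mp h)
      obtain ⟨q, hq, hqd⟩ := Nat.exists_prime_and_dvd ho1
      exact ⟨q, hrκ q hq hqd⟩
    have hKs1 : Ks M K ≠ ⊥ := by
      obtain ⟨E, ks⟩ := Cfsg.Agent.Lib.Helper15.BG142.exists_ks hG hM hK hK1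
      exact ks.hKs
    obtain ⟨h, hh | hh⟩ := h69 N hN hne
    · subst hh
      have hk' := kap_conj hG hM h hk (fun q hq => mem_kappa_cj hG hM h hq)
      obtain ⟨m, -, hz⟩ := zhat_of_kap hG hM hK hK1 hk'
      refine ⟨y⁻¹ * h * m⁻¹, _, hz, ?_⟩
      group
    · subst hh
      have hk' := kap_conj hG hMstar h hk (fun q hq => mem_kappa_cj hG hMstar h hq)
      obtain ⟨m, -, hz⟩ := zhat_of_kap hG hMstar hKstH hKs1 hk'
      have hzeq : Zhat Mstar (Ks M K) = Zhat M K := by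
        unfold Zhat
        have h1 : Ks Mstar (Ks M K) = K := hKst.symm
        rw [h1, sup_comm, Set.union_comm]
      rw [hzeq] at hz
      refine ⟨y⁻¹ * h * m⁻¹, _, hz, ?_⟩
      group

/-- S1379 from the partner theorem S1366 (existence), S1369 (clause 2) and `tilde_disjoint_zhat` -/
theorem s1379_of (hG : IsMinSimpleOddOrder G)
    (h66 : ∀ (M K U : Subgroup G), IsCoatom M → IsSigmaDecomposition M K U → K ≠ ⊥ →
      ∃ Mstar : Subgroup G, IsCoatom Mstar ∧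
        K = sigmaCore Mstar ⊓ centralizer ((sigmaCore M ⊓ centralizer (K : Set G) : Subgroup G) : Set G) ∧
        IsPiHallOf (kappa Mstar) (sigmaCore M ⊓ centralizer (K : Set G)) Mstar)
    (h69 : ∀ (M K U Mstar : Subgroup G), IsCoatom M → IsSigmaDecomposition M K U → K ≠ ⊥ →
      IsCoatom Mstar →
      K = sigmaCore Mstar ⊓ centralizer ((sigmaCore M ⊓ centralizer (K : Set G) : Subgroup G) : Set G) →
      IsPiHallOf (kappa Mstar) (sigmaCore M ⊓ centralizer (K : Set G)) Mstar →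
      ∀ H : Subgroup G, IsCoatom H → (kappa H).Nonempty →
        ∃ g : G, H = M.map (MulAut.conj g).toMonoidHom ∨ H = Mstar.map (MulAut.conj g).toMonoidHom)
    (h607 : ∀ (J M K : Subgroup G), IsCoatom J → IsCoatom M → IsPiHallOf (kappa M) K M → K ≠ ⊥ →
      Disjoint (tildeOf J ((sigmaCore J : Set G) \ {1}))
        {a : G | ∃ g : G, ∃ z ∈ Zhat M K, a = g * z * g⁻¹}) :
    (∀ M N : Subgroup G, IsCoatom M → IsCoatom N →
        (∀ g : G, N ≠ M.map (MulAut.conj g).toMonoidHom) →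
        tildeOf M ((sigmaCore M : Set G) \ {1}) ∩ tildeOf N ((sigmaCore N : Set G) \ {1}) = ∅) ∧
      ((∀ M : Subgroup G, IsCoatom M → kappa M = ∅) →
        ∀ g : G, g ≠ 1 → ∃ M : Subgroup G, IsCoatom M ∧
          g ∈ tildeOf M ((sigmaCore M : Set G) \ {1})) ∧
      ∀ (M K U : Subgroup G), IsCoatom M → IsSigmaDecomposition M K U → K ≠ ⊥ →
        (∀ g : G, g ≠ 1 → (∃ N : Subgroup G, IsCoatom N ∧
              g ∈ tildeOf N ((sigmaCore N : Set G) \ {1})) ∨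
            ∃ y : G, ∃ z ∈ ((↑(K ⊔ (sigmaCore M ⊓ centralizer (K : Set G))) : Set G) \
              ((K : Set G) ∪ ↑(sigmaCore M ⊓ centralizer (K : Set G)))), g = y * z * y⁻¹) ∧
        ∀ N : Subgroup G, IsCoatom N → ∀ y : G, ∀ z ∈ ((↑(K ⊔ (sigmaCore M ⊓
              centralizer (K : Set G))) : Set G) \
              ((K : Set G) ∪ ↑(sigmaCore M ⊓ centralizer (K : Set G)))),
            y * z * y⁻¹ ∉ tildeOf N ((sigmaCore N : Set G) \ {1}) := by
  refine ⟨?_, ?_, ?_⟩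
  · intro M N hM hN hnc
    have h33 : H1433 G := Cfsg.Agent.Lib.Helper60.BG144.s1433_of hG (hB_main hG) (hC_main hG)
    exact Set.disjoint_iff_inter_eq_empty.mp
      (Cfsg.Agent.Lib.Helper29.BG147.tilde_disjoint hG h33 hM hN hnc)
  · intro hκ g hg
    exact cov_of_kappa_empty hG hκ hg
  · intro M K U hM hKU hK1
    obtain ⟨Mstar, hMstar, hKst, hKstH⟩ := h66 M K U hM hKU hK1
    refine ⟨?_, ?_⟩
    · intro g hg
      exact cov_or_zhat hG hM hKU.hall hK1 hMstar hKst hKstH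
        (h69 M K U Mstar hM hKU hK1 hMstar hKst hKstH) hg
    · intro N hN y z hz hmem
      have hd := h607 N M K hN hM hKU.hall hK1
      exact (Set.disjoint_left.mp hd) hmem ⟨y, z, hz, rfl⟩

end Cfsg.Agent.Lib.Helper15.BG1379
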