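import Mathlib
import Cfsg.Agent.Lib.Helper15.BG147Defs
import Cfsg.Agent.Lib.Helper03.BG147C1
import Cfsg.Agent.Lib.Helper52.BG147C2
import Cfsg.Agent.Lib.Helper61.BG147C3
import Cfsg.Agent.Lib.Helper74.BG147C4
import Cfsg.Agent.Lib.Helper52.BG147C56
import Cfsg.Agent.Lib.Helper01.BG147C8
import Cfsg.Agent.Lib.Helper74.BG147C9
import Cfsg.Agent.Lib.Helper74.BG147C10

/-!
# BG 14.7: the LOCAL closure lemma (pack K-147C, glue)

`(M, K)` a P-pair, `X ≤ K` of prime order, `H` a maximal subgroup over `N_G(X)`.  Then `H` is not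
conjugate to `M`, `M ⊓ H = K K*`, `M_σ ⊓ H = K*`, `H_σ ⊓ M = K ⊓ H_σ ∋ X`, and `H` has a Hall
`κ(H)`-subgroup `KH ⊇ K*` with `KH* = K ⊓ H_σ` and `KH KH* = K K*`.  `H` is unique (`home_unique`).
Leaves: helper3 (C1), helper52 (C2, C5, C6), helper61 (C3), helper74 (C4, C9, C10), helper1 (C8),
helper81 / helper68 (C7).
-/

set_option autoImplicit false

namespace Cfsg.Agent.Lib.Helper15.BG147

open Cfsg Cfsg.Agent.Lib.Helper55 Cfsg.Agent.Lib.Helper31.BG134 Cfsg.Agent.Lib.Helper15.BG139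
  Cfsg.Agent.Lib.Helper15.BG142

variable {G : Type*} [Group G] [Finite G]

/-- **the closure lemma** -/
theorem closure (hG : IsMinSimpleOddOrder G) {M K X H : Subgroup G} (hM : IsCoatom M)
    (hK : IsPiHallOf (kappa M) K M) (hK1 : K ≠ ⊥) (hXK : X ≤ K) (hXp : (Nat.card X).Prime)
    (hH : IsCoatom H) (hNH : Subgroup.normalizer (X : Set G) ≤ H) :
    (∀ g : G, cj g M ≠ H) ∧ X ≤ sigmaCore H ∧ M ⊓ H = K ⊔ KStar M K ∧
      sigmaCore M ⊓ H = KStar M K ∧ sigmaCore H ⊓ M = K ⊓ sigmaCore H ∧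
      ∃ KH : Subgroup G, IsPiHallOf (kappa H) KH H ∧ KStar M K ≤ KH ∧ KH ≤ K ⊔ KStar M K ∧
        KStar H KH = K ⊓ sigmaCore H ∧ KH ⊔ KStar H KH = K ⊔ KStar M K := by
  have c : CL M K X H := ⟨hG, hM, hK, hK1, hXK, hXp, hH, hNH⟩
  have c1 := Cfsg.Agent.Lib.Helper03.BG147.cl1 c
  have hκ := Cfsg.Agent.Lib.Helper52.BG147.kappa_of_le c c1
  have hD := Cfsg.Agent.Lib.Helper61.BG147.D_le_K c c1 hκ
  have hZ := Cfsg.Agent.Lib.Helper74.BG147.inf_eq c c1 hD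
  have h5 := Cfsg.Agent.Lib.Helper52.BG147.kstar_primes c c1
  have h6 := Cfsg.Agent.Lib.Helper52.BG147.k_primes c c1
  obtain ⟨R0, hR0Z, hsup, hKsR, hR0κ⟩ := Cfsg.Agent.Lib.Helper01.BG147.exists_R0 c c1 hD hZ h5 h6
  refine ⟨c1.hnc, c1.hXσ, hZ, c1.hσ, ?_,
    Cfsg.Agent.Lib.Helper74.BG147.exists_KH_of_R0 c c1 hD hZ hR0Z hsup hKsR hR0κ⟩
  apply le_antisymm
  · exact le_inf hD inf_le_left
  · exact le_inf inf_le_right (inf_le_left.trans (hK.1))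

/-- the home of `X` is unique -/
theorem home_unique (hG : IsMinSimpleOddOrder G) {M K X : Subgroup G} (hM : IsCoatom M)
    (hK : IsPiHallOf (kappa M) K M) (hK1 : K ≠ ⊥) (hXK : X ≤ K) (hXp : (Nat.card X).Prime)
    {H H' : Subgroup G} (hH : IsCoatom H) (hNH : Subgroup.normalizer (X : Set G) ≤ H)
    (hH' : IsCoatom H') (hNH' : Subgroup.normalizer (X : Set G) ≤ H') : H = H' :=
  Cfsg.Agent.Lib.Helper74.BG147.home_unique hG hM hK hK1 hXK hXp hH hNH hH' hNH'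

end Cfsg.Agent.Lib.Helper15.BG147
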