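import Mathlib
import Cfsg.Agent.Lib.Helper15.BG147Closure
import Cfsg.Agent.Lib.Helper71.BG1366Defs

/-!
# BG 14.7: the closure lemma in the form `hNbr` of helper71's pack K-1366
-/

set_option autoImplicit false

namespace Cfsg.Agent.Lib.Helper15.BG147

open Cfsg Subgroup Cfsg.Agent.Lib.Helper11.BG14D Cfsg.Agent.Lib.Helper71.BG1366

variable {G : Type*} [Group G] [Finite G]

/-- the hypothesis `hNbr` of `uniq_home` / `exists_partner` (K-1366) -/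
theorem hNbr (hG : IsMinSimpleOddOrder G) {M K : Subgroup G} (hp : PPair M K) :
    ∀ X J : Subgroup G, X ≤ K → (Nat.card X).Prime → IsCoatom J → normalizer (X : Set G) ≤ J →
      ∃ KJ : Subgroup G, Nbr M K J KJ ∧ X ≤ Ks J KJ := by
  intro X J hXK hXp hJ hNJ
  obtain ⟨hnc, hXσ, hZ, -, -, KJ, hKJ, hKsKJ, -, hKsJ, hzeq⟩ :=
    closure hG hp.coatom hp.hall hp.ne hXK hXp hJ hNJ
  obtain ⟨E, ks⟩ := Cfsg.Agent.Lib.Helper15.BG142.exists_ks hG hp.coatom hp.hall hp.ne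
  have hKJ1 : KJ ≠ ⊥ := by
    intro h
    apply ks.hKs
    rw [eq_bot_iff, ← h]
    exact hKsKJ
  refine ⟨KJ, ⟨⟨hJ, hKJ, hKJ1⟩, fun g h => hnc g h.symm, hKsKJ, hZ, hzeq, hKsJ⟩, ?_⟩
  rw [show Ks J KJ = K ⊓ sigmaCore J from hKsJ]
  exact le_inf hXK hXσ

end Cfsg.Agent.Lib.Helper15.BG147
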