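import Mathlib

set_option autoImplicit false

namespace Cfsg.Agent.Lib.Helper15

/-- square roots of one modulo `2^(j+2)` -/
theorem sq_modEq_one_cases (j : ℕ) (r : ℕ) (hr : r < 4 * 2 ^ j)
    (h : r * r ≡ 1 [MOD 4 * 2 ^ j]) (hr1 : r ≠ 1) :
    r = 4 * 2 ^ j - 1 ∨ (1 ≤ j ∧ (r = 2 * 2 ^ j + 1 ∨ r = 2 * 2 ^ j - 1)) := by
  rcases Nat.eq_zero_or_pos j with hj0 | hjpos
  · subst hj0
    left
    simp only [pow_zero, mul_one] at hr h ⊢
    interval_cases r
    · exact absurd h (by decide)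
    · exact absurd rfl hr1
    · exact absurd h (by decide)
    · rfl
  obtain ⟨M, hM⟩ : ∃ M, M = 2 ^ j := ⟨_, rfl⟩
  rw [← hM] at hr h ⊢
  have hMpos : 0 < M := by rw [hM]; positivity
  -- r is odd
  have hodd : r % 2 = 1 := by
    have h2 : r * r ≡ 1 [MOD 2] := h.of_dvd ⟨2 * M, by ring⟩
    unfold Nat.ModEq at h2
    rw [Nat.mul_mod] at h2
    rcases Nat.mod_two_eq_zero_or_one r with h0 | h0
    · rw [h0] at h2; simp at h2
    · exact h0
  obtain ⟨m, rfl⟩ : ∃ m, r = 2 * m + 1 := ⟨r / 2, by omega⟩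
  have h3 : 4 * (m * (m + 1)) ≡ 0 [MOD 4 * M] := by
    have e : (2 * m + 1) * (2 * m + 1) = 4 * (m * (m + 1)) + 1 := by ring
    rw [e] at h
    have : 4 * (m * (m + 1)) + 1 ≡ 0 + 1 [MOD 4 * M] := by simpa using h
    exact Nat.ModEq.add_right_cancel' 1 this
  have h4 : M ∣ m * (m + 1) := by
    have := (Nat.modEq_zero_iff_dvd).mp h3
    exact (Nat.mul_dvd_mul_iff_left (by norm_num)).mp this
  have h5 : M ∣ m ∨ M ∣ m + 1 := by
    rcases Nat.even_or_odd m with he | ho
    · left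
      have hcop : Nat.Coprime M (m + 1) := by
        rw [hM]; exact Nat.Coprime.pow_left j (Nat.coprime_two_left.mpr he.add_one)
      exact Nat.Coprime.dvd_of_dvd_mul_right hcop h4
    · right
      have hcop : Nat.Coprime M m := by
        rw [hM]; exact Nat.Coprime.pow_left j (Nat.coprime_two_left.mpr ho)
      exact Nat.Coprime.dvd_of_dvd_mul_left hcop h4
  rcases h5 with ⟨t, rfl⟩ | ⟨t, ht⟩
  · have ht2 : t < 2 := by
      by_contra hcon
      have : 2 ≤ t := by omega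
      have : M * 2 ≤ M * t := Nat.mul_le_mul_left M this
      omega
    interval_cases t
    · exact absurd (by ring) hr1
    · right
      exact ⟨hjpos, Or.inl (by ring)⟩
  · have ht2 : t ≤ 2 := by
      by_contra hcon
      have : 3 ≤ t := by omega
      have : M * 3 ≤ M * t := Nat.mul_le_mul_left M this
      omega
    have ht1 : 1 ≤ t := by
      rcases Nat.eq_zero_or_pos t with h0 | h0
      · rw [h0, mul_zero] at ht; omega
      · exact h0
    interval_cases t
    · right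
      refine ⟨hjpos, Or.inr ?_⟩
      omega
    · left
      omega

/-- case `r = -1`: the square of `b` is `1` or the central involution -/
theorem neg_one_mul_modEq_cases (M s : ℕ) (hM : 0 < M) (hs : s < 4 * M)
    (h : (4 * M - 1) * s ≡ s [MOD 4 * M]) : s = 0 ∨ s = 2 * M := by
  have h1 : s + s ≡ 0 [MOD 4 * M] := by
    have h2 : (4 * M - 1) * s + s ≡ s + s [MOD 4 * M] := Nat.ModEq.add_right s h
    have e : (4 * M - 1) * s + s = 4 * M * s := by
      obtain ⟨c, hc⟩ : ∃ c, 4 * M = c + 1 := ⟨4 * M - 1, by omega⟩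
      rw [hc]; simp; ring
    rw [e] at h2
    have h3 : 4 * M * s ≡ 0 [MOD 4 * M] := (Nat.modEq_zero_iff_dvd).mpr (Dvd.intro _ rfl)
    exact h2.symm.trans h3
  obtain ⟨t, ht⟩ := (Nat.modEq_zero_iff_dvd).mp h1
  have ht2 : t < 2 := by
    by_contra hcon
    have : 2 ≤ t := by omega
    have : 4 * M * 2 ≤ 4 * M * t := Nat.mul_le_mul_left _ this
    omega
  interval_cases t
  · left; omega
  · right; omega

/-- case `r = 1 + 2^(k-1)`: the square of `b` is an even power of `a` -/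
theorem modular_mul_modEq_even (M s : ℕ) (hM : 0 < M)
    (h : (2 * M + 1) * s ≡ s [MOD 4 * M]) : 2 ∣ s := by
  have h1 : 2 * M * s ≡ 0 [MOD 4 * M] := by
    have e : (2 * M + 1) * s = 2 * M * s + s := by ring
    rw [e] at h
    have : 2 * M * s + s ≡ 0 + s [MOD 4 * M] := by simpa using h
    exact Nat.ModEq.add_right_cancel' s this
  have h2 := (Nat.modEq_zero_iff_dvd).mp h1
  have e : 4 * M = 2 * M * 2 := by ring
  rw [e] at h2
  exact (Nat.mul_dvd_mul_iff_left (by omega)).mp h2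

/-- case `r = -1 + 2^(k-1)`: the square of `b` is `1` or the central involution -/
theorem semidihedral_mul_modEq_cases (j s : ℕ) (hj : 1 ≤ j) (hs : s < 4 * 2 ^ j)
    (h : (2 * 2 ^ j - 1) * s ≡ s [MOD 4 * 2 ^ j]) : s = 0 ∨ s = 2 * 2 ^ j := by
  obtain ⟨i, rfl⟩ : ∃ i, j = i + 1 := ⟨j - 1, by omega⟩
  obtain ⟨K, hK⟩ : ∃ K, K = 2 ^ i := ⟨_, rfl⟩
  have hKpos : 0 < K := by rw [hK]; positivity
  have e2 : 2 ^ (i + 1) = 2 * K := by rw [hK, pow_succ]; ring
  rw [e2] at hs h ⊢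
  -- (4K - 1) s ≡ s mod 8K
  have h1 : (4 * K - 2) * s ≡ 0 [MOD 4 * (2 * K)] := by
    have e : (2 * (2 * K) - 1) * s = (4 * K - 2) * s + s := by
      obtain ⟨c, hc⟩ : ∃ c, 4 * K = c + 2 := ⟨4 * K - 2, by omega⟩
      have e1 : 2 * (2 * K) - 1 = c + 1 := by omega
      have e3 : 4 * K - 2 = c := by omega
      rw [e1, e3]; ring
    rw [e] at h
    have : (4 * K - 2) * s + s ≡ 0 + s [MOD 4 * (2 * K)] := by simpa using h
    exact Nat.ModEq.add_right_cancel' s this
  have h2 := (Nat.modEq_zero_iff_dvd).mp h1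
  have e3 : (4 * K - 2) * s = 2 * ((2 * K - 1) * s) := by
    obtain ⟨c, hc⟩ : ∃ c, 2 * K = c + 1 := ⟨2 * K - 1, by omega⟩
    have e1 : 4 * K - 2 = 2 * c := by omega
    have e4 : 2 * K - 1 = c := by omega
    rw [e1, e4]; ring
  have e4 : 4 * (2 * K) = 2 * (4 * K) := by ring
  rw [e3, e4] at h2
  have h3 : 4 * K ∣ (2 * K - 1) * s := (Nat.mul_dvd_mul_iff_left (by norm_num)).mp h2
  have hcop : Nat.Coprime (4 * K) (2 * K - 1) := by
    have e5 : 4 * K = 2 ^ (i + 2) := by rw [hK]; ring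
    rw [e5]
    apply Nat.Coprime.pow_left
    rw [Nat.coprime_two_left]
    exact ⟨K - 1, by omega⟩
  have h4 : 4 * K ∣ s := Nat.Coprime.dvd_of_dvd_mul_left hcop h3
  obtain ⟨t, rfl⟩ := h4
  have ht2 : t < 2 := by
    by_contra hcon
    have : 2 ≤ t := by omega
    have : 4 * K * 2 ≤ 4 * K * t := Nat.mul_le_mul_left _ this
    omega
  interval_cases t
  · left; omega
  · right; omega

end Cfsg.Agent.Lib.Helper15
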