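import Mathlib.NumberTheory.Multiplicity
import Mathlib.FieldTheory.Finite.Basic
import Mathlib.Tactic.Group
import Mathlib.Data.Int.GCD

set_option autoImplicit false

namespace Cfsg.Agent.Lib.Helper15

/-- if `r^p ≡ 1 mod p^k` for an odd prime `p` and `k ≥ 1` then `r ≡ 1 mod p` -/
theorem modEq_one_of_pow_prime {p : ℕ} [hp : Fact p.Prime] {k r : ℕ} (hk : 1 ≤ k)
    (h : r ^ p ≡ 1 [MOD p ^ k]) : r ≡ 1 [MOD p] := by
  have h1 : r ^ p ≡ 1 [MOD p] := h.of_dvd (dvd_pow_self p (by omega))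
  rw [← ZMod.natCast_eq_natCast_iff] at h1 ⊢
  push_cast at h1 ⊢
  rwa [ZMod.pow_card] at h1

/-- lifting the exponent: if `r^p ≡ 1 mod p^k` for an odd prime `p` then `p^k ∣ (r - 1) p`,
written without subtraction -/
theorem mul_modEq_of_pow_prime {p : ℕ} [hp : Fact p.Prime] (hodd : p ≠ 2) {k r : ℕ}
    (h : r ^ p ≡ 1 [MOD p ^ k]) : r * p ≡ p [MOD p ^ k] := by
  rcases Nat.eq_zero_or_pos k with hk0 | hkpos
  · subst hk0
    simp [Nat.modEq_one]
  have hr1 : r ≡ 1 [MOD p] := modEq_one_of_pow_prime hkpos h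
  have hp2 : 2 ≤ p := hp.out.two_le
  have hrne : r ≠ 0 := by
    rintro rfl
    have := hr1.symm
    rw [Nat.modEq_zero_iff_dvd] at this
    have := Nat.le_of_dvd Nat.one_pos this
    omega
  rcases Nat.lt_or_ge 1 r with hr | hr
  · -- r > 1 : lifting the exponent
    have hoddp : Odd p := hp.out.odd_of_ne_two hodd
    have hdvd1 : p ∣ r - 1 := (Nat.modEq_iff_dvd' (by omega)).mp hr1.symm
    have hnd : ¬ p ∣ r := by
      intro hpr
      have : p ∣ 1 := by
        have := Nat.dvd_sub hpr hdvd1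
        have h2 : r - (r - 1) = 1 := by omega
        rwa [h2] at this
      have := Nat.le_of_dvd Nat.one_pos this
      omega
    have hlte := padicValNat.pow_sub_pow hoddp hr (by simpa using hdvd1) hnd
      (n := p) hp.out.ne_zero
    rw [one_pow, padicValNat_self] at hlte
    have hpow1 : 1 < r ^ p := Nat.one_lt_pow hp.out.ne_zero hr
    have hdvdk : p ^ k ∣ r ^ p - 1 := (Nat.modEq_iff_dvd' (by omega)).mp h.symm
    have hne : r ^ p - 1 ≠ 0 := by omega
    have hle : k ≤ padicValNat p (r ^ p - 1) := (padicValNat_dvd_iff_le hne).mp hdvdk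
    rw [hlte] at hle
    have hne1 : r - 1 ≠ 0 := by omega
    have hdvd2 : p ^ (k - 1) ∣ r - 1 := (padicValNat_dvd_iff_le hne1).mpr (by omega)
    have hdvd3 : p ^ k ∣ (r - 1) * p := by
      have : p ^ k = p ^ (k - 1) * p := by
        rw [← pow_succ]; congr 1; omega
      rw [this]
      exact Nat.mul_dvd_mul_right hdvd2 p
    have heq : r * p = (r - 1) * p + p := by
      have : r = (r - 1) + 1 := by omega
      conv_lhs => rw [this]
      ring
    rw [heq]
    have : (r - 1) * p + p ≡ 0 + p [MOD p ^ k] :=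
      Nat.ModEq.add_right p ((Nat.modEq_zero_iff_dvd).mpr hdvd3)
    simpa using this
  · have : r = 1 := by omega
    subst this
    simp [Nat.ModEq]

/-- binomial expansion to first order -/
theorem one_add_pow_exists (u s : ℕ) : ∃ c, (1 + u) ^ s = 1 + s * u + c * u ^ 2 := by
  induction s with
  | zero => exact ⟨0, by simp⟩
  | succ s ih =>
    obtain ⟨c, hc⟩ := ih
    refine ⟨s + c + c * u, ?_⟩
    rw [pow_succ, hc]
    ring

/-- normalising the conjugation exponent: if `r^p ≡ 1` but `r ≢ 1` mod `p^k` (`p` odd, `k ≥ 2`),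
some power `r^s` with `p ∤ s` is `≡ 1 + p^(k-1)`. -/
theorem exists_pow_modEq_one_add {p : ℕ} [hp : Fact p.Prime] (hodd : p ≠ 2) {k r : ℕ} (hk : 2 ≤ k)
    (h : r ^ p ≡ 1 [MOD p ^ k]) (hne : ¬ r ≡ 1 [MOD p ^ k]) :
    ∃ s : ℕ, ¬ p ∣ s ∧ r ^ s ≡ 1 + p ^ (k - 1) [MOD p ^ k] := by
  have hp2 : 2 ≤ p := hp.out.two_le
  have h1 := mul_modEq_of_pow_prime hodd h
  have hkpos : 0 < p ^ k := pow_pos (by omega) k
  have hk1 : 1 < p ^ k := Nat.one_lt_pow (by omega) (by omega)
  have hrne : r ≠ 0 := by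
    rintro rfl
    rw [zero_pow hp.out.ne_zero] at h
    have := h.symm
    rw [Nat.modEq_zero_iff_dvd] at this
    have := Nat.le_of_dvd Nat.one_pos this
    omega
  obtain ⟨u, rfl⟩ : ∃ u, r = 1 + u := ⟨r - 1, by omega⟩
  have h2 : u * p ≡ 0 [MOD p ^ k] := by
    have : p + u * p ≡ p + 0 [MOD p ^ k] := by
      have e : (1 + u) * p = p + u * p := by ring
      rw [e] at h1
      simpa using h1
    exact Nat.ModEq.add_left_cancel' p this
  have h3 : p ^ k ∣ u * p := (Nat.modEq_zero_iff_dvd).mp h2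
  have hkk : p ^ k = p ^ (k - 1) * p := by
    rw [← pow_succ]; congr 1; omega
  have h4 : p ^ (k - 1) ∣ u := by
    rw [hkk] at h3
    exact (Nat.mul_dvd_mul_iff_right (by omega)).mp h3
  obtain ⟨t, rfl⟩ := h4
  have hpt : ¬ p ∣ t := by
    rintro ⟨t', rfl⟩
    apply hne
    have e : 1 + p ^ (k - 1) * (p * t') = 1 + p ^ k * t' := by rw [hkk]; ring
    rw [e]
    show (1 + p ^ k * t') % p ^ k = 1 % p ^ k
    simp
  have hcop : Nat.Coprime t p := ((Nat.Prime.coprime_iff_not_dvd hp.out).mpr hpt).symm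
  obtain ⟨s, -, hs⟩ := Nat.exists_mul_mod_eq_one_of_coprime hcop (by omega)
  refine ⟨s, ?_, ?_⟩
  · intro hps
    have : p ∣ t * s := Dvd.dvd.mul_left hps t
    rw [Nat.dvd_iff_mod_eq_zero] at this
    omega
  · obtain ⟨c, hc⟩ := one_add_pow_exists (p ^ (k - 1) * t) s
    rw [hc]
    obtain ⟨m, hm⟩ : ∃ m, t * s = 1 + p * m := ⟨t * s / p, by
      have := Nat.div_add_mod (t * s) p
      rw [hs] at this
      omega⟩
    have hsq : (p ^ (k - 1) * t) ^ 2 = p ^ k * (p ^ (k - 2) * t ^ 2) := by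
      have : (p ^ (k - 1)) ^ 2 = p ^ k * p ^ (k - 2) := by
        rw [← pow_mul, ← pow_add]; congr 1; omega
      rw [mul_pow, this]; ring
    have e : 1 + s * (p ^ (k - 1) * t) + c * (p ^ (k - 1) * t) ^ 2
        = (1 + p ^ (k - 1)) + p ^ k * (m + c * (p ^ (k - 2) * t ^ 2)) := by
      rw [hsq]
      have : s * (p ^ (k - 1) * t) = p ^ (k - 1) * (t * s) := by ring
      rw [this, hm, hkk]
      ring
    rw [e]
    show ((1 + p ^ (k - 1)) + p ^ k * (m + c * (p ^ (k - 2) * t ^ 2))) % p ^ k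
      = (1 + p ^ (k - 1)) % p ^ k
    simp

/-- `r^p ≡ 1 mod p^k` (`p` odd, `k ≥ 1`) forces `r = 1 + p^(k-1) t` and `r = 1 + p t'`. -/
theorem exists_eq_one_add_of_pow_prime {p : ℕ} [hp : Fact p.Prime] (hodd : p ≠ 2) {k r : ℕ}
    (hk : 1 ≤ k) (h : r ^ p ≡ 1 [MOD p ^ k]) :
    (∃ t, r = 1 + p ^ (k - 1) * t) ∧ (∃ t, r = 1 + p * t) := by
  have hp2 : 2 ≤ p := hp.out.two_le
  have h1 := mul_modEq_of_pow_prime hodd h
  have hk1 : 1 < p ^ k := Nat.one_lt_pow (by omega) (by omega)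
  have hrne : r ≠ 0 := by
    rintro rfl
    rw [zero_pow hp.out.ne_zero] at h
    have := h.symm
    rw [Nat.modEq_zero_iff_dvd] at this
    have := Nat.le_of_dvd Nat.one_pos this
    omega
  have hr1 : 1 ≤ r := by omega
  constructor
  · obtain ⟨u, rfl⟩ : ∃ u, r = 1 + u := ⟨r - 1, by omega⟩
    have h2 : u * p ≡ 0 [MOD p ^ k] := by
      have : p + u * p ≡ p + 0 [MOD p ^ k] := by
        have e : (1 + u) * p = p + u * p := by ring
        rw [e] at h1
        simpa using h1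
      exact Nat.ModEq.add_left_cancel' p this
    have h3 : p ^ k ∣ u * p := (Nat.modEq_zero_iff_dvd).mp h2
    have hkk : p ^ k = p ^ (k - 1) * p := by
      rw [← pow_succ]; congr 1; omega
    have h4 : p ^ (k - 1) ∣ u := by
      rw [hkk] at h3
      exact (Nat.mul_dvd_mul_iff_right (by omega)).mp h3
    obtain ⟨t, rfl⟩ := h4
    exact ⟨t, rfl⟩
  · have h5 := modEq_one_of_pow_prime hk h
    have h6 : p ∣ r - 1 := (Nat.modEq_iff_dvd' hr1).mp h5.symm
    obtain ⟨t, ht⟩ := h6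
    exact ⟨t, by omega⟩

end Cfsg.Agent.Lib.Helper15
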