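import Mathlib
import Cfsg.Agent.Lib.Helper15.CycNT
import Cfsg.Agent.Lib.Helper26.NormalPP

set_option autoImplicit false

namespace Cfsg.Agent.Lib.Helper15

section
variable {G : Type*} [Group G]

theorem conj_pow_iter' (a b : G) (r : ℕ) (h : b * a * b⁻¹ = a ^ r) (j : ℕ) :
    b ^ j * a * (b ^ j)⁻¹ = a ^ (r ^ j) := by
  induction j with
  | zero => simp
  | succ j ih =>
    have e : b ^ (j + 1) * a * (b ^ (j + 1))⁻¹ = b * (b ^ j * a * (b ^ j)⁻¹) * b⁻¹ := by
      rw [pow_succ']; group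
    rw [e, ih, ← conj_pow, h, ← pow_mul, pow_succ']

theorem pow_prime_pow_split {p k : ℕ} (hk : 1 ≤ k) : p ^ k = p ^ (k - 1) * p := by
  rw [← pow_succ]; congr 1; omega

/-- a subgroup of prime index together with an element outside it generates everything -/
theorem sup_zpowers_eq_top' {p : ℕ} [hp : Fact p.Prime] (C : Subgroup G)
    (hCi : C.index = p) (b : G) (hb : b ∉ C) : C ⊔ Subgroup.zpowers b = ⊤ := by
  have hle : C ≤ C ⊔ Subgroup.zpowers b := le_sup_left
  have h1 := Subgroup.relIndex_mul_index hle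
  rw [hCi] at h1
  have hdvd : (C ⊔ Subgroup.zpowers b).index ∣ p := Dvd.intro_left _ h1
  rcases (Nat.dvd_prime hp.out).mp hdvd with h2 | h2
  · exact Subgroup.index_eq_one.mp h2
  · exfalso
    rw [h2] at h1
    have h3 : C.relIndex (C ⊔ Subgroup.zpowers b) = 1 := by
      have hp0 := hp.out.pos
      exact Nat.eq_of_mul_eq_mul_right hp0 (by rw [h1, one_mul])
    have h4 := Subgroup.relIndex_eq_one.mp h3
    exact hb (h4 (Subgroup.mem_sup_right (Subgroup.mem_zpowers b)))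

/-- elements of order dividing `p` in a cyclic group of order `p^k` lie in the subgroup generated
by `a^(p^(k-1))` -/
theorem mem_zpowers_pow_of_pow_eq_one {p : ℕ} [hp : Fact p.Prime] {a : G} {k : ℕ} (hk : 1 ≤ k)
    (ha : orderOf a = p ^ k) {x : G} (hx : x ∈ Subgroup.zpowers a) (hxp : x ^ p = 1) :
    x ∈ Subgroup.zpowers (a ^ (p ^ (k - 1))) := by
  obtain ⟨i, rfl⟩ := hx
  rw [← zpow_natCast, ← zpow_mul] at hxp
  have hdvd := orderOf_dvd_iff_zpow_eq_one.mpr hxp
  rw [ha, pow_prime_pow_split hk] at hdvd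
  push_cast at hdvd
  have hp0 : (p : ℤ) ≠ 0 := by exact_mod_cast hp.out.ne_zero
  obtain ⟨c, rfl⟩ := (mul_dvd_mul_iff_right hp0).mp hdvd
  refine ⟨c, ?_⟩
  show (a ^ (p ^ (k - 1))) ^ c = a ^ ((p : ℤ) ^ (k - 1) * c)
  rw [← zpow_natCast, ← zpow_mul]
  push_cast
  rfl

theorem card_zpowers_pow_prime {p : ℕ} [hp : Fact p.Prime] {a : G} {k : ℕ} (hk : 1 ≤ k)
    (ha : orderOf a = p ^ k) : Nat.card (Subgroup.zpowers (a ^ (p ^ (k - 1)))) = p := by
  have hp0 : 0 < p := hp.out.pos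
  rw [Nat.card_zpowers, orderOf_pow' _ (by positivity), ha, pow_prime_pow_split hk,
    Nat.gcd_eq_right (Dvd.intro _ rfl)]
  exact Nat.mul_div_cancel_left p (by positivity)

/-- a subgroup of exponent `p` inside a cyclic subgroup of a `p`-group has order at most `p` -/
theorem card_le_of_le_cyclic_of_exp [Finite G] {p : ℕ} [hp : Fact p.Prime] (hG : IsPGroup p G)
    (N : Subgroup G) (hN : IsCyclic N) (H : Subgroup G) (hHN : H ≤ N) (hH : ∀ x ∈ H, x ^ p = 1) :
    Nat.card H ≤ p := by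
  obtain ⟨g, hg⟩ := hN.exists_generator
  have hNz : Subgroup.zpowers (g : G) = N := by
    apply le_antisymm
    · rw [Subgroup.zpowers_le]; exact g.2
    · intro x hx
      obtain ⟨i, hi⟩ := hg ⟨x, hx⟩
      refine ⟨i, ?_⟩
      have := congrArg (Subtype.val) hi
      simpa using this
  obtain ⟨k, hk⟩ := (IsPGroup.iff_orderOf.mp hG) (g : G)
  rcases Nat.eq_zero_or_pos k with hk0 | hkpos
  · rw [hk0, pow_zero, orderOf_eq_one_iff] at hk
    have hNbot : N = ⊥ := by rw [← hNz, hk, Subgroup.zpowers_one_eq_bot]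
    have hHbot : H = ⊥ := by rw [eq_bot_iff, ← hNbot]; exact hHN
    rw [hHbot, Subgroup.card_bot]
    exact hp.out.pos
  · have hle : H ≤ Subgroup.zpowers ((g : G) ^ (p ^ (k - 1))) := by
      intro x hx
      exact mem_zpowers_pow_of_pow_eq_one hkpos hk (by rw [hNz]; exact hHN hx) (hH x hx)
    have := Subgroup.card_le_of_le hle
    rwa [card_zpowers_pow_prime hkpos hk] at this

/-- In a `p`-group (`p` odd) with a cyclic normal subgroup of index `p`, the `p`-power map is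
multiplicative. -/
theorem mul_pow_prime_of_cyclic_index [Finite G] {p : ℕ} [hp : Fact p.Prime] (hodd : p ≠ 2)
    (hG : IsPGroup p G) (C : Subgroup G) [hCn : C.Normal] (hC : IsCyclic C) (hCi : C.index = p)
    (x y : G) : (x * y) ^ p = x ^ p * y ^ p := by
  have hpp := hp.out
  have hp0 : 0 < p := hpp.pos
  obtain ⟨g, hg⟩ := hC.exists_generator
  obtain ⟨a, ha⟩ : ∃ a : G, a = (g : G) := ⟨_, rfl⟩
  have haC : a ∈ C := by rw [ha]; exact g.2
  have hCz : Subgroup.zpowers a = C := by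
    apply le_antisymm
    · rw [Subgroup.zpowers_le]; exact haC
    · intro x hx
      obtain ⟨i, hi⟩ := hg ⟨x, hx⟩
      refine ⟨i, ?_⟩
      have := congrArg (Subtype.val) hi
      rw [ha]
      simpa using this
  obtain ⟨k, hk⟩ := (IsPGroup.iff_orderOf.mp hG) a
  rcases Nat.eq_zero_or_pos k with hk0 | hkpos
  · have ha1 : a = 1 := by rw [hk0, pow_zero] at hk; exact orderOf_eq_one_iff.mp hk
    have hCbot : C = ⊥ := by rw [← hCz, ha1, Subgroup.zpowers_one_eq_bot]
    have hcard : Nat.card G = p := by rw [← hCi, hCbot, Subgroup.index_bot]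
    have hcyc : IsCyclic G := isCyclic_of_prime_card hcard
    have hcomm : Commute x y := by
      obtain ⟨g', hg'⟩ := hcyc.exists_generator
      obtain ⟨i, rfl⟩ := hg' x
      obtain ⟨j, rfl⟩ := hg' y
      exact (Commute.refl g').zpow_zpow i j
    exact hcomm.mul_pow p
  have hk1 : 1 ≤ k := hkpos
  obtain ⟨z0, hz0⟩ : ∃ z0 : G, z0 = a ^ (p ^ (k - 1)) := ⟨_, rfl⟩
  have hfin : IsOfFinOrder a := isOfFinOrder_of_finite a
  -- conjugation exponents
  have hconj : ∀ y : G, ∃ r : ℕ, y * a * y⁻¹ = a ^ r ∧ (∃ t, r = 1 + p ^ (k - 1) * t) ∧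
      (∃ t, r = 1 + p * t) := by
    intro y
    have hmem : y * a * y⁻¹ ∈ Subgroup.zpowers a := by
      rw [hCz]; exact hCn.conj_mem a haC y
    obtain ⟨r, hr⟩ := (hfin.mem_powers_iff_mem_zpowers).mpr hmem
    have hr' : y * a * y⁻¹ = a ^ r := hr.symm
    have hyp : y ^ p ∈ Subgroup.zpowers a := by
      rw [hCz, ← hCi]; exact Subgroup.pow_index_mem C y
    obtain ⟨i, hi⟩ := hyp
    have hiter := conj_pow_iter' a y r hr' p
    rw [← hi] at hiter
    have hcomm : a ^ i * a * (a ^ i)⁻¹ = a := by group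
    rw [hcomm] at hiter
    have hmod : r ^ p ≡ 1 [MOD p ^ k] := by
      rw [← hk]
      apply (pow_eq_pow_iff_modEq).mp
      rw [pow_one]; exact hiter.symm
    obtain ⟨h1, h2⟩ := exists_eq_one_add_of_pow_prime hodd hk1 hmod
    exact ⟨r, hr', h1, h2⟩
  have hz0p : z0 ^ p = 1 := by
    rw [hz0, ← pow_mul, ← pow_prime_pow_split hk1, ← hk, pow_orderOf_eq_one]
  have hz0c : ∀ y : G, Commute z0 y := by
    intro y
    obtain ⟨r, hr, -, ⟨t, ht⟩⟩ := hconj y
    have h1 : y * z0 * y⁻¹ = z0 := by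
      rw [hz0, ← conj_pow, hr, ← pow_mul, ht]
      have e : (1 + p * t) * p ^ (k - 1) = p ^ (k - 1) + p ^ k * t := by
        rw [pow_prime_pow_split hk1]; ring
      rw [e, pow_add, pow_mul (a := a) (p ^ k), ← hk, pow_orderOf_eq_one, one_pow, mul_one]
    show z0 * y = y * z0
    calc z0 * y = y * z0 * y⁻¹ * y := by rw [h1]
      _ = y * z0 := by group
  have hZc : ∀ c ∈ Subgroup.zpowers z0, ∀ y : G, Commute c y := by
    rintro c ⟨i, rfl⟩ y
    exact (hz0c y).zpow_left i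
  have hZp : ∀ c ∈ Subgroup.zpowers z0, c ^ p = 1 := by
    rintro c ⟨i, rfl⟩
    show (z0 ^ i) ^ p = 1
    rw [← zpow_natCast, ← zpow_mul, mul_comm, zpow_mul, zpow_natCast, hz0p, one_zpow]
  have hcommC : ∀ y : G, ∀ n ∈ C, ∃ j : ℕ, y * n * y⁻¹ = n * z0 ^ j := by
    intro y n hn
    rw [← hCz] at hn
    obtain ⟨i, rfl⟩ := (hfin.mem_powers_iff_mem_zpowers).mpr hn
    obtain ⟨r, hr, ⟨t, ht⟩, -⟩ := hconj y
    refine ⟨t * i, ?_⟩
    rw [← conj_pow, hr, ← pow_mul, ht, hz0, ← pow_mul, ← pow_add]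
    congr 1; ring
  have hall : ∀ x y : G, ∃ c ∈ Subgroup.zpowers z0, y * x = x * y * c := by
    intro x y
    by_cases hx : x ∈ C
    · obtain ⟨j, hj⟩ := hcommC y x hx
      refine ⟨z0 ^ j, Subgroup.pow_mem _ (Subgroup.mem_zpowers z0) j, ?_⟩
      calc y * x = y * x * y⁻¹ * y := by group
        _ = x * (z0 ^ j * y) := by rw [hj]; simp only [mul_assoc]
        _ = x * (y * z0 ^ j) := by rw [((hz0c y).pow_left j).eq]
        _ = x * y * z0 ^ j := by simp only [mul_assoc]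
    · have htop := sup_zpowers_eq_top' C hCi x hx
      have hy : y ∈ C ⊔ Subgroup.zpowers x := by rw [htop]; exact Subgroup.mem_top y
      obtain ⟨n, hn, w, ⟨j, rfl⟩, rfl⟩ := Subgroup.mem_sup_of_normal_left.mp hy
      obtain ⟨m, hm⟩ := hcommC x n hn
      refine ⟨(z0 ^ m)⁻¹, Subgroup.inv_mem _ (Subgroup.pow_mem _ (Subgroup.mem_zpowers z0) m), ?_⟩
      have hxj : x ^ j * x = x * x ^ j := ((Commute.refl x).zpow_left j).eq
      have h1 : x * (n * x ^ j) = n * (x * x ^ j) * z0 ^ m := by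
        calc x * (n * x ^ j) = (x * n * x⁻¹) * (x * x ^ j) := by group
          _ = n * (z0 ^ m * (x * x ^ j)) := by rw [hm]; simp only [mul_assoc]
          _ = n * ((x * x ^ j) * z0 ^ m) := by rw [((hz0c (x * x ^ j)).pow_left m).eq]
          _ = n * (x * x ^ j) * z0 ^ m := by simp only [mul_assoc]
      show n * x ^ j * x = x * (n * x ^ j) * (z0 ^ m)⁻¹
      rw [h1, mul_assoc n, hxj]
      group
  obtain ⟨c, hcZ, hc⟩ := hall x y
  exact Cfsg.Agent.Lib.Helper26.mul_pow_prime_comm_central hodd x y c hc (hZc c hcZ x)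
    (hZc c hcZ y) (hZp c hcZ)

end

end Cfsg.Agent.Lib.Helper15
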