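import Cfsg.Agent.Lib.Helper60.FHAdj

/-!
K-S1142-B (for helper60): basic facts on the 0/1 matrices `adj P g` of `B`-double cosets.
-/

set_option autoImplicit false
set_option linter.unusedSectionVars false

namespace Cfsg.Agent.Lib.Helper15.FH

open Cfsg Cfsg.Agent.Lib.Helper08 Cfsg.Agent.Lib.Helper60.FH Matrix

section adj
variable {G : Type*} [Group G] (P : Cfsg.BNPair G) [Fintype (G ⧸ P.B)] [DecidableEq (G ⧸ P.B)]

theorem adj_one : adj P 1 = (1 : Matrix (G ⧸ P.B) (G ⧸ P.B) ℝ) := by
  classical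
  ext x y
  induction x using QuotientGroup.induction_on with
  | H x =>
  induction y using QuotientGroup.induction_on with
  | H y =>
  rw [adj_apply_mk, Matrix.one_apply]
  have h : DC P 1 (x⁻¹ * y) ↔ (QuotientGroup.mk x : G ⧸ P.B) = QuotientGroup.mk y := by
    rw [DC_one_iff, QuotientGroup.eq]
  by_cases hxy : (QuotientGroup.mk x : G ⧸ P.B) = QuotientGroup.mk y
  · rw [if_pos (h.2 hxy), if_pos hxy]
  · rw [if_neg (fun hh => hxy (h.1 hh)), if_neg hxy]

theorem adj_congr {g h : G} (hgh : DC P g h) : adj P g = adj P h := by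
  classical
  ext x y
  induction x using QuotientGroup.induction_on with
  | H x =>
  induction y using QuotientGroup.induction_on with
  | H y =>
  rw [adj_apply_mk, adj_apply_mk]
  have hiff : DC P g (x⁻¹ * y) ↔ DC P h (x⁻¹ * y) :=
    ⟨fun hh => DC_trans P (DC_symm P hgh) hh, fun hh => DC_trans P hgh hh⟩
  by_cases h1 : DC P g (x⁻¹ * y)
  · rw [if_pos h1, if_pos (hiff.1 h1)]
  · rw [if_neg h1, if_neg (fun hh => h1 (hiff.2 hh))]

theorem adj_transpose_S {s : G} (hs : s ∈ P.S) : (adj P s)ᵀ = adj P s := by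
  classical
  ext x y
  induction x using QuotientGroup.induction_on with
  | H x =>
  induction y using QuotientGroup.induction_on with
  | H y =>
  rw [Matrix.transpose_apply, adj_apply_mk, adj_apply_mk]
  have hiff : DC P s (y⁻¹ * x) ↔ DC P s (x⁻¹ * y) := by
    have key : ∀ u : G, DC P s u → DC P s u⁻¹ := by
      intro u hu
      have h1 : DC P s⁻¹ u⁻¹ := DC_inv P hu
      exact (Eqv_dc_iff P (Eqv_inv_S P hs)).1 h1
    constructor
    · intro hh
      have := key _ hh
      rwa [_root_.mul_inv_rev, inv_inv] at this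
    · intro hh
      have := key _ hh
      rwa [_root_.mul_inv_rev, inv_inv] at this
  by_cases h1 : DC P s (y⁻¹ * x)
  · rw [if_pos h1, if_pos (hiff.1 h1)]
  · rw [if_neg h1, if_neg (fun hh => h1 (hiff.2 hh))]

theorem trace_adj {g : G} (hg : g ∉ P.B) : Matrix.trace (adj P g) = 0 := by
  classical
  unfold Matrix.trace
  apply Finset.sum_eq_zero
  intro x _
  induction x using QuotientGroup.induction_on with
  | H x =>
  rw [Matrix.diag_apply]
  apply adj_apply_mk_of_not_dc
  intro hdc
  rw [inv_mul_cancel] at hdc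
  -- 1 ∈ B g B, so g ∈ B
  have h1 : DC P 1 g := DC_symm P hdc
  exact hg ((DC_one_iff P).1 h1)

end adj

end Cfsg.Agent.Lib.Helper15.FH
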