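import Mathlib
import Cfsg.Agent.Lib.Helper15.FPF
import Cfsg.Agent.Lib.Helper04.ThompsonNorm

set_option autoImplicit false

/-!
# Fixed-point-free automorphisms of order dividing 4

Main result `nilpotent_Lsub`: for a finite solvable group `G` with a fixed-point-free
endomorphism `φ` with `φ^[4] = id`, the subgroup `[G, φ²]` is nilpotent; hence `G'` is nilpotent.
-/

namespace Cfsg.Agent.Lib.Helper15

universe u

open scoped commutatorElement

section General

variable {G : Type u} [Group G]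

theorem IsFpfPer.mem_of_inv_mul_mem [Finite G] {q : ℕ} {φ : G →* G} (h : IsFpfPer q φ)
    (N : Subgroup G) (hN : Stable φ N) {g : G} (hg : g⁻¹ * φ g ∈ N) : g ∈ N := by
  obtain ⟨n, hn⟩ := (h.restrict N hN).fpf.commutatorMap_surjective ⟨g⁻¹ * φ g, hg⟩
  have h2 : MonoidHom.commutatorMap φ (n : G) = MonoidHom.commutatorMap φ g⁻¹ := by
    have := congrArg Subtype.val hn
    simp only [MonoidHom.commutatorMap_apply] at this ⊢
    rw [map_inv, div_inv_eq_mul, ← this]
    rfl
  have h3 := h.fpf.commutatorMap_injective h2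
  have := N.inv_mem n.2
  rwa [h3, inv_inv] at this

theorem IsFpfPer.odd_card_of_four [Finite G] {φ : G →* G} (h : IsFpfPer 4 φ) :
    Odd (Nat.card G) := by
  have hbij := h.bijective (by norm_num)
  let e : Equiv.Perm G := Equiv.ofBijective φ hbij
  have he4 : e ^ 4 = 1 := by
    ext g
    rw [← Equiv.Perm.iterate_eq_pow]
    exact h.per g
  have hP : IsPGroup 2 (Subgroup.zpowers e) := by
    have hd : orderOf e ∣ 2 ^ 2 := orderOf_dvd_of_pow_eq_one he4
    obtain ⟨k, -, hk⟩ := (Nat.dvd_prime_pow Nat.prime_two).mp hd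
    apply IsPGroup.of_card (n := k)
    rw [Nat.card_zpowers, hk]
  have hmod := hP.card_modEq_card_fixedPoints G
  have hfix : Nat.card (MulAction.fixedPoints (Subgroup.zpowers e) G) = 1 := by
    have h1 : (1 : G) ∈ MulAction.fixedPoints (Subgroup.zpowers e) G := by
      rintro ⟨f, hf⟩
      obtain ⟨k, rfl⟩ := Subgroup.mem_zpowers_iff.mp hf
      show (e ^ k) 1 = 1
      have : ∀ k : ℕ, (e ^ k) 1 = 1 := by
        intro k
        induction k with
        | zero => rfl
        | succ k ih =>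
          rw [pow_succ, Equiv.Perm.mul_apply]
          show (e ^ k) (φ 1) = 1
          rw [map_one, ih]
      rcases Int.eq_nat_or_neg k with ⟨m, rfl | rfl⟩
      · rw [zpow_natCast]; exact this m
      · rw [zpow_neg, zpow_natCast, Equiv.Perm.inv_eq_iff_eq]; exact (this m).symm
    have : Unique (MulAction.fixedPoints (Subgroup.zpowers e) G) :=
      { default := ⟨1, h1⟩
        uniq := by
          rintro ⟨g, hg⟩
          apply Subtype.ext
          have := hg ⟨e, Subgroup.mem_zpowers e⟩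
          exact h.fpf g this }
    exact Nat.card_unique
  rw [hfix] at hmod
  rw [Nat.odd_iff]
  exact hmod

/-- on the fixed points of `φ²`, `φ` is inversion -/
theorem IsFpfPer.inv_of_sq_fixed [Finite G] {φ : G →* G} (h : IsFpfPer 4 φ) {g : G}
    (hg : φ (φ g) = g) : φ g = g⁻¹ := by
  let S : Subgroup G := (φ.comp φ).eqLocus (MonoidHom.id G)
  have hS : Stable φ S := by
    intro x hx
    have hx' : φ (φ x) = x := hx
    show φ (φ (φ x)) = φ x
    rw [hx']
  have hfp := (h.restrict S hS).fpf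
  have h2 : (⇑(resHom φ S hS))^[2] = id := by
    funext x
    apply Subtype.ext
    rw [resHom_iterate]
    exact x.2
  have := hfp.coe_eq_inv_of_sq_eq_one h2
  have h3 := congrFun this ⟨g, hg⟩
  exact congrArg Subtype.val h3

/-- square-root trick for an involutory automorphism of a group of odd order -/
theorem exists_fixed_mul [Finite G] (hodd : Odd (Nat.card G)) (ψ : G →* G)
    (hψ : ∀ g, ψ (ψ g) = g) (z : G) :
    ∃ c y, z = c * y ∧ ψ c = c ∧ y ∈ Subgroup.zpowers (z⁻¹ * ψ z) := by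
  set x := z⁻¹ * ψ z with hx
  have hψx : ψ x = x⁻¹ := by
    rw [hx, map_mul, map_inv, hψ, mul_inv_rev, inv_inv]
  have hm : Odd (orderOf x) := Odd.of_dvd_nat hodd (orderOf_dvd_natCard x)
  obtain ⟨t, ht⟩ := hm
  set y₀ := x ^ (t + 1) with hy₀
  have hyy : y₀ * y₀ = x := by
    rw [hy₀, ← pow_add]
    have : t + 1 + (t + 1) = orderOf x + 1 := by omega
    rw [this, pow_succ, pow_orderOf_eq_one, one_mul]
  have hψy : ψ y₀ = y₀⁻¹ := by
    rw [hy₀, map_pow, hψx, inv_pow]
  have hzx : ψ z = z * x := by rw [hx]; group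
  refine ⟨z * y₀, y₀⁻¹, by group, ?_, ?_⟩
  · rw [map_mul, hψy, hzx, ← hyy]
    group
  · exact Subgroup.inv_mem _ (Subgroup.pow_mem _ (Subgroup.mem_zpowers x) _)

end General

/-- abstract setting: `Q` acts on the abelian group `V`, with compatible fixed-point-free
endomorphisms of period 4 -/
structure FourAct {Q V : Type u} [Group Q] [CommGroup V] (a : Q →* MulAut V) (φQ : Q →* Q)
    (φV : V →* V) : Prop where
  compat : ∀ x v, φV (a x v) = a (φQ x) (φV v)
  hQ : IsFpfPer 4 φQ
  hV : IsFpfPer 4 φV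

section Abstract

variable {Q V : Type u} [Group Q] [CommGroup V] {a : Q →* MulAut V} {φQ : Q →* Q} {φV : V →* V}

/-- `ψ`-fixed elements of `Q` fix `ψ`-fixed elements of `V` -/
theorem FourAct.fixed_comm [Finite Q] [Finite V] (h : FourAct a φQ φV)
    (hodd : Odd (Nat.card Q)) {x : Q} (hx : φQ (φQ x) = x) {v : V} (hv : φV (φV v) = v) :
    a x v = v := by
  have hxi : φQ x = x⁻¹ := h.hQ.inv_of_sq_fixed hx
  have hvi : φV v = v⁻¹ := h.hV.inv_of_sq_fixed hv
  set w := a x v * v⁻¹ with hw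
  have hww : φV (φV w) = w := by
    rw [hw, map_mul, map_mul, map_inv, map_inv, hv, h.compat, h.compat, hx, hv]
  have hwi : φV w = w⁻¹ := h.hV.inv_of_sq_fixed hww
  have e1 : φV (a x v) = (a x⁻¹ v)⁻¹ := by
    rw [h.compat, hxi, hvi, map_inv (a x⁻¹) v]
  have e2 : φV (v⁻¹) = v := by rw [map_inv φV v, hvi, inv_inv]
  have h1 : φV w = (a x⁻¹ v)⁻¹ * v := by rw [hw, map_mul, e1, e2]
  -- a x v = a x⁻¹ v
  have h2 : a x v = a x⁻¹ v := by
    rw [hwi, hw] at h1
    have h4 : (a x v)⁻¹ = (a x⁻¹ v)⁻¹ := by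
      have : (a x v * v⁻¹)⁻¹ = (a x v)⁻¹ * v := by rw [mul_inv, inv_inv]
      rw [this] at h1
      exact mul_right_cancel h1
    exact inv_injective h4
  have h5 : a (x * x) v = v := by
    rw [map_mul, MulAut.mul_apply, h2, ← MulAut.mul_apply, ← map_mul, mul_inv_cancel, map_one]
    rfl
  -- x is a power of x * x
  have hm : Odd (orderOf x) := Odd.of_dvd_nat hodd (orderOf_dvd_natCard x)
  obtain ⟨t, ht⟩ := hm
  have hx2 : x = (x * x) ^ (t + 1) := by
    rw [← pow_two, ← pow_mul]
    have : 2 * (t + 1) = orderOf x + 1 := by omega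
    rw [this, pow_succ, pow_orderOf_eq_one, one_mul]
  have h6 : ∀ k : ℕ, a ((x * x) ^ k) v = v := by
    intro k
    induction k with
    | zero => simp
    | succ k ih => rw [pow_succ, map_mul, MulAut.mul_apply, h5, ih]
  rw [hx2]
  exact h6 (t + 1)

theorem mulAut_pow_apply' (e : MulAut V) (k : ℕ) (v : V) : (e ^ k) v = (⇑e)^[k] v := by
  induction k generalizing v with
  | zero => rfl
  | succ k ih => rw [pow_succ, MulAut.mul_apply, ih, Function.iterate_succ_apply]

/-- Lemma D: if a `φ`-stable subgroup `Z` acts on `V` through a commutative group and without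
fixed points, then `[Q, φ²]` acts trivially on `V`. -/
theorem FourAct.lemmaD [Finite Q] [Finite V] (h : FourAct a φQ φV)
    (hodd : Odd (Nat.card Q)) (hcop : (Nat.card Q).Coprime (Nat.card V))
    (Z : Subgroup Q) (hZs : Stable φQ Z)
    (hZc : ∀ z ∈ Z, ∀ z' ∈ Z, a z * a z' = a z' * a z)
    (hCV : ∀ v : V, (∀ z ∈ Z, a z v = v) → v = 1) :
    ∀ (x : Q) (v : V), a (x⁻¹ * φQ (φQ x)) v = v := by
  classical
  have hbijV := h.hV.bijective (by norm_num)
  let φ' : MulAut V := MulEquiv.ofBijective φV hbijV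
  have hφ'_apply : ∀ v, φ' v = φV v := fun v => rfl
  have hperQ : ∀ z, φQ (φQ (φQ (φQ z))) = z := fun z => h.hQ.per z
  have hperV : ∀ v, φV (φV (φV (φV v))) = v := fun v => h.hV.per v
  have hφ'4 : φ' ^ 4 = 1 := by
    ext v
    rw [mulAut_pow_apply']
    exact h.hV.per v
  -- conjugation formula
  have hconj : ∀ y : Q, φ' * a y * φ'⁻¹ = a (φQ y) := by
    intro y
    ext v
    simp only [MulAut.mul_apply]
    rw [hφ'_apply, h.compat]
    congr 1
    exact MulEquiv.apply_symm_apply φ' v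
  set ψ' : MulAut V := φ' * φ' with hψ'
  have hψ'_apply : ∀ v, ψ' v = φV (φV v) := fun v => rfl
  have hψ'2 : ψ' * ψ' = 1 := by
    rw [hψ', ← hφ'4, pow_succ, pow_succ, pow_succ, pow_one]; group
  have hψconj : ∀ y : Q, ψ' * a y * ψ'⁻¹ = a (φQ (φQ y)) := by
    intro y
    rw [← hconj, ← hconj, hψ']
    group
  -- the subgroup K̄
  let gen : Set (MulAut V) := {k | ∃ z ∈ Z, k = a (z⁻¹ * φQ (φQ z))}
  let K : Subgroup (MulAut V) := Subgroup.closure gen
  have hKprop : ∀ k ∈ K, k ∈ Z.map a ∧ ψ' * k * ψ'⁻¹ = k⁻¹ := by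
    intro k hk
    induction hk using Subgroup.closure_induction with
    | mem k hk =>
      obtain ⟨z, hz, rfl⟩ := hk
      refine ⟨Subgroup.mem_map_of_mem a (Z.mul_mem (Z.inv_mem hz) (hZs _ (hZs _ hz))), ?_⟩
      rw [hψconj, ← map_inv]
      congr 1
      rw [map_mul, map_mul, map_inv, map_inv, hperQ, mul_inv_rev, inv_inv]
    | one => exact ⟨Subgroup.one_mem _, by group⟩
    | mul k₁ k₂ _ _ ih₁ ih₂ =>
      refine ⟨Subgroup.mul_mem _ ih₁.1 ih₂.1, ?_⟩
      obtain ⟨z₁, hz₁, rfl⟩ := ih₁.1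
      obtain ⟨z₂, hz₂, rfl⟩ := ih₂.1
      have hc := hZc z₁ hz₁ z₂ hz₂
      have e : ψ' * (a z₁ * a z₂) * ψ'⁻¹ = (ψ' * a z₁ * ψ'⁻¹) * (ψ' * a z₂ * ψ'⁻¹) := by group
      rw [e, ih₁.2, ih₂.2, hc, mul_inv_rev]
    | inv k _ ih =>
      refine ⟨Subgroup.inv_mem _ ih.1, ?_⟩
      have e : ψ' * k⁻¹ * ψ'⁻¹ = (ψ' * k * ψ'⁻¹)⁻¹ := by group
      rw [e, ih.2]
  have hKodd : ∀ k ∈ K, k * k = 1 → k = 1 := by
    intro k hk hkk
    obtain ⟨z₀, -, rfl⟩ := (hKprop k hk).1
    have h1 : orderOf (a z₀) ∣ Nat.card Q :=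
      (orderOf_map_dvd a z₀).trans (orderOf_dvd_natCard z₀)
    have h2 : orderOf (a z₀) ∣ 2 := orderOf_dvd_of_pow_eq_one (by rw [pow_two]; exact hkk)
    have h3 : Odd (orderOf (a z₀)) := Odd.of_dvd_nat hodd h1
    have h4 : orderOf (a z₀) = 1 := by
      rcases (Nat.dvd_prime Nat.prime_two).mp h2 with h5 | h5
      · exact h5
      · rw [h5] at h3; exact absurd h3 (by decide)
    exact orderOf_eq_one_iff.mp h4
  have hKψ : ∀ k ∈ K, k * ψ' = ψ' * k → k = 1 := by
    intro k hk hc
    apply hKodd k hk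
    have h1 := (hKprop k hk).2
    have h2 : ψ' * k * ψ'⁻¹ = k := by rw [← hc]; group
    rw [h2] at h1
    calc k * k = k * k⁻¹ := by rw [← h1]
      _ = 1 := mul_inv_cancel k
  let H : Subgroup (MulAut V) := Subgroup.zpowers φ'
  have : Fintype K := Fintype.ofFinite K
  have : Fintype H := Fintype.ofFinite H
  have hfpf : ∀ k ∈ K, ∀ h' ∈ H, h' ≠ 1 → k * h' = h' * k → k = 1 := by
    intro k hk h' hh' hne hc
    apply hKψ k hk
    obtain ⟨n, hn'⟩ := (mem_powers_iff_mem_zpowers.mpr hh')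
    have hn'' : φ' ^ n = h' := hn'
    subst hn''
    have hn : φ' ^ n = φ' ^ (n % 4) := pow_eq_pow_mod n hφ'4
    rw [hn] at hc hne
    have hlt : n % 4 < 4 := Nat.mod_lt _ (by norm_num)
    have hcc : Commute k (φ' ^ (n % 4)) := hc
    interval_cases (n % 4)
    · exact absurd (pow_zero φ') hne
    · have := hcc.pow_right 2
      rw [pow_one, pow_two] at this
      exact this
    · rw [pow_two] at hcc
      exact hcc
    · have := hcc.pow_right 2
      have e : (φ' ^ 3) ^ 2 = ψ' := by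
        rw [hψ', ← pow_mul]
        calc φ' ^ (3 * 2) = φ' ^ 4 * (φ' * φ') := by group
          _ = φ' * φ' := by rw [hφ'4, one_mul]
      rw [e] at this
      exact this
  have hHN : ∀ h' ∈ H, ∀ k ∈ K, h' * k * h'⁻¹ ∈ K := by
    have hnorm : φ' ∈ Subgroup.normalizer (K : Set (MulAut V)) := by
      apply Subgroup.mem_normalizer_fintype
      intro k hk
      have hle : K ≤ K.comap (MulAut.conj φ').toMonoidHom := by
        apply (Subgroup.closure_le _).mpr
        rintro k ⟨z, hz, rfl⟩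
        show φ' * a (z⁻¹ * φQ (φQ z)) * φ'⁻¹ ∈ K
        rw [hconj]
        apply Subgroup.subset_closure
        refine ⟨φQ z, hZs _ hz, ?_⟩
        rw [map_mul, map_inv]
      exact hle hk
    have hle : H ≤ Subgroup.normalizer (K : Set (MulAut V)) :=
      (Subgroup.zpowers_le).mpr hnorm
    intro h' hh' k hk
    exact (Subgroup.mem_normalizer_iff.mp (hle hh') k).mp hk
  have hnormH : ∀ v : V, ∏ h' : H, (MonoidHom.id (MulAut V)) (h' : MulAut V) v = 1 := by
    intro v
    have hfin : IsOfFinOrder φ' := isOfFinOrder_iff_pow_eq_one.mpr ⟨4, by norm_num, hφ'4⟩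
    have e1 : ∏ h' : H, (MonoidHom.id (MulAut V)) (h' : MulAut V) v =
        ∏ i : Fin (orderOf φ'), (φ' ^ (i : ℕ)) v := by
      symm
      apply Fintype.prod_equiv (finEquivZPowers hfin)
      intro i
      rfl
    rw [e1, Fin.prod_univ_eq_prod_range (fun i => (φ' ^ i) v) (orderOf φ')]
    have hn : (⇑φV)^[orderOf φ'] = id := by
      funext w
      have := mulAut_pow_apply' φ' (orderOf φ') w
      rw [pow_orderOf_eq_one] at this
      exact this.symm
    have e2 := h.hV.fpf.prod_pow_eq_one hn v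
    have e3 : ∏ i ∈ Finset.range (orderOf φ'), (φ' ^ i) v =
        ((List.range (orderOf φ')).map (fun k => (⇑φV)^[k] v)).prod := by
      have : ∀ i, (φ' ^ i) v = (⇑φV)^[i] v := fun i => mulAut_pow_apply' φ' i v
      simp_rw [this]
      rfl
    rw [e3, e2]
  have hprod := Cfsg.Agent.Lib.Helper04.prod_eq_pow_card (MonoidHom.id (MulAut V)) K H hHN hfpf
    hnormH
  -- (α) K is trivial
  have hKtriv : ∀ k ∈ K, k = 1 := by
    intro k₀ hk₀
    have hcard : (Fintype.card K).Coprime (Nat.card V) := by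
      apply Nat.Coprime.coprime_dvd_left _ hcop
      rw [← Nat.card_eq_fintype_card]
      have h1 : K ≤ Z.map a := fun k hk => (hKprop k hk).1
      exact ((Subgroup.card_dvd_of_le h1).trans (Subgroup.card_map_dvd Z a)).trans
        (Subgroup.card_subgroup_dvd_card Z)
    have hfix : ∀ v : V, k₀ (v ^ Fintype.card K) = v ^ Fintype.card K := by
      intro v
      rw [← hprod v, map_prod]
      have : ∀ k : K, k₀ ((MonoidHom.id (MulAut V)) (k : MulAut V) v) =
          (MonoidHom.id (MulAut V)) (((⟨k₀, hk₀⟩ : K) * k : K) : MulAut V) v := fun k => rfl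
      simp_rw [this]
      exact (Group.mulLeft_bijective (⟨k₀, hk₀⟩ : K)).prod_comp
        (fun k : K => (MonoidHom.id (MulAut V)) (k : MulAut V) v)
    ext v
    obtain ⟨m, hm⟩ := exists_pow_eq_self_of_coprime
      (hcard.coprime_dvd_right (orderOf_dvd_natCard v))
    rw [← hm, map_pow, hfix]
    rfl
  have hα : ∀ z ∈ Z, a (z⁻¹ * φQ (φQ z)) = 1 := by
    intro z hz
    exact hKtriv _ (Subgroup.subset_closure ⟨z, hz, rfl⟩)
  -- (β) ψ-fixed vectors are trivial
  let ψQ : Q →* Q := φQ.comp φQ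
  have hβ : ∀ v : V, φV (φV v) = v → v = 1 := by
    intro v hv
    apply hCV
    intro z hz
    obtain ⟨c, y, hzcy, hc, hy⟩ := exists_fixed_mul hodd ψQ
      (fun g => hperQ g) z
    have hy1 : a y = 1 := by
      obtain ⟨j, rfl⟩ := Subgroup.mem_zpowers_iff.mp hy
      have : a (z⁻¹ * ψQ z) = 1 := hα z hz
      rw [map_zpow, this, one_zpow]
    rw [hzcy, map_mul, hy1, mul_one]
    exact h.fixed_comm hodd hc hv
  -- (γ)
  have hinv : ∀ v : V, φV (φV v) = v⁻¹ := by
    intro v
    have h1 : φV (φV (v * φV (φV v))) = v * φV (φV v) := by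
      rw [map_mul, map_mul, hperV, mul_comm]
    have := hβ _ h1
    exact (eq_inv_of_mul_eq_one_right this)
  intro x v
  have h1 : φV (φV (a x v)) = a (φQ (φQ x)) (φV (φV v)) := by
    rw [h.compat, h.compat]
  rw [hinv, hinv, map_inv] at h1
  have h2 : a x v = a (φQ (φQ x)) v := inv_injective h1
  rw [map_mul, MulAut.mul_apply, ← h2, ← MulAut.mul_apply, ← map_mul, inv_mul_cancel, map_one]
  rfl

/-- restriction of an action to an invariant subgroup -/
def subAct (a : Q →* MulAut V) (U : Subgroup V) (hU : ∀ x : Q, ∀ u ∈ U, a x u ∈ U) :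
    Q →* MulAut U where
  toFun x :=
    { toFun := fun u => ⟨a x u, hU x u u.2⟩
      invFun := fun u => ⟨a x⁻¹ u, hU x⁻¹ u u.2⟩
      left_inv := fun u => Subtype.ext (by
        show a x⁻¹ (a x u) = u
        rw [← MulAut.mul_apply, ← map_mul, inv_mul_cancel, map_one]; rfl)
      right_inv := fun u => Subtype.ext (by
        show a x (a x⁻¹ u) = u
        rw [← MulAut.mul_apply, ← map_mul, mul_inv_cancel, map_one]; rfl)
      map_mul' := fun u w => Subtype.ext (map_mul (a x) (u : V) (w : V)) }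
  map_one' := by
    ext u
    show a 1 (u : V) = u
    rw [map_one]; rfl
  map_mul' := fun x y => by
    ext u
    show a (x * y) (u : V) = a x (a y u)
    rw [map_mul]; rfl

theorem subAct_coe (a : Q →* MulAut V) (U : Subgroup V) (hU : ∀ x : Q, ∀ u ∈ U, a x u ∈ U)
    (x : Q) (u : U) : ((subAct a U hU x u : U) : V) = a x u := rfl

theorem FourAct.restrict (h : FourAct a φQ φV) (U : Subgroup V)
    (hU : ∀ x : Q, ∀ u ∈ U, a x u ∈ U) (hUs : Stable φV U) :
    FourAct (subAct a U hU) φQ (resHom φV U hUs) where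
  compat := fun x u => Subtype.ext (h.compat x u)
  hQ := h.hQ
  hV := h.hV.restrict U hUs

/-- Lemma C: a solvable group `Q` of odd order coprime to `|V|` acting on `V`, with compatible
fixed-point-free endomorphisms of period 4: `[Q, φ²]` acts trivially on `V`. -/
theorem lemmaC [Finite Q] [hsol : Group.IsSolvable Q] (hodd : Odd (Nat.card Q)) (φQ : Q →* Q) :
    ∀ (n : ℕ) (V : Type u) [CommGroup V] [Finite V], Nat.card V = n →
      ∀ (a : Q →* MulAut V) (φV : V →* V), FourAct a φQ φV →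
        (Nat.card Q).Coprime (Nat.card V) →
        ∀ (x : Q) (v : V), a (x⁻¹ * φQ (φQ x)) v = v := by
  classical
  intro n
  induction n using Nat.strong_induction_on with
  | _ n ih =>
  intro V _ _ hn a φV h hcop
  by_cases htriv : ∀ z : Q, a z = 1
  · intro x v
    rw [htriv]; rfl
  push Not at htriv
  obtain ⟨z₀, hz₀⟩ := htriv
  -- the last term of the derived series acting nontrivially
  have hex : ∃ k, ∀ z ∈ derivedSeries Q k, a z = 1 := by
    obtain ⟨m, hm⟩ := hsol.solvable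
    refine ⟨m, fun z hz => ?_⟩
    rw [hm, Subgroup.mem_bot] at hz
    rw [hz, map_one]
  have hk0 : Nat.find hex ≠ 0 := by
    intro h0
    have := Nat.find_spec hex
    rw [h0] at this
    exact hz₀ (this z₀ (by rw [derivedSeries_zero]; exact Subgroup.mem_top _))
  obtain ⟨j, hj⟩ := Nat.exists_eq_succ_of_ne_zero hk0
  have hPj1 : ∀ z ∈ derivedSeries Q (j + 1), a z = 1 := by
    have := Nat.find_spec hex
    rwa [hj] at this
  have hPj : ¬ ∀ z ∈ derivedSeries Q j, a z = 1 :=
    Nat.find_min hex (by omega)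
  set Z : Subgroup Q := derivedSeries Q j with hZ
  have hZn : Z.Normal := derivedSeries_normal Q j
  have hZs : Stable φQ Z := by
    intro x hx
    exact map_derivedSeries_le_derivedSeries φQ j (Subgroup.mem_map_of_mem φQ hx)
  have hZc : ∀ z ∈ Z, ∀ z' ∈ Z, a z * a z' = a z' * a z := by
    intro z hz z' hz'
    have h1 : ⁅z, z'⁆ ∈ derivedSeries Q (j + 1) := by
      rw [derivedSeries_succ]
      exact Subgroup.commutator_mem_commutator hz hz'
    have h2 := hPj1 _ h1
    rw [map_commutatorElement] at h2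
    exact commutatorElement_eq_one_iff_mul_comm.mp h2
  have hbijQ := h.hQ.bijective (by norm_num)
  have hZbij : Function.Bijective (resHom φQ Z hZs) := by
    apply Finite.injective_iff_bijective.mp
    intro x y hxy
    exact Subtype.ext (hbijQ.1 (congrArg Subtype.val hxy))
  have : Fintype Z := Fintype.ofFinite Z
  let ν : V →* V :=
    { toFun := fun v => ∏ z : Z, a (z : Q) v
      map_one' := by simp
      map_mul' := fun v w => by simp [Finset.prod_mul_distrib] }
  have hν : ∀ v, ν v = ∏ z : Z, a (z : Q) v := fun v => rfl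
  set m := Fintype.card Z with hm
  have hmcop : m.Coprime (Nat.card V) := by
    apply Nat.Coprime.coprime_dvd_left _ hcop
    rw [hm, ← Nat.card_eq_fintype_card]
    exact Subgroup.card_subgroup_dvd_card Z
  let U₁ : Subgroup V :=
    { carrier := {v | ∀ z ∈ Z, a z v = v}
      mul_mem' := fun {v w} hv hw z hz => by rw [map_mul, hv z hz, hw z hz]
      one_mem' := fun z _ => map_one _
      inv_mem' := fun {v} hv z hz => by rw [map_inv, hv z hz] }
  have hU₁ : ∀ v, v ∈ U₁ ↔ ∀ z ∈ Z, a z v = v := fun v => Iff.rfl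
  -- facts on ν
  have f1 : ∀ v, ν v ∈ U₁ := by
    intro v z hz
    rw [hν, map_prod]
    have : ∀ z' : Z, a z (a (z' : Q) v) = a (((⟨z, hz⟩ : Z) * z' : Z) : Q) v := by
      intro z'
      rw [Subgroup.coe_mul, map_mul]; rfl
    simp_rw [this]
    exact (Group.mulLeft_bijective (⟨z, hz⟩ : Z)).prod_comp (fun z' : Z => a (z' : Q) v)
  have f2 : ∀ u ∈ U₁, ν u = u ^ m := by
    intro u hu
    rw [hν]
    have : ∀ z : Z, a (z : Q) u = u := fun z => hu z z.2
    simp_rw [this]
    rw [Finset.prod_const, Finset.card_univ]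
  have f3 : ∀ (x : Q) (v : V), ν (a x v) = a x (ν v) := by
    intro x v
    rw [hν, hν, map_prod]
    symm
    apply Fintype.prod_equiv (MulAut.conjNormal x : Z ≃* Z).toEquiv
    intro z
    show a x (a (z : Q) v) = a ((MulAut.conjNormal x z : Z) : Q) (a x v)
    rw [MulAut.conjNormal_apply, ← MulAut.mul_apply, ← MulAut.mul_apply, ← map_mul, ← map_mul]
    congr 2
    group
  have f4 : ∀ v : V, φV (ν v) = ν (φV v) := by
    intro v
    rw [hν, hν, map_prod]
    apply Fintype.prod_equiv (Equiv.ofBijective _ hZbij)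
    intro z
    exact h.compat z v
  let U₂ : Subgroup V := ν.ker
  have hU₁Q : ∀ x : Q, ∀ u ∈ U₁, a x u ∈ U₁ := by
    intro x u hu z hz
    have hz' : x⁻¹ * z * x ∈ Z := by
      have := hZn.conj_mem z hz x⁻¹
      rwa [inv_inv] at this
    have := hu _ hz'
    calc a z (a x u) = a x (a (x⁻¹ * z * x) u) := by
          rw [← MulAut.mul_apply, ← MulAut.mul_apply, ← map_mul, ← map_mul]
          congr 2; group
      _ = a x u := by rw [this]
  have hU₁s : Stable φV U₁ := by
    intro u hu z hz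
    obtain ⟨z', hz'⟩ := hZbij.2 ⟨z, hz⟩
    have hz'' : φQ (z' : Q) = z := congrArg Subtype.val hz'
    rw [← hz'', ← h.compat, hu _ z'.2]
  have hU₂Q : ∀ x : Q, ∀ u ∈ U₂, a x u ∈ U₂ := by
    intro x u hu
    rw [MonoidHom.mem_ker] at hu ⊢
    rw [f3, hu, map_one]
  have hU₂s : Stable φV U₂ := by
    intro u hu
    rw [MonoidHom.mem_ker] at hu ⊢
    rw [← f4, hu, map_one]
  have hdecomp : ∀ v : V, ∃ u₁ ∈ U₁, ∃ u₂ ∈ U₂, v = u₁ * u₂ := by
    intro v
    obtain ⟨s, hs⟩ := exists_pow_eq_self_of_coprime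
      (hmcop.coprime_dvd_right (orderOf_dvd_natCard v))
    refine ⟨(ν v) ^ s, Subgroup.pow_mem _ (f1 v) s, (v ^ m * (ν v)⁻¹) ^ s,
      Subgroup.pow_mem _ ?_ s, ?_⟩
    · rw [MonoidHom.mem_ker, map_mul, map_pow, map_inv, f2 _ (f1 v), mul_inv_cancel]
    · rw [← mul_pow, mul_comm (ν v), inv_mul_cancel_right, hs]
  by_cases hU₁bot : ∀ v : V, (∀ z ∈ Z, a z v = v) → v = 1
  · exact h.lemmaD hodd hcop Z hZs hZc hU₁bot
  · push Not at hU₁bot
    obtain ⟨u₀, hu₀, hu₀1⟩ := hU₁bot
    have hU₁top : U₁ ≠ ⊤ := by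
      intro htop
      apply hPj
      intro z hz
      ext v
      have : v ∈ U₁ := by rw [htop]; exact Subgroup.mem_top v
      exact this z hz
    have hU₂top : U₂ ≠ ⊤ := by
      intro htop
      have : u₀ ∈ U₂ := by rw [htop]; exact Subgroup.mem_top _
      rw [MonoidHom.mem_ker, f2 u₀ hu₀] at this
      apply hu₀1
      have h1 := pow_gcd_eq_one.mpr ⟨this, pow_card_eq_one' (x := u₀)⟩
      rwa [hmcop, pow_one] at h1
    have hlt : ∀ U : Subgroup V, U ≠ ⊤ → Nat.card U < n := by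
      intro U hU
      rw [← hn]
      exact lt_of_le_of_ne (Subgroup.card_le_card_group U)
        (fun he => hU (Subgroup.eq_top_of_card_eq U he))
    have hcopU : ∀ U : Subgroup V, (Nat.card Q).Coprime (Nat.card U) := fun U =>
      hcop.coprime_dvd_right (Subgroup.card_subgroup_dvd_card U)
    have ih₁ := ih _ (hlt U₁ hU₁top) U₁ rfl (subAct a U₁ hU₁Q) (resHom φV U₁ hU₁s)
      (h.restrict U₁ hU₁Q hU₁s) (hcopU U₁)
    have ih₂ := ih _ (hlt U₂ hU₂top) U₂ rfl (subAct a U₂ hU₂Q) (resHom φV U₂ hU₂s)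
      (h.restrict U₂ hU₂Q hU₂s) (hcopU U₂)
    intro x v
    obtain ⟨u₁, hu₁, u₂, hu₂, rfl⟩ := hdecomp v
    have e₁ := congrArg Subtype.val (ih₁ x ⟨u₁, hu₁⟩)
    have e₂ := congrArg Subtype.val (ih₂ x ⟨u₂, hu₂⟩)
    rw [subAct_coe] at e₁ e₂
    rw [map_mul, e₁, e₂]

end Abstract

end Cfsg.Agent.Lib.Helper15
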