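import Mathlib
import Cfsg.Agent.Lib.Helper15.FPF4

set_option autoImplicit false

/-!
# Fixed-point-free automorphisms of order dividing 4: `[G, φ²]` is nilpotent
-/

namespace Cfsg.Agent.Lib.Helper15

universe u

open scoped commutatorElement

variable {G : Type u} [Group G]

/-- `[G, φ²]`, the subgroup generated by all `g⁻¹ φ²(g)` -/
def Lsub (φ : G →* G) : Subgroup G := Subgroup.closure (Set.range fun g => g⁻¹ * φ (φ g))

theorem gen_mem_Lsub (φ : G →* G) (g : G) : g⁻¹ * φ (φ g) ∈ Lsub φ :=
  Subgroup.subset_closure ⟨g, rfl⟩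

theorem Lsub_normal (φ : G →* G) : (Lsub φ).Normal := by
  constructor
  intro n hn g
  have hle : Lsub φ ≤ (Lsub φ).comap (MulAut.conj g).toMonoidHom := by
    apply (Subgroup.closure_le _).mpr
    rintro _ ⟨y, rfl⟩
    show g * (y⁻¹ * φ (φ y)) * g⁻¹ ∈ Lsub φ
    have e : g * (y⁻¹ * φ (φ y)) * g⁻¹ =
        ((y * g⁻¹)⁻¹ * φ (φ (y * g⁻¹))) * ((g⁻¹)⁻¹ * φ (φ g⁻¹))⁻¹ := by
      simp only [map_mul, map_inv, mul_inv_rev, inv_inv]
      group
    rw [e]
    exact (Lsub φ).mul_mem (gen_mem_Lsub φ _) ((Lsub φ).inv_mem (gen_mem_Lsub φ _))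
  exact hle hn

theorem Lsub_stable (φ : G →* G) : Stable φ (Lsub φ) := by
  have hle : Lsub φ ≤ (Lsub φ).comap φ := by
    apply (Subgroup.closure_le _).mpr
    rintro _ ⟨y, rfl⟩
    show φ (y⁻¹ * φ (φ y)) ∈ Lsub φ
    rw [map_mul, map_inv]
    exact gen_mem_Lsub φ (φ y)
  exact fun x hx => hle hx

theorem map_Lsub (φ : G →* G) (N : Subgroup G) [N.Normal] (hN : Stable φ N) :
    (Lsub φ).map (QuotientGroup.mk' N) = Lsub (quotHom φ N hN) := by
  apply le_antisymm
  · rw [Subgroup.map_le_iff_le_comap]
    apply (Subgroup.closure_le _).mpr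
    rintro _ ⟨y, rfl⟩
    exact gen_mem_Lsub (quotHom φ N hN) (y : G ⧸ N)
  · apply (Subgroup.closure_le _).mpr
    rintro _ ⟨y, rfl⟩
    induction y using QuotientGroup.induction_on with
    | H g => exact ⟨g⁻¹ * φ (φ g), gen_mem_Lsub φ g, rfl⟩

/-- structure of a minimal stable normal subgroup of a solvable group -/
theorem minimal_stable_structure [Finite G] {φ : G →* G} (hbij : Function.Bijective φ)
    (V : Subgroup G) [hVn : V.Normal] (hVs : Stable φ V) (hVne : V ≠ ⊥)
    [hVsol : Group.IsSolvable V]
    (hmin : ∀ N : Subgroup G, N.Normal → Stable φ N → N ≤ V → N = ⊥ ∨ N = V) :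
    (∀ a ∈ V, ∀ b ∈ V, a * b = b * a) ∧ ∃ p, p.Prime ∧ ∃ b, Nat.card V = p ^ b := by
  have hcomm_lt : ⁅V, V⁆ < V := by
    have hnt : Nontrivial V := (Subgroup.nontrivial_iff_ne_bot V).mpr hVne
    have h0 := Group.IsSolvable.commutator_lt_top_of_nontrivial V
    have h1 : ⁅V, V⁆ = (commutator V).map V.subtype := by
      rw [commutator_def, Subgroup.map_commutator, ← MonoidHom.range_eq_map,
        Subgroup.range_subtype]
    rw [h1]
    have h2 : (commutator V).map V.subtype < (⊤ : Subgroup V).map V.subtype :=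
      Subgroup.map_subtype_lt_map_subtype.mpr h0
    rwa [← MonoidHom.range_eq_map, Subgroup.range_subtype] at h2
  have hVab : ⁅V, V⁆ = ⊥ := by
    rcases hmin ⁅V, V⁆ inferInstance (hVs.commutator hVs) hcomm_lt.le with h0 | h0
    · exact h0
    · exact absurd h0 hcomm_lt.ne
  have hVc : ∀ a ∈ V, ∀ b ∈ V, a * b = b * a := by
    have := Subgroup.commutator_eq_bot_iff_le_centralizer.mp hVab
    intro a ha b hb
    exact (Subgroup.mem_centralizer_iff.mp (this hb) a ha)
  refine ⟨hVc, ?_⟩
  obtain ⟨r, hr, hrdvd⟩ := Nat.exists_prime_and_dvd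
    (show Nat.card V ≠ 1 from fun h1 => hVne (Subgroup.card_eq_one.mp h1))
  have hrF : Fact r.Prime := ⟨hr⟩
  refine ⟨r, hr, ?_⟩
  let R : Sylow r V := default
  have hRn : (R : Subgroup V).Normal := ⟨fun n hn g => by
    have : g * n * g⁻¹ = n := by
      apply Subtype.ext
      simp only [Subgroup.coe_mul, Subgroup.coe_inv]
      rw [hVc g g.2 n n.2]
      group
    rwa [this]⟩
  have hRc : (R : Subgroup V).Characteristic := Sylow.characteristic_of_normal R hRn
  have hKn : ((R : Subgroup V).map V.subtype).Normal :=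
    ConjAct.normal_of_characteristic_of_normal
  have hKs : Stable φ ((R : Subgroup V).map V.subtype) := Stable.of_char hbij.1 hVs _
  have hKne : (R : Subgroup V).map V.subtype ≠ ⊥ := by
    rw [Ne, Subgroup.map_eq_bot_iff_of_injective _ V.subtype_injective]
    exact R.ne_bot_of_dvd_card hrdvd
  rcases hmin _ hKn hKs (Subgroup.map_subtype_le _) with h0 | h0
  · exact absurd h0 hKne
  · obtain ⟨b, hb⟩ := R.2.exists_card_eq
    refine ⟨b, ?_⟩
    rw [← hb]
    have h5 := Subgroup.card_map_of_injective (K := (R : Subgroup V)) V.subtype_injective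
    rw [← h5]
    exact (congrArg (fun X : Subgroup G => Nat.card X) h0).symm

/-- Main theorem: `[G, φ²]` is nilpotent for a fixed-point-free `φ` of period 4 on a finite
solvable group. -/
theorem nilpotent_Lsub : ∀ (n : ℕ) (G : Type u) [Group G] [Finite G] [Group.IsSolvable G],
    Nat.card G = n → ∀ φ : G →* G, IsFpfPer 4 φ → Group.IsNilpotent (Lsub φ) := by
  intro n
  induction n using Nat.strong_induction_on with
  | _ n ih =>
  intro G _ _ _ hn φ h
  have hbij := h.bijective (by norm_num)
  by_cases htriv : (⊤ : Subgroup G) = ⊥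
  · have hbot : Lsub φ = ⊥ := by
      rw [eq_bot_iff, ← htriv]; exact le_top
    rw [hbot]
    infer_instance
  obtain ⟨V, hVP, hVmin⟩ := exists_minimal_of_wellFoundedLT
    (fun N : Subgroup G => N.Normal ∧ Stable φ N ∧ N ≠ ⊥) ⟨⊤, inferInstance, Stable.top, htriv⟩
  obtain ⟨hVn, hVs, hVne⟩ := hVP
  have hmin : ∀ N : Subgroup G, N.Normal → Stable φ N → N ≤ V → N = ⊥ ∨ N = V := by
    intro N hNn hNs hNV
    by_cases hN : N = ⊥
    · exact Or.inl hN
    · exact Or.inr (le_antisymm hNV (hVmin ⟨hNn, hNs, hN⟩ hNV))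
  obtain ⟨hVab, p, hp, b, hb⟩ := minimal_stable_structure hbij V hVs hVne hmin
  have hpF : Fact p.Prime := ⟨hp⟩
  have hquot_lt : ∀ (N : Subgroup G) [N.Normal], N ≠ ⊥ → Nat.card (G ⧸ N) < n := by
    intro N _ hne
    rw [← hn, Subgroup.card_eq_card_quotient_mul_card_subgroup N]
    have h1 : 1 < Nat.card N := (Subgroup.one_lt_card_iff_ne_bot N).mpr hne
    have h2 : 0 < Nat.card (G ⧸ N) := Nat.card_pos
    nlinarith
  set C := Subgroup.centralizer (V : Set G) with hC
  have hCn : C.Normal := Subgroup.normal_centralizer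
  have hCs : Stable φ C := hVs.centralizer hbij
  have hVC : V ≤ C := fun v hv =>
    Subgroup.mem_centralizer_iff.mpr (fun w hw => hVab w hw v hv)
  have hCne : C ≠ ⊥ := fun h0 => hVne (le_bot_iff.mp (h0 ▸ hVC))
  -- Step A: `[G, φ²]` centralizes `V`
  have hLC : Lsub φ ≤ C := by
    let φbar := quotHom φ C hCs
    have hbar : IsFpfPer 4 φbar := h.quotient C hCs
    have hbarbij := hbar.bijective (by norm_num)
    have hnilQ : Group.IsNilpotent (Lsub φbar) := ih _ (hquot_lt C hCne) (G ⧸ C) rfl φbar hbar
    have hperbar : ∀ x, φbar (φbar (φbar (φbar x))) = x := fun x => hbar.per x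
    let _ : CommGroup ↥V :=
      { (inferInstance : Group ↥V) with
        mul_comm := fun a b => Subtype.ext (hVab a a.2 b b.2) }
    let abar : G ⧸ C →* MulAut V := QuotientGroup.lift C (MulAut.conjNormal) (by
      intro x hx
      ext v
      show x * v * x⁻¹ = v
      have := Subgroup.mem_centralizer_iff.mp hx v v.2
      rw [← this]; group)
    have habar : ∀ (g : G) (v : V), ((abar (g : G ⧸ C) v : V) : G) = g * v * g⁻¹ :=
      fun g v => rfl
    have habar_inj : Function.Injective abar := by
      rw [injective_iff_map_eq_one]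
      intro x hx
      induction x using QuotientGroup.induction_on with
      | H g =>
        rw [QuotientGroup.eq_one_iff]
        show g ∈ Subgroup.centralizer (V : Set G)
        rw [Subgroup.mem_centralizer_iff]
        intro v hv
        have h1 := congrArg (fun e : MulAut V => ((e ⟨v, hv⟩ : V) : G)) hx
        simp only [habar] at h1
        have h2 : g * v * g⁻¹ = v := h1
        calc v * g = (g * v * g⁻¹) * g := by rw [h2]
          _ = g * v := by group
    set Qs : Subgroup (G ⧸ C) := Lsub φbar with hQs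
    have hQst : Stable φbar Qs := Lsub_stable φbar
    have hQsn : Qs.Normal := Lsub_normal φbar
    let φQ := resHom φbar Qs hQst
    let φV := resHom φ V hVs
    let aQ : Qs →* MulAut V := abar.comp Qs.subtype
    have hFour : FourAct aQ φQ φV := by
      refine ⟨?_, hbar.restrict Qs hQst, h.restrict V hVs⟩
      rintro ⟨x, hx⟩ v
      induction x using QuotientGroup.induction_on with
      | H g =>
        apply Subtype.ext
        show φ (g * v * g⁻¹) = φ g * φ v * (φ g)⁻¹
        rw [map_mul, map_mul, map_inv]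
    have hoddbar : Odd (Nat.card (G ⧸ C)) := hbar.odd_card_of_four
    have hoddQ : Odd (Nat.card Qs) :=
      Odd.of_dvd_nat hoddbar (Subgroup.card_subgroup_dvd_card Qs)
    have hb0 : b ≠ 0 := by
      rintro rfl
      rw [pow_zero] at hb
      exact hVne (Subgroup.card_eq_one.mp hb)
    have hcopQ : (Nat.card Qs).Coprime (Nat.card V) := by
      rw [hb]
      apply Nat.Coprime.pow_right
      rw [Nat.coprime_comm, Nat.Prime.coprime_iff_not_dvd hp]
      intro hpdvd
      let S : Sylow p Qs := default
      have hSne : (S : Subgroup Qs) ≠ ⊥ := S.ne_bot_of_dvd_card hpdvd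
      have hSn : (S : Subgroup Qs).Normal := by
        have h03 := (Group.isNilpotent_of_finite_tfae (G := Qs)).out 0 3
        exact h03.mp hnilQ p inferInstance S
      have hSc : (S : Subgroup Qs).Characteristic := Sylow.characteristic_of_normal S hSn
      set S' : Subgroup (G ⧸ C) := (S : Subgroup Qs).map Qs.subtype with hS'
      have hS'n : S'.Normal := ConjAct.normal_of_characteristic_of_normal
      have hS's : Stable φbar S' := Stable.of_char hbarbij.1 hQst _
      have hS'p : IsPGroup p S' := S.2.map _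
      set P : Subgroup G := S'.comap (QuotientGroup.mk' C) with hP
      have hPn : P.Normal := hS'n.comap _
      have hPs : Stable φ P := fun x hx => hS's _ hx
      set D := V ⊓ Subgroup.centralizer (P : Set G) with hD
      have hDn : D.Normal := inferInstance
      have hDs : Stable φ D := hVs.inf (hPs.centralizer hbij)
      have hDne : D ≠ ⊥ := by
        let _ : MulAction S' V := MulAction.compHom V (abar.comp S'.subtype)
        have hpV : p ∣ Nat.card V := by rw [hb]; exact dvd_pow_self p hb0
        have h1 : (1 : V) ∈ MulAction.fixedPoints S' V := by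
          intro s
          show abar (s : G ⧸ C) 1 = 1
          exact map_one _
        obtain ⟨w, hw, hw1⟩ := hS'p.exists_fixed_point_of_prime_dvd_card_of_fixed_point V hpV h1
        intro hbot
        apply hw1
        have hwD : (w : G) ∈ D := by
          refine ⟨w.2, ?_⟩
          show (w : G) ∈ Subgroup.centralizer (P : Set G)
          rw [Subgroup.mem_centralizer_iff]
          intro x hx
          have h2 : abar ((x : G ⧸ C)) w = w := hw ⟨(x : G ⧸ C), hx⟩
          have h3 := congrArg Subtype.val h2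
          rw [habar] at h3
          calc x * (w : G) = (x * w * x⁻¹) * x := by group
            _ = (w : G) * x := by rw [h3]
        rw [hbot, Subgroup.mem_bot] at hwD
        exact (Subtype.ext hwD).symm
      rcases hmin D hDn hDs inf_le_left with h0 | h0
      · exact hDne h0
      · have hVP : V ≤ Subgroup.centralizer (P : Set G) := by
          rw [← h0]; exact inf_le_right
        have hPC : P ≤ C := by
          intro x hx
          show x ∈ Subgroup.centralizer (V : Set G)
          rw [Subgroup.mem_centralizer_iff]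
          intro v hv
          exact ((Subgroup.mem_centralizer_iff.mp (hVP hv)) x hx).symm
        apply hSne
        have hS'bot : S' = ⊥ := by
          rw [Subgroup.eq_bot_iff_forall]
          intro s hs
          induction s using QuotientGroup.induction_on with
          | H g => exact (QuotientGroup.eq_one_iff g).mpr (hPC hs)
        exact (Subgroup.map_eq_bot_iff_of_injective _ Qs.subtype_injective).mp hS'bot
    have hsolQ : Group.IsSolvable Qs := inferInstance
    have key := lemmaC hoddQ φQ _ V rfl aQ φV hFour hcopQ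
    -- ψ̄ fixes Qs pointwise
    have hfixQ : ∀ x ∈ Qs, φbar (φbar x) = x := by
      intro x hx
      have h1 : aQ ((⟨x, hx⟩ : Qs)⁻¹ * φQ (φQ ⟨x, hx⟩)) = 1 := by
        ext v
        exact congrArg Subtype.val (key ⟨x, hx⟩ v)
      have h2 : abar (x⁻¹ * φbar (φbar x)) = 1 := h1
      have h3 := habar_inj (h2.trans (map_one abar).symm)
      exact (inv_mul_eq_one.mp h3).symm
    have hgen : ∀ g : G ⧸ C, g⁻¹ * φbar (φbar g) = 1 := by
      intro g
      set y := g⁻¹ * φbar (φbar g) with hy
      have hyQ : y ∈ Qs := gen_mem_Lsub φbar g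
      have h1 : φbar (φbar y) = y := hfixQ y hyQ
      have h2 : φbar (φbar y) = y⁻¹ := by
        rw [hy, map_mul, map_mul, map_inv, map_inv, hperbar, mul_inv_rev, inv_inv]
      have h3 : y * y = 1 := by
        have : y = y⁻¹ := h1.symm.trans h2
        calc y * y = y * y⁻¹ := by rw [← this]
          _ = 1 := mul_inv_cancel y
      have h4 : orderOf y ∣ 2 := orderOf_dvd_of_pow_eq_one (by rw [pow_two]; exact h3)
      have h5 : Odd (orderOf y) := Odd.of_dvd_nat hoddbar (orderOf_dvd_natCard y)
      have h6 : orderOf y = 1 := by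
        rcases (Nat.dvd_prime Nat.prime_two).mp h4 with h7 | h7
        · exact h7
        · rw [h7] at h5; exact absurd h5 (by decide)
      exact orderOf_eq_one_iff.mp h6
    apply (Subgroup.closure_le _).mpr
    rintro _ ⟨g, rfl⟩
    have := hgen (g : G ⧸ C)
    exact (QuotientGroup.eq_one_iff _).mp this
  -- Step B
  have hnilV : Group.IsNilpotent (Lsub (quotHom φ V hVs)) :=
    ih _ (hquot_lt V hVne) (G ⧸ V) rfl _ (h.quotient V hVs)
  have hmap : (Lsub φ).map (QuotientGroup.mk' V) = Lsub (quotHom φ V hVs) := map_Lsub φ V hVs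
  let f : Lsub φ →* ((Lsub φ).map (QuotientGroup.mk' V)) :=
    (QuotientGroup.mk' V).subgroupMap (Lsub φ)
  have hnil' : Group.IsNilpotent ((Lsub φ).map (QuotientGroup.mk' V)) := by
    rw [hmap]; exact hnilV
  apply Subgroup.isNilpotent_of_ker_le_center f
  intro x hx
  rw [Subgroup.mem_center_iff]
  intro y
  have hxV : (x : G) ∈ V := by
    have := congrArg Subtype.val (MonoidHom.mem_ker.mp hx)
    exact (QuotientGroup.eq_one_iff _).mp this
  have hyC : (y : G) ∈ C := hLC y.2
  apply Subtype.ext
  exact ((Subgroup.mem_centralizer_iff.mp hyC) x hxV).symm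

/-- `G' ≤ [G, φ²]` -/
theorem commutator_le_Lsub [Finite G] {φ : G →* G} (h : IsFpfPer 4 φ) :
    commutator G ≤ Lsub φ := by
  have hLn : (Lsub φ).Normal := Lsub_normal φ
  have hLs : Stable φ (Lsub φ) := Lsub_stable φ
  have hbar : IsFpfPer 4 (quotHom φ (Lsub φ) hLs) := h.quotient (Lsub φ) hLs
  have hinv : Function.Involutive (quotHom φ (Lsub φ) hLs) := by
    intro x
    induction x using QuotientGroup.induction_on with
    | H g =>
      rw [quotHom_mk, quotHom_mk]
      apply (QuotientGroup.eq).mpr
      have := (Lsub φ).inv_mem (gen_mem_Lsub φ g)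
      rwa [mul_inv_rev, inv_inv] at this
  have hcomm := hbar.fpf.commute_all_of_involutive hinv
  rw [commutator_def, Subgroup.commutator_le]
  intro g₁ _ g₂ _
  rw [← QuotientGroup.eq_one_iff]
  have e : ((⁅g₁, g₂⁆ : G) : G ⧸ Lsub φ) = ⁅(g₁ : G ⧸ Lsub φ), (g₂ : G ⧸ Lsub φ)⁆ :=
    map_commutatorElement (QuotientGroup.mk' (Lsub φ)) g₁ g₂
  rw [e]
  exact commutatorElement_eq_one_iff_mul_comm.mpr (hcomm _ _)

/-- a finite solvable group with a fixed-point-free endomorphism of period 4 has nilpotent
derived subgroup -/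
theorem nilpotent_commutator_of_fpf_four [Finite G] [Group.IsSolvable G] {φ : G →* G}
    (h : IsFpfPer 4 φ) : Group.IsNilpotent (commutator G) := by
  have hnil : Group.IsNilpotent (Lsub φ) := nilpotent_Lsub _ G rfl φ h
  have hle := commutator_le_Lsub h
  apply Subgroup.isNilpotent_of_ker_le_center (Subgroup.inclusion hle)
  rw [(MonoidHom.ker_eq_bot_iff _).mpr (Subgroup.inclusion_injective hle)]
  exact bot_le

end Cfsg.Agent.Lib.Helper15
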