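import Mathlib
import Cfsg.Agent.Lib.Helper97.UniqueOrderP
import Cfsg.Agent.Lib.Helper01.Coprime

/-!
# Finite `p`-groups in which subgroups of equal order are isomorphic (part A)
-/

set_option autoImplicit false
set_option linter.unusedSectionVars false
set_option linter.style.haveILetI false

namespace Cfsg.Agent.Lib.Helper15.IsoSub

open Subgroup

/-- Any two subgroups of the same order are isomorphic. -/
def SameOrderIso (Q : Type*) [Group Q] : Prop :=
  ∀ H K : Subgroup Q, Nat.card H = Nat.card K → Nonempty (H ≃* K)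

theorem quat_sq_ne_xa (m : ℕ) (g : QuaternionGroup m) : g * g ≠ QuaternionGroup.xa 0 := by
  cases g with
  | a i => simp [QuaternionGroup.a_mul_a]
  | xa i => simp [QuaternionGroup.xa_mul_xa]

section

variable {Q : Type*} [Group Q] [Finite Q]

theorem zpowers_normal_of_central {z : Q} (hzc : ∀ g : Q, g * z = z * g) : (zpowers z).Normal := by
  refine ⟨fun n hn g => ?_⟩
  obtain ⟨k, rfl⟩ := mem_zpowers_iff.mp hn
  have : g * z ^ k * g⁻¹ = z ^ k := by
    have hc : Commute g z := hzc g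
    have := (hc.zpow_right k).eq
    rw [this]; group
  rw [this]; exact zpow_mem (mem_zpowers z) k

/-- order of the join of two cyclic groups of prime order, one of them central -/
theorem card_zpowers_sup_zpowers {p : ℕ} [hp : Fact p.Prime] {x z : Q} (hx : orderOf x = p)
    (hz : orderOf z = p) (hzc : ∀ g : Q, g * z = z * g) (hxz : x ∉ zpowers z) :
    Nat.card (zpowers x ⊔ zpowers z : Subgroup Q) = p * p := by
  have hn : zpowers x ≤ normalizer ((zpowers z : Subgroup Q) : Set Q) := by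
    have : (zpowers z).Normal := zpowers_normal_of_central hzc
    rw [normalizer_eq_top_iff.mpr this]; exact le_top
  have h := Cfsg.Agent.Lib.Helper01.card_sup_mul_card_inf_of_le_normalizer (zpowers z) (zpowers x) hn
  have hinf : (zpowers z ⊓ zpowers x : Subgroup Q) = ⊥ := by
    have hcz : Nat.card (zpowers z) = p := by rw [Nat.card_zpowers, hz]
    have hdvd : Nat.card (zpowers z ⊓ zpowers x : Subgroup Q) ∣ p := by
      rw [← hcz]; exact card_dvd_of_le inf_le_left
    rcases (Nat.dvd_prime hp.out).mp hdvd with h1 | h1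
    · exact card_eq_one.mp h1
    · exfalso
      have hle : (zpowers z ⊓ zpowers x : Subgroup Q) = zpowers z := by
        apply eq_of_le_of_card_ge inf_le_left
        rw [h1, hcz]
      have hzx : zpowers z ≤ zpowers x := by
        rw [← hle]; exact inf_le_right
      have hcx : Nat.card (zpowers x) = p := by rw [Nat.card_zpowers, hx]
      have : zpowers z = zpowers x := by
        apply eq_of_le_of_card_ge hzx
        rw [hcx, hcz]
      apply hxz
      rw [this]; exact mem_zpowers x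
  rw [hinf, card_bot, mul_one, Nat.card_zpowers, Nat.card_zpowers, hx, hz] at h
  exact h

/-- every element of the join of two commuting cyclic groups of prime order has `p`-th power 1 -/
theorem pow_eq_one_of_mem_sup {p : ℕ} {x z : Q} (hx : x ^ p = 1)
    (hz : z ^ p = 1) (hzc : ∀ g : Q, g * z = z * g) {w : Q} (hw : w ∈ zpowers x ⊔ zpowers z) :
    w ^ p = 1 := by
  haveI hn : (zpowers z).Normal := zpowers_normal_of_central hzc
  obtain ⟨a, ha, b, hb, rfl⟩ := mem_sup_of_normal_right.mp hw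
  obtain ⟨i, rfl⟩ := mem_zpowers_iff.mp ha
  obtain ⟨j, rfl⟩ := mem_zpowers_iff.mp hb
  have hc0 : Commute (x ^ i) z := hzc (x ^ i)
  have hc : Commute (x ^ i) (z ^ j) := hc0.zpow_right j
  rw [hc.mul_pow, ← zpow_natCast, ← zpow_natCast, ← zpow_mul, ← zpow_mul, mul_comm i, mul_comm j,
    zpow_mul, zpow_mul, zpow_natCast, zpow_natCast, hx, hz, one_zpow, one_zpow, one_mul]

/-- a central element of order `p` in a nontrivial `p`-group -/
theorem exists_central_order_p {p : ℕ} [hp : Fact p.Prime] (hQ : IsPGroup p Q) [Nontrivial Q] :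
    ∃ z : Q, orderOf z = p ∧ ∀ g : Q, g * z = z * g := by
  haveI := hQ.center_nontrivial
  have hpc : IsPGroup p (center Q) := hQ.to_subgroup _
  obtain ⟨n, hn⟩ := hpc.exists_card_eq
  have hn0 : n ≠ 0 := by
    rintro rfl
    rw [pow_zero] at hn
    have := (Nat.card_eq_one_iff_unique.mp hn).1
    exact not_subsingleton _ this
  have hdvd : p ∣ Nat.card (center Q) := by rw [hn]; exact dvd_pow_self p hn0
  obtain ⟨z, hz⟩ := exists_prime_orderOf_dvd_card' p hdvd
  refine ⟨(z : Q), ?_, fun g => ?_⟩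
  · rw [Subgroup.orderOf_coe, hz]
  · exact mem_center_iff.mp z.2 g

/-- If a `p`-group with `SameOrderIso` has two distinct subgroups of order `p`, it has
exponent `p`. -/
theorem exp_of_two_subgroups {p : ℕ} [hp : Fact p.Prime] (hQ : IsPGroup p Q)
    (hI : SameOrderIso Q) {X Y : Subgroup Q} (hX : Nat.card X = p) (hY : Nat.card Y = p)
    (hXY : X ≠ Y) : ∀ g : Q, g ^ p = 1 := by
  haveI : Nontrivial Q := by
    rw [← Finite.one_lt_card_iff_nontrivial]
    have h1 : Nat.card X ≤ Nat.card Q := Nat.card_le_card_of_injective _ X.subtype_injective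
    have := hp.out.one_lt
    omega
  obtain ⟨z, hz, hzc⟩ := exists_central_order_p hQ
  -- some subgroup of order `p` other than `⟨z⟩`
  obtain ⟨X', hX', hX'z⟩ : ∃ X' : Subgroup Q, Nat.card X' = p ∧ X' ≠ zpowers z := by
    by_cases h : X = zpowers z
    · exact ⟨Y, hY, fun h' => hXY (h.trans h'.symm)⟩
    · exact ⟨X, hX, h⟩
  obtain ⟨x, hxX, hxz⟩ : ∃ x ∈ X', x ∉ zpowers z := by
    by_contra hcon
    have hcon' : X' ≤ zpowers z := by
      intro x hx
      by_contra hxz
      exact hcon ⟨x, hx, hxz⟩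
    apply hX'z
    apply eq_of_le_of_card_ge hcon'
    rw [hX', Nat.card_zpowers, hz]
  have hx1 : x ≠ 1 := fun h => hxz (h ▸ one_mem _)
  have hxo : orderOf x = p := by
    have h1 : orderOf (⟨x, hxX⟩ : X') ∣ p := hX' ▸ orderOf_dvd_natCard _
    rw [← Subgroup.orderOf_mk x hxX]
    rcases (Nat.dvd_prime hp.out).mp h1 with h2 | h2
    · exfalso
      apply hx1
      have := orderOf_eq_one_iff.mp h2
      exact congrArg Subtype.val this
    · exact h2
  have hW := card_zpowers_sup_zpowers hxo hz hzc hxz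
  have hWe : ∀ w ∈ zpowers x ⊔ zpowers z, w ^ p = 1 := fun w hw =>
    pow_eq_one_of_mem_sup (hxo ▸ pow_orderOf_eq_one x) (hz ▸ pow_orderOf_eq_one z) hzc hw
  intro g
  by_contra hg
  obtain ⟨k, hk⟩ := IsPGroup.iff_orderOf.mp hQ g
  have hk2 : 2 ≤ k := by
    by_contra hlt
    have hk1 : k ≤ 1 := by omega
    apply hg
    apply orderOf_dvd_iff_pow_eq_one.mp
    rw [hk]
    calc p ^ k ∣ p ^ 1 := pow_dvd_pow p hk1
      _ = p := pow_one p
  obtain ⟨h, hh⟩ : ∃ h : Q, h = g ^ (p ^ (k - 2)) := ⟨_, rfl⟩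
  have hho : orderOf h = p ^ 2 := by
    rw [hh, orderOf_pow_of_dvd (pow_ne_zero _ hp.out.ne_zero)
      (by rw [hk]; exact pow_dvd_pow p (by omega)), hk, Nat.pow_div (by omega) hp.out.pos]
    congr 1; omega
  have hcard : Nat.card (zpowers h) = Nat.card (zpowers x ⊔ zpowers z : Subgroup Q) := by
    rw [Nat.card_zpowers, hho, hW, sq]
  obtain ⟨f⟩ := hI _ _ hcard
  have h1 : ((f ⟨h, mem_zpowers h⟩ : (zpowers x ⊔ zpowers z : Subgroup Q)) : Q) ^ p = 1 :=
    hWe _ (f _).2
  have h2 : (f ⟨h, mem_zpowers h⟩) ^ p = 1 := Subtype.ext (by simpa using h1)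
  rw [← map_pow] at h2
  have h3 : (⟨h, mem_zpowers h⟩ : zpowers h) ^ p = 1 := f.injective (by rw [h2, map_one])
  have h4 : h ^ p = 1 := by simpa using congrArg Subtype.val h3
  have h5 := orderOf_dvd_of_pow_eq_one h4
  rw [hho] at h5
  have h6 := Nat.le_of_dvd hp.out.pos h5
  nlinarith [hp.out.two_le]

/-- generalized quaternion groups of order at least 16 do not have `SameOrderIso` -/
theorem not_quaternion_large (hI : SameOrderIso Q) {n : ℕ} (hn : 2 ≤ n)
    (e : Q ≃* QuaternionGroup (2 ^ n)) : False := by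
  haveI : NeZero (2 ^ n) := ⟨pow_ne_zero _ (by norm_num)⟩
  have hcardQ : Nat.card Q = 4 * 2 ^ n := by
    rw [Nat.card_congr e.toEquiv, Nat.card_eq_fintype_card, QuaternionGroup.card]
  obtain ⟨α, hα⟩ : ∃ α : Q, α = e.symm (QuaternionGroup.a 1) := ⟨_, rfl⟩
  have hαo : orderOf α = 2 * 2 ^ n := by
    rw [hα, MulEquiv.orderOf_eq, QuaternionGroup.orderOf_a_one]
  obtain ⟨m, rfl⟩ : ∃ m, n = m + 2 := ⟨n - 2, by omega⟩
  obtain ⟨β, hβ⟩ : ∃ β : Q, β = α ^ (2 ^ m) := ⟨_, rfl⟩
  have h8 : 2 * 2 ^ (m + 2) = 2 ^ m * 8 := by ring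
  have hβo : orderOf β = 8 := by
    rw [hβ, orderOf_pow_of_dvd (pow_ne_zero _ (by norm_num)) (by rw [hαo, h8]; exact dvd_mul_right _ _),
      hαo, h8, Nat.mul_div_cancel_left _ (by positivity)]
  obtain ⟨ξ, hξ⟩ : ∃ ξ : Q, ξ = e.symm (QuaternionGroup.xa 0) := ⟨_, rfl⟩
  have hξo : orderOf ξ = 4 := by rw [hξ, MulEquiv.orderOf_eq, QuaternionGroup.orderOf_xa]
  haveI : Fact (Nat.Prime 2) := ⟨Nat.prime_two⟩
  have hH : Nat.card (zpowers ξ) = 2 ^ 2 := by rw [Nat.card_zpowers, hξo]; norm_num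
  have hdvd : 2 ^ (2 + 1) ∣ Nat.card Q := by
    rw [hcardQ]
    refine ⟨2 ^ (m + 1), by ring⟩
  obtain ⟨K, hK, hHK⟩ := Sylow.exists_subgroup_card_pow_succ hdvd hH
  have hcard : Nat.card K = Nat.card (zpowers β) := by rw [hK, Nat.card_zpowers, hβo]; norm_num
  obtain ⟨f⟩ := hI _ _ hcard
  have hξK : ξ ∈ K := hHK (mem_zpowers ξ)
  obtain ⟨u, hu⟩ : ∃ u : zpowers β, u = f ⟨ξ, hξK⟩ := ⟨_, rfl⟩
  obtain ⟨k, hk⟩ := mem_zpowers_iff.mp u.2
  obtain ⟨β', hβ'⟩ : ∃ β' : zpowers β, β' = ⟨β, mem_zpowers β⟩ := ⟨_, rfl⟩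
  have huk : u = β' ^ k := by
    apply Subtype.ext
    rw [← hk, hβ']
    simp
  rcases Int.even_or_odd k with ⟨l, hl⟩ | ⟨l, hl⟩
  · have hu' : u = β' ^ l * β' ^ l := by rw [huk, hl, zpow_add]
    have h1 : (⟨ξ, hξK⟩ : K) = f.symm (β' ^ l) * f.symm (β' ^ l) := by
      rw [← map_mul, ← hu', hu, MulEquiv.symm_apply_apply]
    have hξd : ξ = ((f.symm (β' ^ l) : K) : Q) * ((f.symm (β' ^ l) : K) : Q) :=
      congrArg Subtype.val h1
    have h2 := congrArg e hξd
    rw [map_mul, hξ, MulEquiv.apply_symm_apply] at h2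
    exact quat_sq_ne_xa _ _ h2.symm
  · have h4 : ξ ^ 4 = 1 := by rw [← hξo]; exact pow_orderOf_eq_one ξ
    have hu4 : u ^ 4 = 1 := by
      rw [hu, ← map_pow]
      have : (⟨ξ, hξK⟩ : K) ^ 4 = 1 := Subtype.ext (by simpa using h4)
      rw [this, map_one]
    have hβ4 : (β ^ k) ^ 4 = 1 := by
      rw [hk]
      have := congrArg Subtype.val hu4
      simpa using this
    rw [← zpow_natCast, ← zpow_mul] at hβ4
    have h5 := orderOf_dvd_iff_zpow_eq_one.mpr hβ4
    rw [hβo, hl] at h5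
    omega

end

end Cfsg.Agent.Lib.Helper15.IsoSub
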