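import Mathlib
import Cfsg.Agent.Lib.Helper15.IsoSubA

/-!
# Finite `p`-groups in which subgroups of equal order are isomorphic (part B)

Subgroups of order `p ^ 3` in groups of exponent `p`.
-/

set_option autoImplicit false
set_option linter.unusedSectionVars false
set_option linter.style.haveILetI false

namespace Cfsg.Agent.Lib.Helper15.IsoSub

open Subgroup

variable {Q : Type*} [Group Q] [Finite Q] {p : ℕ} [hp : Fact p.Prime]

theorem orderOf_eq_of_exp {g : Q} (hg : g ^ p = 1) (hg1 : g ≠ 1) : orderOf g = p := by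
  rcases (Nat.dvd_prime hp.out).mp (orderOf_dvd_of_pow_eq_one hg) with h | h
  · exact absurd (orderOf_eq_one_iff.mp h) hg1
  · exact h

/-- a nonabelian subgroup of order `p ^ 3` in a nonabelian group of exponent `p` -/
theorem exists_nonabelian_cube (hQ : IsPGroup p Q) (hexp : ∀ g : Q, g ^ p = 1)
    (hna : ¬ ∀ a b : Q, a * b = b * a) :
    ∃ H : Subgroup Q, Nat.card H = p ^ 3 ∧ ¬ ∀ a ∈ H, ∀ b ∈ H, a * b = b * a := by
  classical
  have hcne : center Q ≠ ⊤ := by
    intro h
    apply hna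
    intro a b
    have : b ∈ center Q := h ▸ mem_top b
    exact mem_center_iff.mp this a
  haveI : Nontrivial (Q ⧸ center Q) := by
    rw [← Finite.one_lt_card_iff_nontrivial, ← Subgroup.index_eq_card]
    have h1 : (center Q).index ≠ 1 := fun h => hcne (index_eq_one.mp h)
    have h0 : (center Q).index ≠ 0 := index_ne_zero_of_finite
    omega
  haveI := (hQ.to_quotient (center Q)).center_nontrivial
  obtain ⟨bq, hbq⟩ := exists_ne (1 : center (Q ⧸ center Q))
  obtain ⟨b, hb⟩ := QuotientGroup.mk_surjective (bq : Q ⧸ center Q)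
  have hbnc : b ∉ center Q := by
    intro h
    apply hbq
    apply Subtype.ext
    rw [← hb]
    exact (QuotientGroup.eq_one_iff b).mpr h
  have hbc : ∀ g : Q, (b * g)⁻¹ * (g * b) ∈ center Q := by
    intro g
    rw [← QuotientGroup.eq]
    have := mem_center_iff.mp bq.2 (g : Q ⧸ center Q)
    rw [← hb] at this
    rw [QuotientGroup.mk_mul, QuotientGroup.mk_mul]
    exact this.symm
  obtain ⟨a, hab⟩ : ∃ a : Q, a * b ≠ b * a := by
    by_contra h
    apply hbnc
    rw [mem_center_iff]
    intro g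
    by_contra hg
    exact h ⟨g, hg⟩
  obtain ⟨d, hd⟩ : ∃ d : Q, d = (b * a)⁻¹ * (a * b) := ⟨_, rfl⟩
  have hdc : d ∈ center Q := hd ▸ hbc a
  have hdc' : ∀ g : Q, g * d = d * g := fun g => mem_center_iff.mp hdc g
  have hd1 : d ≠ 1 := by
    intro h
    apply hab
    rw [hd] at h
    exact (inv_mul_eq_one.mp h).symm
  have hconj : a * b * a⁻¹ = b * d := by
    have h1 : b * d * a = a * b := by
      rw [mul_assoc, ← hdc' a, ← mul_assoc, hd]; group
    rw [← h1]; group
  have hb1 : b ≠ 1 := fun h => hbnc (h ▸ one_mem _)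
  have hbo : orderOf b = p := orderOf_eq_of_exp (hexp b) hb1
  have hdo : orderOf d = p := orderOf_eq_of_exp (hexp d) hd1
  have hao : orderOf a = p := by
    apply orderOf_eq_of_exp (hexp a)
    rintro rfl
    apply hab; simp
  have hbd : b ∉ zpowers d := by
    intro h
    apply hbnc
    exact (zpowers_le.mpr hdc) h
  have hB := card_zpowers_sup_zpowers hbo hdo hdc' hbd
  -- `a` normalizes `B`
  have haN : a ∈ normalizer ((zpowers b ⊔ zpowers d : Subgroup Q) : Set Q) := by
    apply mem_normalizer_fintype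
    intro n hn
    haveI : (zpowers d).Normal := zpowers_normal_of_central hdc'
    obtain ⟨x, hx, y, hy, rfl⟩ := mem_sup_of_normal_right.mp hn
    obtain ⟨i, rfl⟩ := mem_zpowers_iff.mp hx
    obtain ⟨j, rfl⟩ := mem_zpowers_iff.mp hy
    have h1 : a * (b ^ i * d ^ j) * a⁻¹ = (a * b * a⁻¹) ^ i * d ^ j := by
      have hc : Commute a (d ^ j) := (show Commute a d from hdc' a).zpow_right j
      rw [conj_zpow]
      calc a * (b ^ i * d ^ j) * a⁻¹ = a * b ^ i * (d ^ j * a⁻¹) := by group
        _ = a * b ^ i * (a⁻¹ * d ^ j) := by rw [(hc.inv_left).eq]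
        _ = a * b ^ i * a⁻¹ * d ^ j := by group
    rw [SetLike.mem_coe, h1, hconj]
    apply mul_mem _ (mem_sup_right (zpow_mem (mem_zpowers d) j))
    apply zpow_mem
    exact mul_mem (mem_sup_left (mem_zpowers b)) (mem_sup_right (mem_zpowers d))
  have haN' : zpowers a ≤ normalizer ((zpowers b ⊔ zpowers d : Subgroup Q) : Set Q) :=
    zpowers_le.mpr haN
  have hcard := Cfsg.Agent.Lib.Helper01.card_sup_mul_card_inf_of_le_normalizer
    (zpowers b ⊔ zpowers d) (zpowers a) haN'
  rw [hB, Nat.card_zpowers, hao] at hcard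
  refine ⟨zpowers a ⊔ (zpowers b ⊔ zpowers d), ?_, ?_⟩
  swap
  · intro h
    exact hab (h a (mem_sup_left (mem_zpowers a)) b
      (mem_sup_right (mem_sup_left (mem_zpowers b))))
  · obtain ⟨H, hH⟩ : ∃ H : Subgroup Q, H = zpowers a ⊔ (zpowers b ⊔ zpowers d) := ⟨_, rfl⟩
    rw [← hH] at hcard ⊢
    have hHna : ¬ ∀ x y : H, x * y = y * x := by
      intro h
      apply hab
      have := h ⟨a, hH ▸ mem_sup_left (mem_zpowers a)⟩
        ⟨b, hH ▸ mem_sup_right (mem_sup_left (mem_zpowers b))⟩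
      exact congrArg Subtype.val this
    obtain ⟨k, hk⟩ := (hQ.to_subgroup H).exists_card_eq
    have hdvd : p ^ k ∣ p ^ 3 := by
      rw [← hk]; exact ⟨_, by rw [hcard]; ring⟩
    have hk3 : k ≤ 3 := (Nat.pow_dvd_pow_iff_le_right hp.out.one_lt).mp hdvd
    rcases Nat.lt_or_ge k 3 with hlt | hge
    · exfalso
      apply hHna
      interval_cases k
      · rw [pow_zero] at hk
        haveI := (Nat.card_eq_one_iff_unique.mp hk).1
        intro x y; exact Subsingleton.elim _ _
      · rw [pow_one] at hk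
        haveI := isCyclic_of_prime_card hk
        intro x y
        exact (IsCyclic.commGroup (α := H)).mul_comm x y
      · exact fun x y => (IsPGroup.isMulCommutative_of_card_eq_prime_sq hk).is_comm.comm x y
    · have : k = 3 := le_antisymm hk3 hge
      rw [hk, this]

/-- an abelian subgroup of order `p ^ 3` in a group of exponent `p` and order at least `p ^ 4` -/
theorem exists_abelian_cube (hQ : IsPGroup p Q) (hexp : ∀ g : Q, g ^ p = 1)
    (hcard : p ^ 4 ∣ Nat.card Q) :
    ∃ A : Subgroup Q, Nat.card A = p ^ 3 ∧ ∀ a ∈ A, ∀ b ∈ A, a * b = b * a := by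
  classical
  have hp2 := hp.out.two_le
  have hQpos : 0 < Nat.card Q := Nat.card_pos
  have hQ4 : p ^ 4 ≤ Nat.card Q := Nat.le_of_dvd hQpos hcard
  haveI : Nontrivial Q := by
    rw [← Finite.one_lt_card_iff_nontrivial]
    have : 1 < p ^ 4 := Nat.one_lt_pow (by norm_num) hp.out.one_lt
    omega
  obtain ⟨z, hz, hzc⟩ := exists_central_order_p hQ
  haveI hZn : (zpowers z).Normal := zpowers_normal_of_central hzc
  have hzcen : z ∈ center Q := mem_center_iff.mpr hzc
  haveI : Nontrivial (Q ⧸ zpowers z) := by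
    rw [← Finite.one_lt_card_iff_nontrivial, ← index_eq_card]
    have h1 := card_mul_index (zpowers z)
    rw [Nat.card_zpowers, hz] at h1
    by_contra hle
    have h0 : (zpowers z).index ≠ 0 := index_ne_zero_of_finite
    have h2 : (zpowers z).index = 1 := by omega
    rw [h2, mul_one] at h1
    rw [← h1] at hQ4
    have : p ^ 4 = p * p ^ 3 := by ring
    have h3 : 1 < p ^ 3 := Nat.one_lt_pow (by norm_num) hp.out.one_lt
    nlinarith
  haveI := (hQ.to_quotient (zpowers z)).center_nontrivial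
  obtain ⟨yq, hyq⟩ := exists_ne (1 : center (Q ⧸ zpowers z))
  obtain ⟨y, hy⟩ := QuotientGroup.mk_surjective (yq : Q ⧸ zpowers z)
  have hyZ : y ∉ zpowers z := by
    intro h
    apply hyq
    apply Subtype.ext
    rw [← hy]
    exact (QuotientGroup.eq_one_iff y).mpr h
  have hyc : ∀ g : Q, (y * g)⁻¹ * (g * y) ∈ zpowers z := by
    intro g
    rw [← QuotientGroup.eq]
    have := mem_center_iff.mp yq.2 (g : Q ⧸ zpowers z)
    rw [← hy] at this
    rw [QuotientGroup.mk_mul, QuotientGroup.mk_mul]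
    exact this.symm
  have hycen : ∀ g t : Q, t * ((y * g)⁻¹ * (g * y)) = ((y * g)⁻¹ * (g * y)) * t := by
    intro g t
    exact mem_center_iff.mp ((zpowers_le.mpr hzcen) (hyc g)) t
  obtain ⟨κ, hκ⟩ : ∃ κ : Q →* Q, ∀ g, κ g = (y * g)⁻¹ * (g * y) := by
    refine ⟨MonoidHom.mk' (fun g => (y * g)⁻¹ * (g * y)) ?_, fun g => rfl⟩
    intro g h
    obtain ⟨cg, hcg⟩ : ∃ cg : Q, cg = (y * g)⁻¹ * (g * y) := ⟨_, rfl⟩
    have e1 : cg * h⁻¹ = h⁻¹ * cg := by rw [hcg]; exact (hycen g h⁻¹).symm
    show (y * (g * h))⁻¹ * (g * h * y) = (y * g)⁻¹ * (g * y) * ((y * h)⁻¹ * (h * y))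
    rw [← hcg]
    calc (y * (g * h))⁻¹ * (g * h * y) = h⁻¹ * ((y * g)⁻¹ * (g * y)) * (y⁻¹ * (h * y)) := by group
      _ = h⁻¹ * cg * (y⁻¹ * (h * y)) := by rw [hcg]
      _ = cg * h⁻¹ * (y⁻¹ * (h * y)) := by rw [e1]
      _ = cg * ((y * h)⁻¹ * (h * y)) := by group
  have hker : ∀ g : Q, g ∈ κ.ker ↔ y * g = g * y := by
    intro g
    rw [MonoidHom.mem_ker, hκ, inv_mul_eq_one]
  have hrange : κ.range ≤ zpowers z := by
    rintro _ ⟨g, rfl⟩
    rw [hκ]; exact hyc g
  have hrc : Nat.card κ.range ∣ p := by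
    have := card_dvd_of_le hrange
    rwa [Nat.card_zpowers, hz] at this
  have hkc : Nat.card κ.ker * Nat.card κ.range = Nat.card Q := by
    rw [← index_ker, card_mul_index]
  have hk3 : p ^ 3 ≤ Nat.card κ.ker := by
    rcases (Nat.dvd_prime hp.out).mp hrc with h1 | h1
    · rw [h1, mul_one] at hkc
      rw [hkc]
      calc p ^ 3 ≤ p ^ 4 := Nat.pow_le_pow_right hp.out.pos (by norm_num)
        _ ≤ Nat.card Q := hQ4
    · rw [h1] at hkc
      rw [← hkc] at hQ4
      have : p ^ 4 = p ^ 3 * p := by ring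
      rw [this] at hQ4
      exact Nat.le_of_mul_le_mul_right hQ4 hp.out.pos
  have hy1 : y ≠ 1 := fun h => hyZ (h ▸ one_mem _)
  have hyo : orderOf y = p := orderOf_eq_of_exp (hexp y) hy1
  have hN := card_zpowers_sup_zpowers hyo hz hzc hyZ
  have hNker : zpowers y ⊔ zpowers z ≤ κ.ker := by
    refine sup_le (zpowers_le.mpr ((hker y).mpr rfl)) (zpowers_le.mpr ((hker z).mpr ?_))
    exact hzc y
  obtain ⟨u, huk, huN⟩ : ∃ u ∈ κ.ker, u ∉ zpowers y ⊔ zpowers z := by
    by_contra hcon
    have hle : κ.ker ≤ zpowers y ⊔ zpowers z := by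
      intro x hx
      by_contra hxn
      exact hcon ⟨x, hx, hxn⟩
    have := card_le_of_le hle
    rw [hN] at this
    have h3 : p ^ 3 = p * p * p := by ring
    nlinarith
  have huy : y * u = u * y := (hker u).mp huk
  obtain ⟨S, hS⟩ : ∃ S : Subgroup Q, S = closure ({u, y, z} : Set Q) := ⟨_, rfl⟩
  have huS : u ∈ S := hS ▸ subset_closure (by simp)
  have hyS : y ∈ S := hS ▸ subset_closure (by simp)
  have hzS : z ∈ S := hS ▸ subset_closure (by simp)
  have hScomm : ∀ a ∈ S, ∀ b ∈ S, a * b = b * a := by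
    have h1 : S ≤ centralizer ({u, y, z} : Set Q) := by
      rw [hS, closure_le]
      intro x hx
      rw [SetLike.mem_coe, mem_centralizer_iff]
      intro t ht
      simp only [Set.mem_insert_iff, Set.mem_singleton_iff] at hx ht
      rcases hx with rfl | rfl | rfl <;> rcases ht with rfl | rfl | rfl
      · rfl
      · exact huy
      · exact (hzc x).symm
      · exact huy.symm
      · rfl
      · exact (hzc x).symm
      · exact hzc t
      · exact hzc t
      · rfl
    have h2 : S ≤ centralizer (S : Set Q) := by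
      rw [hS, closure_le]
      intro x hx
      rw [SetLike.mem_coe, mem_centralizer_iff]
      intro t ht
      have := mem_centralizer_iff.mp (h1 (hS ▸ ht)) x hx
      exact this.symm
    intro a ha b hb
    exact (mem_centralizer_iff.mp (h2 ha) b hb).symm
  have hNS : zpowers y ⊔ zpowers z ≤ S := sup_le (zpowers_le.mpr hyS) (zpowers_le.mpr hzS)
  have hNlt : Nat.card (zpowers y ⊔ zpowers z : Subgroup Q) < Nat.card S := by
    rcases lt_or_eq_of_le (card_le_of_le hNS) with h | h
    · exact h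
    · exfalso
      have := eq_of_le_of_card_ge hNS h.ge
      exact huN (this ▸ huS)
  obtain ⟨k, hk⟩ := (hQ.to_subgroup S).exists_card_eq
  have hk3' : 3 ≤ k := by
    by_contra hlt
    have hk2 : k ≤ 2 := by omega
    have : p ^ k ≤ p ^ 2 := Nat.pow_le_pow_right hp.out.pos hk2
    rw [hN, hk] at hNlt
    nlinarith
  have hdvd : p ^ 3 ∣ Nat.card S := by rw [hk]; exact pow_dvd_pow p hk3'
  obtain ⟨K, hK⟩ := Sylow.exists_subgroup_card_pow_prime p hdvd
  refine ⟨K.map S.subtype, ?_, ?_⟩
  · rw [← hK]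
    exact Nat.card_congr (K.equivMapOfInjective S.subtype S.subtype_injective).symm.toEquiv
  · rintro _ ⟨a, -, rfl⟩ _ ⟨b, -, rfl⟩
    exact hScomm _ a.2 _ b.2

end Cfsg.Agent.Lib.Helper15.IsoSub
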