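import Mathlib
import Cfsg.Agent.Lib.Helper15.IsoSubB

/-!
# Finite `p`-groups in which subgroups of equal order are isomorphic: the classification
-/

set_option autoImplicit false
set_option linter.unusedSectionVars false
set_option linter.style.haveILetI false

namespace Cfsg.Agent.Lib.Helper15.IsoSub

open Subgroup

variable {Q : Type*} [Group Q] [Finite Q] {p : ℕ} [hp : Fact p.Prime]

theorem comm_of_card_pow_le_two {k : ℕ} (hk : Nat.card Q = p ^ k) (hk2 : k ≤ 2) :
    ∀ x y : Q, x * y = y * x := by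
  interval_cases k
  · rw [pow_zero] at hk
    haveI := (Nat.card_eq_one_iff_unique.mp hk).1
    intro x y; exact Subsingleton.elim _ _
  · rw [pow_one] at hk
    haveI := isCyclic_of_prime_card hk
    intro x y
    exact (IsCyclic.commGroup (α := Q)).mul_comm x y
  · exact fun x y => (IsPGroup.isMulCommutative_of_card_eq_prime_sq hk).is_comm.comm x y

theorem comm_of_exp_two (h : ∀ a : Q, a ^ 2 = 1) : ∀ a b : Q, a * b = b * a := by
  intro a b
  have hinv : ∀ c : Q, c⁻¹ = c := fun c => inv_eq_of_mul_eq_one_left (by rw [← sq]; exact h c)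
  calc a * b = (a * b)⁻¹ := (hinv _).symm
    _ = b⁻¹ * a⁻¹ := mul_inv_rev a b
    _ = b * a := by rw [hinv a, hinv b]

/-- **Classification** of finite `p`-groups in which any two subgroups of the same order are
isomorphic. -/
theorem classify (hQ : IsPGroup p Q) (hI : SameOrderIso Q) :
    IsCyclic Q ∨ ((∀ a b : Q, a * b = b * a) ∧ ∀ a : Q, a ^ p = 1) ∨
      (p = 2 ∧ Nonempty (Q ≃* QuaternionGroup 2)) ∨
      (p ≠ 2 ∧ Nat.card Q = p ^ 3 ∧ (∀ a : Q, a ^ p = 1) ∧ ¬ ∀ a b : Q, a * b = b * a) := by
  classical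
  by_cases huniq : ∀ H K : Subgroup Q, Nat.card H = p → Nat.card K = p → H = K
  · rcases Cfsg.Agent.Lib.Helper97.cyclic_or_quaternion_of_unique p hQ huniq with h | ⟨h2, n, ⟨e⟩⟩
    · exact Or.inl h
    · obtain rfl | rfl | hn : n = 0 ∨ n = 1 ∨ 2 ≤ n := by omega
      · left
        have e' : Q ≃* QuaternionGroup 1 := e
        haveI := QuaternionGroup.quaternionGroup_one_isCyclic
        exact isCyclic_of_surjective e'.symm e'.symm.surjective
      · right; right; left
        have e' : Q ≃* QuaternionGroup 2 := e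
        exact ⟨h2, ⟨e'⟩⟩
      · exact (not_quaternion_large hI hn e).elim
  · obtain ⟨X, Y, hX, hY, hXY⟩ : ∃ X Y : Subgroup Q, Nat.card X = p ∧ Nat.card Y = p ∧ X ≠ Y := by
      by_contra hcon
      apply huniq
      intro H K hH hK
      by_contra hne
      exact hcon ⟨H, K, hH, hK, hne⟩
    have hexp := exp_of_two_subgroups hQ hI hX hY hXY
    by_cases hcomm : ∀ a b : Q, a * b = b * a
    · exact Or.inr (Or.inl ⟨hcomm, hexp⟩)
    · right; right; right
      have hp2 : p ≠ 2 := by
        rintro rfl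
        exact hcomm (comm_of_exp_two hexp)
      refine ⟨hp2, ?_, hexp, hcomm⟩
      obtain ⟨k, hk⟩ := hQ.exists_card_eq
      have hk3 : 3 ≤ k := by
        by_contra hlt
        exact hcomm (comm_of_card_pow_le_two hk (by omega))
      rcases Nat.lt_or_ge k 4 with hlt | hge
      · have : k = 3 := by omega
        rw [hk, this]
      · exfalso
        have hdvd : p ^ 4 ∣ Nat.card Q := by rw [hk]; exact pow_dvd_pow p hge
        obtain ⟨A, hA, hAc⟩ := exists_abelian_cube hQ hexp hdvd
        obtain ⟨H, hH, hHn⟩ := exists_nonabelian_cube hQ hexp hcomm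
        obtain ⟨f⟩ := hI A H (hA.trans hH.symm)
        apply hHn
        intro a ha b hb
        have h1 := hAc _ (f.symm ⟨a, ha⟩).2 _ (f.symm ⟨b, hb⟩).2
        have h2 : f.symm ⟨a, ha⟩ * f.symm ⟨b, hb⟩ = f.symm ⟨b, hb⟩ * f.symm ⟨a, ha⟩ :=
          Subtype.ext h1
        rw [← map_mul, ← map_mul] at h2
        have h3 := f.symm.injective h2
        exact congrArg Subtype.val h3

end Cfsg.Agent.Lib.Helper15.IsoSub
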