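import Mathlib
import Cfsg.Agent.Lib.Helper15.IsoSubC

/-!
# The extraspecial case: element computations
-/

set_option autoImplicit false
set_option linter.unusedSectionVars false
set_option linter.style.haveILetI false

namespace Cfsg.Agent.Lib.Helper15.IsoSub

open Subgroup

variable {G : Type*} [Group G]

/-- the key computation: `g = a * b` squares to the inversion on `⟨x, z⟩` -/
theorem sq_inverts {x z a b : G} (hxz : x * z = z * x)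
    (hax : a⁻¹ * x * a = x * z) (haz : a⁻¹ * z * a = z)
    (hbz : b⁻¹ * z * b = z * x⁻¹ * x⁻¹) (hbx : b⁻¹ * x * b = x) :
    ((a * b) ^ 2)⁻¹ * x * (a * b) ^ 2 = x⁻¹ ∧ ((a * b) ^ 2)⁻¹ * z * (a * b) ^ 2 = z⁻¹ := by
  have hc : Commute x z := hxz
  have e1 : x⁻¹ * z⁻¹ = z⁻¹ * x⁻¹ := (hc.inv_left.inv_right).eq
  -- conjugation by `g = a * b`
  have gx : (a * b)⁻¹ * x * (a * b) = x⁻¹ * z := by
    calc (a * b)⁻¹ * x * (a * b) = b⁻¹ * (a⁻¹ * x * a) * b := by group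
      _ = b⁻¹ * (x * z) * b := by rw [hax]
      _ = (b⁻¹ * x * b) * (b⁻¹ * z * b) := by group
      _ = x * (z * x⁻¹ * x⁻¹) := by rw [hbx, hbz]
      _ = (x * z) * x⁻¹ * x⁻¹ := by group
      _ = (z * x) * x⁻¹ * x⁻¹ := by rw [hxz]
      _ = z * x⁻¹ := by group
      _ = x⁻¹ * z := (hc.inv_left).eq.symm
  have gz : (a * b)⁻¹ * z * (a * b) = z * x⁻¹ * x⁻¹ := by
    calc (a * b)⁻¹ * z * (a * b) = b⁻¹ * (a⁻¹ * z * a) * b := by group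
      _ = b⁻¹ * z * b := by rw [haz]
      _ = z * x⁻¹ * x⁻¹ := hbz
  constructor
  · calc ((a * b) ^ 2)⁻¹ * x * (a * b) ^ 2
        = (a * b)⁻¹ * ((a * b)⁻¹ * x * (a * b)) * (a * b) := by
          rw [sq, mul_inv_rev (a * b) (a * b)]; simp only [mul_assoc]
      _ = (a * b)⁻¹ * (x⁻¹ * z) * (a * b) := by rw [gx]
      _ = ((a * b)⁻¹ * x * (a * b))⁻¹ * ((a * b)⁻¹ * z * (a * b)) := by group
      _ = (x⁻¹ * z)⁻¹ * (z * x⁻¹ * x⁻¹) := by rw [gx, gz]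
      _ = z⁻¹ * (x * z) * x⁻¹ * x⁻¹ := by group
      _ = z⁻¹ * (z * x) * x⁻¹ * x⁻¹ := by rw [hxz]
      _ = x⁻¹ := by group
  · calc ((a * b) ^ 2)⁻¹ * z * (a * b) ^ 2
        = (a * b)⁻¹ * ((a * b)⁻¹ * z * (a * b)) * (a * b) := by
          rw [sq, mul_inv_rev (a * b) (a * b)]; simp only [mul_assoc]
      _ = (a * b)⁻¹ * (z * x⁻¹ * x⁻¹) * (a * b) := by rw [gz]
      _ = ((a * b)⁻¹ * z * (a * b)) * ((a * b)⁻¹ * x * (a * b))⁻¹ *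
            ((a * b)⁻¹ * x * (a * b))⁻¹ := by group
      _ = (z * x⁻¹ * x⁻¹) * (x⁻¹ * z)⁻¹ * (x⁻¹ * z)⁻¹ := by rw [gx, gz]
      _ = z * (x⁻¹ * (x⁻¹ * z⁻¹)) * x * z⁻¹ * x := by group
      _ = z * (x⁻¹ * (z⁻¹ * x⁻¹)) * x * z⁻¹ * x := by rw [e1]
      _ = z * ((x⁻¹ * z⁻¹) * x⁻¹) * x * z⁻¹ * x := by group
      _ = z * ((z⁻¹ * x⁻¹) * x⁻¹) * x * z⁻¹ * x := by rw [e1]
      _ = (x⁻¹ * z⁻¹) * x := by group
      _ = (z⁻¹ * x⁻¹) * x := by rw [e1]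
      _ = z⁻¹ := by group

/-- if `c` inverts `x` by conjugation, so does every odd power of `c` -/
theorem odd_pow_inverts {c x : G} (h : c⁻¹ * x * c = x⁻¹) {m : ℕ} (hm : Odd m) :
    (c ^ m)⁻¹ * x * c ^ m = x⁻¹ := by
  obtain ⟨k, rfl⟩ := hm
  have h2 : (c ^ 2)⁻¹ * x * c ^ 2 = x := by
    calc (c ^ 2)⁻¹ * x * c ^ 2 = c⁻¹ * (c⁻¹ * x * c) * c := by
          rw [sq, mul_inv_rev]; simp only [mul_assoc]
      _ = c⁻¹ * x⁻¹ * c := by rw [h]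
      _ = (c⁻¹ * x * c)⁻¹ := by group
      _ = x := by rw [h, inv_inv]
  have hc2 : Commute (c ^ 2) x := by
    have : x * c ^ 2 = c ^ 2 * x := by
      calc x * c ^ 2 = c ^ 2 * ((c ^ 2)⁻¹ * x * c ^ 2) := by group
        _ = c ^ 2 * x := by rw [h2]
    exact this.symm
  have hck : Commute ((c ^ 2) ^ k) x := hc2.pow_left k
  have e : c ^ (2 * k + 1) = (c ^ 2) ^ k * c := by rw [pow_succ, pow_mul]
  rw [e]
  calc ((c ^ 2) ^ k * c)⁻¹ * x * ((c ^ 2) ^ k * c)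
      = c⁻¹ * (((c ^ 2) ^ k)⁻¹ * (x * (c ^ 2) ^ k)) * c := by group
    _ = c⁻¹ * (((c ^ 2) ^ k)⁻¹ * ((c ^ 2) ^ k * x)) * c := by rw [hck.eq]
    _ = c⁻¹ * x * c := by group
    _ = x⁻¹ := h

/-- an element of odd order `p`... whose inverse equals itself is trivial -/
theorem eq_one_of_inv_eq {p : ℕ} (hp : p.Prime) (hp2 : p ≠ 2) {x : G} (hxp : x ^ p = 1)
    (hinv : x = x⁻¹) : x = 1 := by
  have h2 : x ^ 2 = 1 := by
    rw [sq]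
    nth_rewrite 1 [hinv]
    exact inv_mul_cancel x
  have h1 : orderOf x ∣ Nat.gcd 2 p := Nat.dvd_gcd (orderOf_dvd_of_pow_eq_one h2)
    (orderOf_dvd_of_pow_eq_one hxp)
  have hcop : Nat.gcd 2 p = 1 := by
    rw [Nat.gcd_comm]
    exact (Nat.Prime.coprime_iff_not_dvd hp).mpr (fun hd => hp2
      ((Nat.prime_dvd_prime_iff_eq hp Nat.prime_two).mp hd))
  rw [hcop, Nat.dvd_one] at h1
  exact orderOf_eq_one_iff.mp h1

end Cfsg.Agent.Lib.Helper15.IsoSub
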