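import Mathlib
import Cfsg.Agent.Lib.Helper15.IsoSubD

/-!
# The extraspecial case: structure of nonabelian groups of order `p ^ 3` and transport
-/

set_option autoImplicit false
set_option linter.unusedSectionVars false
set_option linter.style.haveILetI false

namespace Cfsg.Agent.Lib.Helper15.IsoSub

open Subgroup

section abstract

variable {Q : Type*} [Group Q] [Finite Q] {p : ℕ} [hp : Fact p.Prime]

/-- the centre of a nonabelian group of order `p ^ 3` has order `p` -/
theorem card_center_of_cube (hcard : Nat.card Q = p ^ 3) (hna : ¬ ∀ a b : Q, a * b = b * a) :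
    Nat.card (center Q) = p := by
  have hQ : IsPGroup p Q := IsPGroup.of_card hcard
  haveI : Nontrivial Q := by
    rw [← Finite.one_lt_card_iff_nontrivial, hcard]
    exact Nat.one_lt_pow (by norm_num) hp.out.one_lt
  haveI := hQ.center_nontrivial
  obtain ⟨k, hk⟩ := (hQ.to_subgroup (center Q)).exists_card_eq
  have hdvd : p ^ k ∣ p ^ 3 := by
    rw [← hk, ← hcard]; exact card_subgroup_dvd_card _
  have hk3 : k ≤ 3 := (Nat.pow_dvd_pow_iff_le_right hp.out.one_lt).mp hdvd
  have hk0 : k ≠ 0 := by
    rintro rfl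
    rw [pow_zero] at hk
    have := (Nat.card_eq_one_iff_unique.mp hk).1
    exact not_subsingleton _ this
  have hmul := Subgroup.card_eq_card_quotient_mul_card_subgroup (center Q)
  rw [hcard, hk] at hmul
  obtain rfl | rfl | rfl : k = 1 ∨ k = 2 ∨ k = 3 := by omega
  · rw [hk, pow_one]
  · exfalso
    have hq : Nat.card (Q ⧸ center Q) = p := by
      have h1 : p ^ 3 = p * p ^ 2 := by ring
      rw [h1] at hmul
      exact (Nat.eq_of_mul_eq_mul_right (pow_pos hp.out.pos 2) hmul).symm
    haveI := isCyclic_of_prime_card hq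
    apply hna
    have hmc := MonoidHom.isMulCommutative_of_isCyclic_of_ker_le_center (QuotientGroup.mk' (center Q))
      (by rw [QuotientGroup.ker_mk'])
    exact fun a b => hmc.is_comm.comm a b
  · exfalso
    have htop : center Q = ⊤ := by
      apply Subgroup.eq_top_of_card_eq
      rw [hk, hcard]
    apply hna
    intro a b
    have hb : b ∈ center Q := by rw [htop]; exact mem_top b
    exact mem_center_iff.mp hb a

/-- commutators are central in a nonabelian group of order `p ^ 3` -/
theorem comm_mem_center_of_cube (hcard : Nat.card Q = p ^ 3)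
    (hna : ¬ ∀ a b : Q, a * b = b * a) (u v : Q) : u⁻¹ * v⁻¹ * u * v ∈ center Q := by
  have hc := card_center_of_cube hcard hna
  have hmul := Subgroup.card_eq_card_quotient_mul_card_subgroup (center Q)
  rw [hcard, hc] at hmul
  have hq : Nat.card (Q ⧸ center Q) = p ^ 2 := by
    have h1 : p ^ 3 = p ^ 2 * p := by ring
    rw [h1] at hmul
    exact (Nat.eq_of_mul_eq_mul_right hp.out.pos hmul).symm
  have hcomm := IsPGroup.isMulCommutative_of_card_eq_prime_sq hq
  rw [← QuotientGroup.eq_one_iff]
  have e : ((u⁻¹ * v⁻¹ * u * v : Q) : Q ⧸ center Q) =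
      (u : Q ⧸ center Q)⁻¹ * (v : Q ⧸ center Q)⁻¹ * (u : Q ⧸ center Q) * (v : Q ⧸ center Q) := by
    simp
  rw [e]
  have h2 : (v : Q ⧸ center Q)⁻¹ * (u : Q ⧸ center Q) = (u : Q ⧸ center Q) * (v : Q ⧸ center Q)⁻¹ :=
    hcomm.is_comm.comm _ _
  rw [mul_assoc (u : Q ⧸ center Q)⁻¹, h2]
  group

/-- a nontrivial central element generates the centre -/
theorem mem_zpowers_of_central_cube (hcard : Nat.card Q = p ^ 3)
    (hna : ¬ ∀ a b : Q, a * b = b * a) {w c : Q} (hw : w ∈ center Q) (hw1 : w ≠ 1)
    (hc : c ∈ center Q) : c ∈ zpowers w := by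
  have hcz := card_center_of_cube hcard hna
  have hne : (⟨w, hw⟩ : center Q) ≠ 1 := fun h => hw1 (congrArg Subtype.val h)
  have htop := zpowers_eq_top_of_prime_card hcz hne
  have hmem : (⟨c, hc⟩ : center Q) ∈ zpowers (⟨w, hw⟩ : center Q) := by rw [htop]; exact mem_top _
  obtain ⟨k, hk⟩ := mem_zpowers_iff.mp hmem
  refine mem_zpowers_iff.mpr ⟨k, ?_⟩
  have := congrArg Subtype.val hk
  simpa using this

end abstract

section subgroups

variable {G : Type*} [Group G] [Finite G]

/-- a nonabelian subgroup of order `p ^ 3` and exponent `p` -/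
def IsCube (p : ℕ) (P : Subgroup G) : Prop :=
  Nat.card P = p ^ 3 ∧ (∀ a ∈ P, a ^ p = 1) ∧ ¬ ∀ a ∈ P, ∀ b ∈ P, a * b = b * a

variable {p : ℕ} [hp : Fact p.Prime] {P : Subgroup G}

theorem IsCube.not_comm_sub (h : IsCube p P) : ¬ ∀ a b : P, a * b = b * a := by
  intro hc
  apply h.2.2
  intro a ha b hb
  exact congrArg Subtype.val (hc ⟨a, ha⟩ ⟨b, hb⟩)

theorem IsCube.comm_central (h : IsCube p P) {u v w : G} (hu : u ∈ P) (hv : v ∈ P) (hw : w ∈ P) :
    w * (u⁻¹ * v⁻¹ * u * v) = (u⁻¹ * v⁻¹ * u * v) * w := by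
  have h1 := comm_mem_center_of_cube (Q := P) h.1 h.not_comm_sub ⟨u, hu⟩ ⟨v, hv⟩
  have h2 := mem_center_iff.mp h1 ⟨w, hw⟩
  exact congrArg Subtype.val h2

theorem IsCube.central_mem_zpowers (h : IsCube p P) {w c : G} (hw : w ∈ P) (hw1 : w ≠ 1)
    (hwc : ∀ u ∈ P, u * w = w * u) (hc : c ∈ P) (hcc : ∀ u ∈ P, u * c = c * u) :
    c ∈ zpowers w := by
  have h1 : (⟨w, hw⟩ : P) ∈ center P := mem_center_iff.mpr fun u => Subtype.ext (hwc u u.2)
  have h2 : (⟨c, hc⟩ : P) ∈ center P := mem_center_iff.mpr fun u => Subtype.ext (hcc u u.2)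
  have hne : (⟨w, hw⟩ : P) ≠ 1 := fun h => hw1 (congrArg Subtype.val h)
  have h3 := mem_zpowers_of_central_cube (Q := P) h.1 h.not_comm_sub h1 hne h2
  obtain ⟨k, hk⟩ := mem_zpowers_iff.mp h3
  refine mem_zpowers_iff.mpr ⟨k, ?_⟩
  have := congrArg Subtype.val hk
  simpa using this

theorem IsCube.map_conj (h : IsCube p P) (g : G) :
    IsCube p (P.map (MulAut.conj g).toMonoidHom) := by
  refine ⟨?_, ?_, ?_⟩
  · rw [Subgroup.card_map_of_injective (MulAut.conj g).injective]; exact h.1
  · rintro _ ⟨a, ha, rfl⟩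
    rw [← map_pow, h.2.1 a ha, map_one]
  · intro hc
    apply h.2.2
    intro a ha b hb
    have := hc _ ⟨a, ha, rfl⟩ _ ⟨b, hb, rfl⟩
    rw [← map_mul, ← map_mul] at this
    exact (MulAut.conj g).injective this

/-- order of the join of two commuting cyclic groups of prime order -/
theorem card_sup_of_commute {x z : G} (hx : orderOf x = p) (hz : orderOf z = p)
    (hxz : x * z = z * x) (hnot : x ∉ zpowers z) :
    Nat.card (zpowers x ⊔ zpowers z : Subgroup G) = p * p := by
  have hn : zpowers x ≤ normalizer ((zpowers z : Subgroup G) : Set G) := by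
    refine le_trans ?_ (centralizer_le_normalizer _)
    rw [zpowers_le]
    rw [mem_centralizer_iff]
    intro h hh
    obtain ⟨k, rfl⟩ := mem_zpowers_iff.mp hh
    have hc : Commute z x := hxz.symm
    exact (hc.zpow_left k).eq
  have h := Cfsg.Agent.Lib.Helper01.card_sup_mul_card_inf_of_le_normalizer (zpowers z) (zpowers x) hn
  have hinf : (zpowers z ⊓ zpowers x : Subgroup G) = ⊥ := by
    have hcz : Nat.card (zpowers z) = p := by rw [Nat.card_zpowers, hz]
    have hdvd : Nat.card (zpowers z ⊓ zpowers x : Subgroup G) ∣ p := by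
      rw [← hcz]; exact card_dvd_of_le inf_le_left
    rcases (Nat.dvd_prime hp.out).mp hdvd with h1 | h1
    · exact card_eq_one.mp h1
    · exfalso
      have hle : (zpowers z ⊓ zpowers x : Subgroup G) = zpowers z := by
        apply eq_of_le_of_card_ge inf_le_left
        rw [h1, hcz]
      have hzx : zpowers z ≤ zpowers x := by
        rw [← hle]; exact inf_le_right
      have hcx : Nat.card (zpowers x) = p := by rw [Nat.card_zpowers, hx]
      have : zpowers z = zpowers x := by
        apply eq_of_le_of_card_ge hzx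
        rw [hcx, hcz]
      apply hnot
      rw [this]; exact mem_zpowers x
  rw [hinf, card_bot, mul_one, Nat.card_zpowers, Nat.card_zpowers, hx, hz] at h
  exact h

/-- conjugacy of equal-order `p`-subgroups gives `SameOrderIso` on every `p`-subgroup -/
theorem sameOrderIso_of_conj
    (hD : ∀ H K : Subgroup G, IsPGroup p H → IsPGroup p K → Nat.card H = Nat.card K →
      ∃ g : G, K = H.map (MulAut.conj g).toMonoidHom)
    (P : Subgroup G) (hP : IsPGroup p P) : SameOrderIso P := by
  intro H K hcard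
  have eH : H ≃* H.map P.subtype := H.equivMapOfInjective P.subtype P.subtype_injective
  have eK : K ≃* K.map P.subtype := K.equivMapOfInjective P.subtype P.subtype_injective
  have hH : IsPGroup p (H.map P.subtype) := (hP.to_subgroup H).map _
  have hK : IsPGroup p (K.map P.subtype) := (hP.to_subgroup K).map _
  have hc : Nat.card (H.map P.subtype) = Nat.card (K.map P.subtype) := by
    rw [← Nat.card_congr eH.toEquiv, ← Nat.card_congr eK.toEquiv]; exact hcard
  obtain ⟨g, hg⟩ := hD _ _ hH hK hc
  have e1 : H.map P.subtype ≃* (H.map P.subtype).map (MulAut.conj g).toMonoidHom :=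
    (H.map P.subtype).equivMapOfInjective _ (MulAut.conj g).injective
  have e2 : (H.map P.subtype).map (MulAut.conj g).toMonoidHom ≃* K.map P.subtype :=
    MulEquiv.subgroupCongr hg.symm
  exact ⟨eH.trans (e1.trans (e2.trans eK.symm))⟩

end subgroups

end Cfsg.Agent.Lib.Helper15.IsoSub
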