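import Mathlib
import Cfsg.Agent.Lib.Helper15.IsoSubE

/-!
# The extraspecial case: producing the configuration `x, z, a, b`
-/

set_option autoImplicit false
set_option linter.unusedSectionVars false
set_option linter.style.haveILetI false

namespace Cfsg.Agent.Lib.Helper15.IsoSub

open Subgroup

variable {G : Type*} [Group G]

/-- the configuration: `⟨x, z⟩` elementary abelian of order `p ^ 2`, `a` acts as the transvection
`x ↦ x z`, `b` as the transvection `z ↦ z x⁻²`. -/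
structure Config (p : ℕ) (x z a b : G) : Prop where
  hxz : x * z = z * x
  hax : a⁻¹ * x * a = x * z
  haz : a⁻¹ * z * a = z
  hbz : b⁻¹ * z * b = z * x⁻¹ * x⁻¹
  hbx : b⁻¹ * x * b = x
  ox : orderOf x = p
  oz : orderOf z = p
  oa : orderOf a = p
  ob : orderOf b = p
  hx : x ∉ zpowers z
  ha : a ∉ zpowers z
  hb : b ∉ zpowers x

variable [Finite G] {p : ℕ} [hp : Fact p.Prime] {P : Subgroup G}

theorem exists_config
    (hD : ∀ H K : Subgroup G, IsPGroup p H → IsPGroup p K → Nat.card H = Nat.card K →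
      ∃ g : G, K = H.map (MulAut.conj g).toMonoidHom)
    (hp2 : p ≠ 2) (hP : IsCube p P) : ∃ x z a b : G, Config p x z a b := by
  classical
  obtain ⟨a, ha, x, hx, hax⟩ : ∃ a ∈ P, ∃ x ∈ P, a * x ≠ x * a := by
    by_contra hcon
    apply hP.2.2
    intro a ha b hb
    by_contra hne
    exact hcon ⟨a, ha, b, hb, hne⟩
  obtain ⟨z, hz⟩ : ∃ z, z = x⁻¹ * a⁻¹ * x * a := ⟨_, rfl⟩
  have hzP : z ∈ P := by
    rw [hz]; exact P.mul_mem (P.mul_mem (P.mul_mem (P.inv_mem hx) (P.inv_mem ha)) hx) ha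
  have hzc : ∀ u ∈ P, u * z = z * u := fun u hu => by rw [hz]; exact hP.comm_central hx ha hu
  have hz1 : z ≠ 1 := by
    intro h1
    apply hax
    have h2 : a * x * (x⁻¹ * a⁻¹ * x * a) = x * a := by group
    rw [← hz, h1, mul_one] at h2
    exact h2
  have e_ax : a⁻¹ * x * a = x * z := by rw [hz]; group
  have e_az : a⁻¹ * z * a = z := by
    have := hzc a ha
    calc a⁻¹ * z * a = a⁻¹ * (z * a) := by group
      _ = a⁻¹ * (a * z) := by rw [this]
      _ = z := by group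
  have e_xz : x * z = z * x := hzc x hx
  have hexp := hP.2.1
  have hx1 : x ≠ 1 := by rintro rfl; exact hax (by simp)
  have ha1 : a ≠ 1 := by rintro rfl; exact hax (by simp)
  have ox : orderOf x = p := orderOf_eq_prime (hexp x hx) hx1
  have oz : orderOf z = p := orderOf_eq_prime (hexp z hzP) hz1
  have oa : orderOf a = p := orderOf_eq_prime (hexp a ha) ha1
  have hzpow : ∀ w ∈ zpowers z, ∀ u ∈ P, u * w = w * u := by
    intro w hw u hu
    obtain ⟨k, rfl⟩ := mem_zpowers_iff.mp hw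
    have hc : Commute u z := hzc u hu
    exact (hc.zpow_right k).eq
  have hxnz : x ∉ zpowers z := fun h => hax (hzpow x h a ha)
  have hanz : a ∉ zpowers z := fun h => hax ((hzpow a h x hx).symm)
  -- conjugate `⟨x⟩` to `⟨z⟩`
  have hpx : IsPGroup p (zpowers x) :=
    IsPGroup.of_card (n := 1) (by rw [Nat.card_zpowers, ox, pow_one])
  have hpz : IsPGroup p (zpowers z) :=
    IsPGroup.of_card (n := 1) (by rw [Nat.card_zpowers, oz, pow_one])
  obtain ⟨h, hh⟩ := hD (zpowers x) (zpowers z) hpx hpz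
    (by rw [Nat.card_zpowers, Nat.card_zpowers, ox, oz])
  have hxh : h * x * h⁻¹ ∈ zpowers z := by
    rw [hh]; exact ⟨x, mem_zpowers x, rfl⟩
  obtain ⟨C, hC⟩ : ∃ C : Subgroup G, C = centralizer {x} := ⟨_, rfl⟩
  have hCmem : ∀ w : G, w ∈ C ↔ x * w = w * x := by
    intro w
    rw [hC, mem_centralizer_iff]
    constructor
    · intro h1; exact h1 x rfl
    · intro h1 y hy
      have hy' : y = x := hy
      rw [hy']; exact h1
  have hP'C : P.map (MulAut.conj h⁻¹).toMonoidHom ≤ C := by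
    rintro _ ⟨w, hw, rfl⟩
    rw [hCmem]
    have h1 := hzpow _ hxh w hw
    show x * (h⁻¹ * w * h⁻¹⁻¹) = (h⁻¹ * w * h⁻¹⁻¹) * x
    rw [inv_inv]
    calc x * (h⁻¹ * w * h) = h⁻¹ * ((h * x * h⁻¹) * w) * h := by group
      _ = h⁻¹ * (w * (h * x * h⁻¹)) * h := by rw [h1]
      _ = (h⁻¹ * w * h) * x := by group
  have hdvd : p ^ 3 ∣ Nat.card C := by
    have := Subgroup.card_dvd_of_le hP'C
    rwa [Subgroup.card_map_of_injective (MulAut.conj h⁻¹).injective, hP.1] at this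
  have hxC : x ∈ C := by rw [hCmem]
  have hzC : z ∈ C := by rw [hCmem]; exact e_xz
  have hEC : zpowers x ⊔ zpowers z ≤ C := sup_le (zpowers_le.mpr hxC) (zpowers_le.mpr hzC)
  have hEcard := card_sup_of_commute ox oz e_xz hxnz
  have hEsub : Nat.card ((zpowers x ⊔ zpowers z).subgroupOf C) = p ^ 2 := by
    rw [Nat.card_congr (Subgroup.subgroupOfEquivOfLe hEC).toEquiv, hEcard, sq]
  obtain ⟨K', hK'card, hK'⟩ :=
    Sylow.exists_subgroup_card_pow_prime_le p hdvd _ hEsub (by norm_num : 2 ≤ 3)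
  obtain ⟨P₁, hP₁⟩ : ∃ P₁ : Subgroup G, P₁ = K'.map C.subtype := ⟨_, rfl⟩
  have hP₁card : Nat.card P₁ = p ^ 3 := by
    rw [hP₁, Subgroup.card_map_of_injective C.subtype_injective, hK'card]
  have hEP₁ : zpowers x ⊔ zpowers z ≤ P₁ := by
    intro e he
    rw [hP₁]
    refine ⟨⟨e, hEC he⟩, hK' ?_, rfl⟩
    exact Subgroup.mem_subgroupOf.mpr he
  have hP₁C : ∀ w ∈ P₁, x * w = w * x := by
    intro w hw
    rw [hP₁] at hw
    obtain ⟨w', _, rfl⟩ := hw
    exact (hCmem _).mp w'.2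
  obtain ⟨g₁, hg₁⟩ := hD P P₁ (IsPGroup.of_card hP.1) (IsPGroup.of_card hP₁card)
    (by rw [hP.1, hP₁card])
  have hcube₁ : IsCube p P₁ := by rw [hg₁]; exact hP.map_conj g₁
  have hxP₁ : x ∈ P₁ := hEP₁ (mem_sup_left (mem_zpowers x))
  have hzP₁ : z ∈ P₁ := hEP₁ (mem_sup_right (mem_zpowers z))
  have hxc₁ : ∀ u ∈ P₁, u * x = x * u := fun u hu => (hP₁C u hu).symm
  obtain ⟨b₀, hb₀, hb₀z⟩ : ∃ b₀ ∈ P₁, b₀ * z ≠ z * b₀ := by
    by_contra hcon
    have hzc₁ : ∀ u ∈ P₁, u * z = z * u := by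
      intro u hu
      by_contra hne
      exact hcon ⟨u, hu, hne⟩
    exact hxnz (hcube₁.central_mem_zpowers hzP₁ hz1 hzc₁ hxP₁ hxc₁)
  obtain ⟨w, hw⟩ : ∃ w, w = z⁻¹ * b₀⁻¹ * z * b₀ := ⟨_, rfl⟩
  have hwP₁ : w ∈ P₁ := by
    rw [hw]; exact mul_mem (mul_mem (mul_mem (inv_mem hzP₁) (inv_mem hb₀)) hzP₁) hb₀
  have hwc : ∀ u ∈ P₁, u * w = w * u := fun u hu => by
    rw [hw]; exact hcube₁.comm_central hzP₁ hb₀ hu
  have hw1 : w ≠ 1 := by
    intro h1
    apply hb₀z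
    have h2 : b₀ * z * (z⁻¹ * b₀⁻¹ * z * b₀) = z * b₀ := by group
    rw [← hw, h1, mul_one] at h2
    exact h2
  have hxw : x ∈ zpowers w := hcube₁.central_mem_zpowers hwP₁ hw1 hwc hxP₁ hxc₁
  have hxxw : x⁻¹ * x⁻¹ ∈ zpowers w := mul_mem (inv_mem hxw) (inv_mem hxw)
  obtain ⟨k, hk⟩ : ∃ k : ℕ, w ^ k = x⁻¹ * x⁻¹ := by
    have := mem_powers_iff_mem_zpowers.mpr hxxw
    exact (Submonoid.mem_powers_iff _ _).mp this
  have e_b₀z : b₀⁻¹ * z * b₀ = z * w := by rw [hw]; group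
  have hwb₀ : b₀ * w = w * b₀ := hwc b₀ hb₀
  have hpow : ∀ n : ℕ, (b₀ ^ n)⁻¹ * z * b₀ ^ n = z * w ^ n := by
    intro n
    induction n with
    | zero => simp
    | succ n ih =>
      have hcw : Commute b₀ (w ^ n) := (show Commute b₀ w from hwb₀).pow_right n
      calc (b₀ ^ (n + 1))⁻¹ * z * b₀ ^ (n + 1)
          = b₀⁻¹ * ((b₀ ^ n)⁻¹ * z * b₀ ^ n) * b₀ := by
            rw [pow_succ, mul_inv_rev]; simp only [mul_assoc]
        _ = b₀⁻¹ * (z * w ^ n) * b₀ := by rw [ih]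
        _ = (b₀⁻¹ * z * b₀) * (b₀⁻¹ * (w ^ n * b₀)) := by group
        _ = (z * w) * (b₀⁻¹ * (b₀ * w ^ n)) := by rw [e_b₀z, hcw.eq]
        _ = z * w ^ (n + 1) := by rw [pow_succ']; group
  obtain ⟨b, hb⟩ : ∃ b, b = b₀ ^ k := ⟨_, rfl⟩
  have hbP₁ : b ∈ P₁ := by rw [hb]; exact pow_mem hb₀ k
  have e_bz : b⁻¹ * z * b = z * x⁻¹ * x⁻¹ := by rw [hb, hpow k, hk, mul_assoc]
  have e_bx : b⁻¹ * x * b = x := by
    have := hP₁C b hbP₁
    calc b⁻¹ * x * b = b⁻¹ * (x * b) := by group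
      _ = b⁻¹ * (b * x) := by rw [this]
      _ = x := by group
  have hxx1 : x⁻¹ * x⁻¹ ≠ 1 := by
    intro h1
    apply hx1
    apply eq_one_of_inv_eq hp.out hp2 (hexp x hx)
    have h2 : x⁻¹ = (x⁻¹)⁻¹ := eq_inv_of_mul_eq_one_left h1
    rw [inv_inv] at h2; exact h2.symm
  have hb1 : b ≠ 1 := by
    intro h1
    rw [h1] at e_bz
    apply hxx1
    have h3 : z * 1 = z * (x⁻¹ * x⁻¹) := by
      rw [mul_one, ← mul_assoc, ← e_bz]; simp
    exact (mul_left_cancel h3).symm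
  have ob : orderOf b = p := orderOf_eq_prime (hcube₁.2.1 b hbP₁) hb1
  have hbnx : b ∉ zpowers x := by
    intro hmem
    obtain ⟨j, hj⟩ := mem_zpowers_iff.mp hmem
    have hc : Commute x z := e_xz
    have hbz' : b * z = z * b := by rw [← hj]; exact (hc.zpow_left j).eq
    apply hxx1
    have h2 : b⁻¹ * z * b = z := by
      calc b⁻¹ * z * b = b⁻¹ * (z * b) := by group
        _ = b⁻¹ * (b * z) := by rw [hbz']
        _ = z := by group
    rw [h2] at e_bz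
    have h3 : z * 1 = z * (x⁻¹ * x⁻¹) := by rw [mul_one, ← mul_assoc]; exact e_bz
    exact (mul_left_cancel h3).symm
  exact ⟨x, z, a, b, ⟨e_xz, e_ax, e_az, e_bz, e_bx, ox, oz, oa, ob, hxnz, hanz, hbnx⟩⟩

end Cfsg.Agent.Lib.Helper15.IsoSub
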