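import Mathlib
import Cfsg.Agent.Lib.Helper15.IsoSubF
import Cfsg.Agent.S0215

/-!
# The extraspecial case: the `2`-local contradiction
-/

set_option autoImplicit false
set_option linter.unusedSectionVars false
set_option linter.style.haveILetI false

namespace Cfsg.Agent.Lib.Helper15.IsoSub

open Subgroup

theorem q8_pow_four : ∀ q : QuaternionGroup 2, q ^ 4 = 1 := by decide

theorem q8_sq_eq_one : ∀ q : QuaternionGroup 2, q ^ 2 = 1 → q = 1 ∨ q = QuaternionGroup.a 2 := by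
  decide

theorem eq_one_of_pow_prime_of_two_group {T : Type*} [Group T] (hT : IsPGroup 2 T) {p : ℕ}
    (hp : p.Prime) (hp2 : p ≠ 2) {u : T} (hu : u ^ p = 1) : u = 1 := by
  obtain ⟨k, hk⟩ := hT u
  have h1 : orderOf u ∣ Nat.gcd p (2 ^ k) :=
    Nat.dvd_gcd (orderOf_dvd_of_pow_eq_one hu) (orderOf_dvd_of_pow_eq_one hk)
  have hcop : Nat.Coprime p (2 ^ k) :=
    Nat.Coprime.pow_right k ((Nat.coprime_primes hp Nat.prime_two).mpr hp2)
  rw [Nat.Coprime] at hcop
  rw [hcop, Nat.dvd_one] at h1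
  exact orderOf_eq_one_iff.mp h1

variable {G : Type*} [Group G]

theorem mem_of_sq_mem (N : Subgroup G) {p : ℕ} (hp : p.Prime) (hp2 : p ≠ 2) {x : G}
    (hxp : x ^ p = 1) (h : x * x ∈ N) : x ∈ N := by
  obtain ⟨j, hj⟩ := hp.odd_of_ne_two hp2
  have h1 : (x * x) ^ (j + 1) = x := by
    rw [← sq, ← pow_mul]
    have : 2 * (j + 1) = p + 1 := by omega
    rw [this, pow_succ, hxp, one_mul]
  rw [← h1]
  exact pow_mem h _

theorem conj_le_normal (N : Subgroup G) [hN : N.Normal] {E E' : Subgroup G} (hE : E ≤ N) (g : G)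
    (h : E' = E.map (MulAut.conj g).toMonoidHom) : E' ≤ N := by
  rw [h]
  rintro _ ⟨e, he, rfl⟩
  exact hN.conj_mem e (hE he) g

variable [Finite G] {p : ℕ} [hp : Fact p.Prime]

theorem Config.x_ne_inv {x z a b : G} (hc : Config p x z a b) (hp2 : p ≠ 2) : x ≠ x⁻¹ := by
  intro h3
  have hxp : x ^ p = 1 := by rw [← hc.ox]; exact pow_orderOf_eq_one x
  have hx1 : x = 1 := eq_one_of_inv_eq hp.out hp2 hxp h3
  have := hc.ox
  rw [hx1, orderOf_one] at this
  exact hp.out.one_lt.ne this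

theorem Config.odd_false {x z a b : G} (hc : Config p x z a b) (hp2 : p ≠ 2)
    (hodd : Odd (orderOf (a * b))) : False := by
  have hinv := (sq_inverts hc.hxz hc.hax hc.haz hc.hbz hc.hbx).1
  have h1 := odd_pow_inverts hinv hodd
  have h2 : ((a * b) ^ 2) ^ orderOf (a * b) = 1 := by
    rw [← pow_mul, mul_comm, pow_mul, pow_orderOf_eq_one, one_pow]
  rw [h2] at h1
  apply hc.x_ne_inv hp2
  simpa using h1

theorem Config.mem_normal
    (hD : ∀ H K : Subgroup G, IsPGroup p H → IsPGroup p K → Nat.card H = Nat.card K →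
      ∃ g : G, K = H.map (MulAut.conj g).toMonoidHom)
    {x z a b : G} (hc : Config p x z a b) (N : Subgroup G) [hN : N.Normal]
    (hxN : x ∈ N) (hzN : z ∈ N) : a ∈ N ∧ b ∈ N := by
  have hEN : zpowers x ⊔ zpowers z ≤ N := sup_le (zpowers_le.mpr hxN) (zpowers_le.mpr hzN)
  have hE := card_sup_of_commute hc.ox hc.oz hc.hxz hc.hx
  have hpE : IsPGroup p (zpowers x ⊔ zpowers z : Subgroup G) :=
    IsPGroup.of_card (n := 2) (by rw [hE, sq])
  have haz : a * z = z * a := by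
    have := hc.haz
    calc a * z = a * (a⁻¹ * z * a) := by rw [this]
      _ = z * a := by group
  have hbx : b * x = x * b := by
    have := hc.hbx
    calc b * x = b * (b⁻¹ * x * b) := by rw [this]
      _ = x * b := by group
  have hE' := card_sup_of_commute hc.oa hc.oz haz hc.ha
  have hE'' := card_sup_of_commute hc.ob hc.ox hbx hc.hb
  have hpE' : IsPGroup p (zpowers a ⊔ zpowers z : Subgroup G) :=
    IsPGroup.of_card (n := 2) (by rw [hE', sq])
  have hpE'' : IsPGroup p (zpowers b ⊔ zpowers x : Subgroup G) :=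
    IsPGroup.of_card (n := 2) (by rw [hE'', sq])
  obtain ⟨g₁, hg₁⟩ := hD _ _ hpE hpE' (by rw [hE, hE'])
  obtain ⟨g₂, hg₂⟩ := hD _ _ hpE hpE'' (by rw [hE, hE''])
  exact ⟨conj_le_normal N hEN g₁ hg₁ (mem_sup_left (mem_zpowers a)),
    conj_le_normal N hEN g₂ hg₂ (mem_sup_left (mem_zpowers b))⟩

theorem Config.exists_normal_odd
    (hD : ∀ q, q.Prime → ∀ H K : Subgroup G, IsPGroup q H → IsPGroup q K →
      Nat.card H = Nat.card K → ∃ g : G, K = H.map (MulAut.conj g).toMonoidHom)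
    (hp2 : p ≠ 2) {x z a b : G} (hc : Config p x z a b) (hnodd : ¬ Odd (orderOf (a * b))) :
    ∃ N : Subgroup G, N.Normal ∧ Odd (Nat.card N) ∧ a ∈ N ∧ b ∈ N := by
  classical
  obtain ⟨hcx, hcz⟩ := sq_inverts hc.hxz hc.hax hc.haz hc.hbz hc.hbx
  obtain ⟨g, hg⟩ : ∃ g, g = a * b := ⟨_, rfl⟩
  rw [← hg] at hcx hcz hnodd
  have hn0 : orderOf g ≠ 0 := (orderOf_pos g).ne'
  obtain ⟨e, m, hm, hem⟩ := Nat.exists_eq_two_pow_mul_odd hn0
  obtain ⟨y, hy⟩ : ∃ y, y = g ^ m := ⟨_, rfl⟩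
  have hy2e : y ^ (2 ^ e) = 1 := by
    rw [hy, ← pow_mul, mul_comm, ← hem, pow_orderOf_eq_one]
  obtain ⟨t, ht⟩ : ∃ t, t = y ^ 2 := ⟨_, rfl⟩
  have htc : t = (g ^ 2) ^ m := by rw [ht, hy, ← pow_mul, ← pow_mul, mul_comm]
  have htx : t⁻¹ * x * t = x⁻¹ := by rw [htc]; exact odd_pow_inverts hcx hm
  have htz : t⁻¹ * z * t = z⁻¹ := by rw [htc]; exact odd_pow_inverts hcz hm
  have ht1 : t ≠ 1 := by
    intro h1
    rw [h1] at htx
    apply hc.x_ne_inv hp2
    simpa using htx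
  have hxp : x ^ p = 1 := by rw [← hc.ox]; exact pow_orderOf_eq_one x
  have hzp : z ^ p = 1 := by rw [← hc.oz]; exact pow_orderOf_eq_one z
  have hap : a ^ p = 1 := by rw [← hc.oa]; exact pow_orderOf_eq_one a
  have hbp : b ^ p = 1 := by rw [← hc.ob]; exact pow_orderOf_eq_one b
  have h2y : IsPGroup 2 (zpowers y) := by
    intro u
    refine ⟨e, ?_⟩
    obtain ⟨i, hi⟩ := mem_zpowers_iff.mp u.2
    apply Subtype.ext
    rw [SubgroupClass.coe_pow, OneMemClass.coe_one, ← hi, ← zpow_natCast, ← zpow_mul, mul_comm,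
      zpow_mul, zpow_natCast, hy2e, one_zpow]
  obtain ⟨T, hyT'⟩ := h2y.exists_le_sylow
  have hyT : y ∈ (T : Subgroup G) := hyT' (mem_zpowers y)
  have htT : t ∈ (T : Subgroup G) := by rw [ht]; exact pow_mem hyT 2
  have hI : SameOrderIso (T : Subgroup G) :=
    sameOrderIso_of_conj (hD 2 Nat.prime_two) (T : Subgroup G) T.2
  have h2dvd : 2 ∣ Nat.card G := by
    have h1 : Even (orderOf g) := Nat.not_odd_iff_even.mp hnodd
    exact (even_iff_two_dvd.mp h1).trans (orderOf_dvd_natCard g)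
  rcases classify (p := 2) T.2 hI with hcyc | ⟨_, hexp⟩ | ⟨_, ⟨φ⟩⟩ | ⟨h22, _⟩
  · -- cyclic Sylow `2`-subgroup: normal `2`-complement
    have hmin : (Nat.card G).minFac = 2 := (Nat.minFac_eq_two_iff _).mpr h2dvd
    have hNC := hcyc.normalizer_le_centralizer hmin
    refine ⟨(MonoidHom.transferSylow T hNC).ker, MonoidHom.normal_ker _, ?_, ?_, ?_⟩
    · have := MonoidHom.not_dvd_card_ker_transferSylow T hNC
      rw [← even_iff_two_dvd, Nat.not_even_iff_odd] at this
      exact this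
    · rw [MonoidHom.mem_ker]
      apply eq_one_of_pow_prime_of_two_group T.2 hp.out hp2
      rw [← map_pow, hap, map_one]
    · rw [MonoidHom.mem_ker]
      apply eq_one_of_pow_prime_of_two_group T.2 hp.out hp2
      rw [← map_pow, hbp, map_one]
  · -- exponent `2`: impossible
    exfalso
    apply ht1
    have := hexp ⟨y, hyT⟩
    rw [ht]
    exact congrArg Subtype.val this
  · -- quaternion of order `8`: the `Z*`-theorem
    have hy4 : y ^ 4 = 1 := by
      have h1 := q8_pow_four (φ ⟨y, hyT⟩)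
      rw [← map_pow] at h1
      have h2 : (⟨y, hyT⟩ : (T : Subgroup G)) ^ 4 = 1 := φ.injective (by rw [h1, map_one])
      exact congrArg Subtype.val h2
    have ht2 : t ^ 2 = 1 := by rw [ht, ← pow_mul]; exact hy4
    have hot : orderOf t = 2 := orderOf_eq_prime ht2 ht1
    have huniq : ∀ s : G, ∀ hs : s ∈ (T : Subgroup G), s ^ 2 = 1 → s ≠ 1 →
        φ ⟨s, hs⟩ = QuaternionGroup.a 2 := by
      intro s hs hs2 hs1
      have h1 : (φ ⟨s, hs⟩) ^ 2 = 1 := by
        rw [← map_pow]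
        have : (⟨s, hs⟩ : (T : Subgroup G)) ^ 2 = 1 := Subtype.ext hs2
        rw [this, map_one]
      rcases q8_sq_eq_one _ h1 with h2 | h2
      · exfalso
        apply hs1
        have h3 : (⟨s, hs⟩ : (T : Subgroup G)) = 1 := φ.injective (by rw [h2, map_one])
        exact congrArg Subtype.val h3
      · exact h2
    have hiso : ∀ g' : G, g' * t * g'⁻¹ ∈ T → g' * t * g'⁻¹ = t := by
      intro g' hg'
      have hs2 : (g' * t * g'⁻¹) ^ 2 = 1 := by rw [conj_pow, ht2]; group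
      have hs1 : g' * t * g'⁻¹ ≠ 1 := fun h => ht1 (conj_eq_one_iff.mp h)
      have h1 := huniq _ hg' hs2 hs1
      have h2 := huniq t htT ht2 ht1
      have h3 := φ.injective (h1.trans h2.symm)
      exact congrArg Subtype.val h3
    obtain ⟨N, hN, hNodd, hNcomm⟩ := Cfsg.Agent.S0215.result T t hot htT hiso
    haveI := hN
    have hxxN : x * x ∈ N := by
      have h1 := hNcomm x⁻¹
      have h2 : t * x⁻¹ * t⁻¹ * x⁻¹⁻¹ = x * x := by
        calc t * x⁻¹ * t⁻¹ * x⁻¹⁻¹ = t * (t⁻¹ * x * t) * t⁻¹ * x⁻¹⁻¹ := by rw [htx]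
          _ = x * x := by group
      rwa [h2] at h1
    have hzzN : z * z ∈ N := by
      have h1 := hNcomm z⁻¹
      have h2 : t * z⁻¹ * t⁻¹ * z⁻¹⁻¹ = z * z := by
        calc t * z⁻¹ * t⁻¹ * z⁻¹⁻¹ = t * (t⁻¹ * z * t) * t⁻¹ * z⁻¹⁻¹ := by rw [htz]
          _ = z * z := by group
      rwa [h2] at h1
    have hxN : x ∈ N := mem_of_sq_mem N hp.out hp2 hxp hxxN
    have hzN : z ∈ N := mem_of_sq_mem N hp.out hp2 hzp hzzN
    obtain ⟨haN, hbN⟩ := hc.mem_normal (hD p hp.out) N hxN hzN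
    exact ⟨N, hN, hNodd, haN, hbN⟩
  · exact (h22 rfl).elim

/-- **No nonabelian subgroup of order `p ^ 3` and exponent `p`** (`p` odd) when `p`-subgroups
and `2`-subgroups of equal order are conjugate. -/
theorem cube_false {P : Subgroup G}
    (hD : ∀ q, q.Prime → ∀ H K : Subgroup G, IsPGroup q H → IsPGroup q K →
      Nat.card H = Nat.card K → ∃ g : G, K = H.map (MulAut.conj g).toMonoidHom)
    (hp2 : p ≠ 2) (hP : IsCube p P) : False := by
  obtain ⟨x, z, a, b, hc⟩ := exists_config (hD p hp.out) hp2 hP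
  by_cases hodd : Odd (orderOf (a * b))
  · exact hc.odd_false hp2 hodd
  · obtain ⟨N, hN, hNodd, haN, hbN⟩ := hc.exists_normal_odd hD hp2 hodd
    apply hodd
    have hdvd : orderOf (a * b) ∣ Nat.card N := by
      have := orderOf_dvd_natCard (⟨a * b, N.mul_mem haN hbN⟩ : N)
      rwa [Subgroup.orderOf_mk] at this
    exact Odd.of_dvd_nat hNodd hdvd

end Cfsg.Agent.Lib.Helper15.IsoSub
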