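import Mathlib
import Cfsg.Agent.Lib.Helper76.J1Tools
import Cfsg.Agent.Lib.Helper60.ThompsonTransfer

/-!
# K-S4274-15960: no simple group of order `15960` under `HMin`
-/

set_option autoImplicit false

namespace Cfsg.Agent.Lib.Helper15.J1

open Cfsg.Agent.Lib.Helper76.J1 Subgroup

/-- a subgroup all of whose elements square to one is commutative -/
theorem commute_of_sq_eq_one {G : Type*} [Group G] (S : Subgroup G)
    (h : ∀ s ∈ S, s ^ 2 = 1) : ∀ a ∈ S, ∀ b ∈ S, a * b = b * a := by
  intro a ha b hb
  have h1 : a⁻¹ = a := inv_eq_of_mul_eq_one_right (by rw [← sq]; exact h a ha)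
  have h2 : b⁻¹ = b := inv_eq_of_mul_eq_one_right (by rw [← sq]; exact h b hb)
  have h3 : (a * b)⁻¹ = a * b :=
    inv_eq_of_mul_eq_one_right (by rw [← sq]; exact h (a * b) (S.mul_mem ha hb))
  rw [mul_inv_rev, h1, h2] at h3
  exact h3.symm

/-- the elements of a cyclic group of order four -/
theorem mem_zpowers_four {G : Type*} [Group G] [Finite G] {y m : G} (hy : orderOf y = 4)
    (hm : m ∈ zpowers y) : m = 1 ∨ m = y ∨ m = y ^ 2 ∨ m = y ^ 3 := by
  classical
  rw [mem_zpowers_iff_mem_range_orderOf, hy] at hm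
  simp only [Finset.mem_image, Finset.mem_range] at hm
  obtain ⟨k, hk, rfl⟩ := hm
  interval_cases k
  · left; simp
  · right; left; simp
  · right; right; left; rfl
  · right; right; right; rfl

/-- the unique involution of a cyclic group of order four -/
theorem eq_sq_of_mem_zpowers_four {G : Type*} [Group G] [Finite G] {y m : G} (hy : orderOf y = 4)
    (hm : m ∈ zpowers y) (hm2 : orderOf m = 2) : m = y ^ 2 := by
  have hy4 : y ^ 4 = 1 := by rw [← hy]; exact pow_orderOf_eq_one y
  have hy2 : y ^ 2 ≠ 1 := by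
    intro h
    have := orderOf_dvd_of_pow_eq_one h
    rw [hy] at this
    omega
  rcases mem_zpowers_four hy hm with rfl | rfl | rfl | rfl
  · rw [orderOf_one] at hm2; omega
  · omega
  · rfl
  · exfalso
    have h1 : (y ^ 3) ^ 2 = 1 := by rw [← hm2]; exact pow_orderOf_eq_one _
    apply hy2
    calc y ^ 2 = (y ^ 3) ^ 2 * (y ^ 4)⁻¹ := by group
      _ = 1 := by rw [h1, hy4]; simp

theorem no_simple_15960 {G : Type*} [Group G] [Finite G] [IsSimpleGroup G]
    (hcard : Nat.card G = 15960) (h19 : Nat.card (Sylow 19 G) = 210) (hmin : HMin G) : False := by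
  classical
  have : Fact (Nat.Prime 19) := ⟨by norm_num⟩
  have : Fact (Nat.Prime 2) := ⟨Nat.prime_two⟩
  obtain ⟨P⟩ : Nonempty (Sylow 19 G) := inferInstance
  have hN : ∀ P' : Sylow 19 G,
      Nat.card ↥(normalizer ((P' : Subgroup G) : Set G)) = 76 := by
    intro P'
    rw [card_normalizer_eq_div hcard P', h19]
  have hnprime : ¬ (Nat.card G).Prime := by rw [hcard]; norm_num
  have hncomm : ¬ IsMulCommutative G :=
    Cfsg.Agent.Lib.Helper23.not_isMulCommutative_of_simple hnprime
  -- involutions centralizing a Sylow 19-subgroup have centralizer of order dividing 76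
  have hT : ∀ t : G, orderOf t = 2 →
      (∃ P' : Sylow 19 G, t ∈ centralizer ((P' : Subgroup G) : Set G)) →
      Nat.card ↥(centralizer ({t} : Set G)) ∣ 76 := by
    rintro t ht ⟨P', htP⟩
    have hne : centralizer ({t} : Set G) ≠ ⊤ := by
      intro htop
      have hcen : t ∈ center G := by
        rw [Subgroup.mem_center_iff]
        intro g
        have hg : g ∈ centralizer ({t} : Set G) := by rw [htop]; exact mem_top g
        rw [mem_centralizer_iff] at hg
        exact (hg t rfl).symm
      rcases (inferInstance : (center G).Normal).eq_bot_or_eq_top with h | h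
      · rw [h, mem_bot] at hcen
        rw [hcen, orderOf_one] at ht
        omega
      · apply hncomm
        refine ⟨⟨fun a b => ?_⟩⟩
        have ha : a ∈ center G := by rw [h]; exact mem_top a
        rw [Subgroup.mem_center_iff] at ha
        exact (ha b).symm
    have hle : (P' : Subgroup G) ≤ centralizer ({t} : Set G) := by
      intro x hx
      rw [mem_centralizer_iff]
      intro h hh
      rw [Set.mem_singleton_iff] at hh
      subst hh
      rw [mem_centralizer_iff] at htP
      exact (htP x hx).symm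
    have := Subgroup.card_dvd_of_le (hmin P' _ hne hle)
    rwa [hN P'] at this
  -- `|C(P)| = 38`
  obtain ⟨e, c, he1, he2, hc, hce⟩ :=
    exists_relIndex hcard (p := 19) (by norm_num) (by norm_num) (by norm_num) P
  rw [h19] at hce
  have hce' : c * e = 4 := by
    have h76 : 19 * (c * e) = 19 * 4 := by rw [← mul_assoc]; exact hce
    exact Nat.eq_of_mul_eq_mul_left (by norm_num) h76
  have he4 : e ∣ 4 := Dvd.intro_left c hce'
  have hele : e ≤ 4 := Nat.le_of_dvd (by norm_num) he4
  have hc2 : c = 2 := by
    interval_cases e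
    · omega
    · exact absurd rfl he2
    · omega
    · omega
    · exfalso; revert he1; decide
  have h2C : 2 ∣ Nat.card ↥(centralizer ((P : Subgroup G) : Set G)) := by
    rw [hc, hc2]; norm_num
  obtain ⟨z', hz'⟩ := exists_prime_orderOf_dvd_card' 2 h2C
  set z : G := (z' : G) with hzdef
  have hz2 : orderOf z = 2 := by rw [hzdef, Subgroup.orderOf_coe]; exact hz'
  have hzP : z ∈ centralizer ((P : Subgroup G) : Set G) := z'.2
  have hCz : Nat.card ↥(centralizer ({z} : Set G)) ∣ 76 := hT z hz2 ⟨P, hzP⟩
  -- a Sylow 2-subgroup containing `z`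
  have hpz : IsPGroup 2 ↥(zpowers z) := by
    apply IsPGroup.of_card (n := 1)
    rw [Nat.card_zpowers, hz2, pow_one]
  obtain ⟨S, hzS⟩ := hpz.exists_le_sylow
  have hzS' : z ∈ (S : Subgroup G) := hzS (mem_zpowers z)
  have hS8 : Nat.card ↥(S : Subgroup G) = 8 := by
    have := Cfsg.Agent.Lib.Helper23.sylow_card_of_card_eq 2 3 1995 (by rw [hcard]; norm_num) (by norm_num) S
    simpa using this
  -- no subgroup of order `8` centralizes an involution centralizing a Sylow 19
  have hno8 : ∀ t : G, orderOf t = 2 →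
      (∃ P' : Sylow 19 G, t ∈ centralizer ((P' : Subgroup G) : Set G)) →
      ¬ (∀ s ∈ (S : Subgroup G), s * t = t * s) := by
    intro t ht htP hall
    have hle : (S : Subgroup G) ≤ centralizer ({t} : Set G) := by
      intro s hs
      rw [mem_centralizer_iff]
      intro h hh
      rw [Set.mem_singleton_iff] at hh
      subst hh
      exact (hall s hs).symm
    have h1 := Subgroup.card_dvd_of_le hle
    rw [hS8] at h1
    have h2 := dvd_trans h1 (hT t ht htP)
    omega
  have hnoz := hno8 z hz2 ⟨P, hzP⟩
  -- an element of order four in `S`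
  have hex : ∃ y ∈ (S : Subgroup G), y ^ 2 ≠ 1 := by
    by_contra hcon
    push Not at hcon
    exact hnoz fun s hs => commute_of_sq_eq_one _ hcon s hs z hzS'
  obtain ⟨y, hyS, hy2⟩ := hex
  have hy8 : orderOf y ∣ 8 := by
    rw [← hS8]; exact Subgroup.orderOf_dvd_natCard _ hyS
  have hyle : orderOf y ≤ 8 := Nat.le_of_dvd (by norm_num) hy8
  have hzyS : zpowers y ≤ (S : Subgroup G) := by
    rw [zpowers_le]; exact hyS
  have hy4 : orderOf y = 4 := by
    have hpos : 0 < orderOf y := orderOf_pos y
    have hn2 : ¬ orderOf y ∣ 2 := fun h => hy2 (orderOf_dvd_iff_pow_eq_one.mp h)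
    interval_cases hoy : orderOf y
    · exact absurd (one_dvd 2) hn2
    · exact absurd (dvd_refl 2) hn2
    · omega
    · rfl
    · omega
    · omega
    · omega
    · -- cyclic of order eight
      exfalso
      have heq : zpowers y = (S : Subgroup G) := by
        apply Subgroup.eq_of_le_of_card_ge hzyS
        rw [hS8, Nat.card_zpowers, hoy]
      apply hnoz
      intro s hs
      rw [← heq] at hs hzS'
      obtain ⟨i, rfl⟩ := mem_zpowers_iff.mp hs
      obtain ⟨j, hj⟩ := mem_zpowers_iff.mp hzS'
      rw [← hj]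
      exact ((Commute.refl y).zpow_zpow i j).eq
  set M : Subgroup G := zpowers y with hMdef
  have hM4 : Nat.card ↥M = 4 := by rw [hMdef, Nat.card_zpowers, hy4]
  have hM : M.relIndex (S : Subgroup G) = 2 := by
    have h1 := (M.subgroupOf (S : Subgroup G)).card_mul_index
    rw [Nat.card_congr (Subgroup.subgroupOfEquivOfLe hzyS).toEquiv, hM4, hS8] at h1
    rw [Subgroup.relIndex]
    omega
  set w : G := y ^ 2 with hwdef
  have hw2 : orderOf w = 2 := by
    rw [hwdef, orderOf_pow' y (by norm_num), hy4]
    norm_num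
  have hwM : w ∈ M := Subgroup.pow_mem _ (mem_zpowers y) 2
  -- `S` centralizes `w`
  have hnormal : (M.subgroupOf (S : Subgroup G)).Normal :=
    Subgroup.normal_of_index_eq_two hM
  have hSw : ∀ s ∈ (S : Subgroup G), s * w = w * s := by
    intro s hs
    have hconj : s * w * s⁻¹ ∈ M := by
      have := hnormal.conj_mem ⟨w, hzyS hwM⟩ (by rw [Subgroup.mem_subgroupOf]; exact hwM) ⟨s, hs⟩
      rw [Subgroup.mem_subgroupOf] at this
      simpa using this
    have hord : orderOf (s * w * s⁻¹) = 2 := by
      have := (MulAut.conj s).orderOf_eq w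
      rw [MulAut.conj_apply] at this
      rw [this, hw2]
    have := eq_sq_of_mem_zpowers_four hy4 hconj hord
    rw [← hwdef] at this
    calc s * w = s * w * s⁻¹ * s := by group
      _ = w * s := by rw [this]
  -- no conjugate of `z` lies in `M`
  have hnc : ∀ g : G, g * z * g⁻¹ ∉ M := by
    intro g hg
    have hord : orderOf (g * z * g⁻¹) = 2 := by
      have := (MulAut.conj g).orderOf_eq z
      rw [MulAut.conj_apply] at this
      rw [this, hz2]
    have heq := eq_sq_of_mem_zpowers_four hy4 hg hord
    rw [← hwdef] at heq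
    apply hno8 w hw2 ?_ hSw
    refine ⟨g • P, ?_⟩
    rw [mem_centralizer_iff]
    intro h hh
    have hh' : h ∈ ((g • P : Sylow 19 G) : Subgroup G) := hh
    rw [Sylow.coe_subgroup_smul, Subgroup.mem_pointwise_smul_iff_inv_smul_mem] at hh'
    rw [MulAut.smul_def, MulAut.conj_inv_apply] at hh'
    rw [mem_centralizer_iff] at hzP
    have h1 := hzP _ hh'
    rw [← heq]
    calc h * (g * z * g⁻¹) = g * ((g⁻¹ * h * g) * z) * g⁻¹ := by group
      _ = g * (z * (g⁻¹ * h * g)) * g⁻¹ := by rw [h1]
      _ = g * z * g⁻¹ * h := by group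
  have hord : ∀ y' ∈ (S : Subgroup G), y' ∉ M → 2 ^ (1 - 1) < orderOf y' := by
    intro y' _ hy'
    have hne : y' ≠ 1 := by
      rintro rfl
      exact hy' (one_mem _)
    have h1 : orderOf y' ≠ 1 := by
      intro h
      exact hne (orderOf_eq_one_iff.mp h)
    have h0 : 0 < orderOf y' := orderOf_pos y'
    simp only [Nat.sub_self, pow_zero]
    omega
  obtain ⟨N, hNn, hNi, _⟩ := Cfsg.Agent.Lib.Helper60.thompson_transfer_general S M hM 1 le_rfl hord z
    (by rw [hz2, pow_one]) hnc
  rcases hNn.eq_bot_or_eq_top with h | h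
  · rw [h, Subgroup.index_bot, hcard] at hNi
    omega
  · rw [h, Subgroup.index_top] at hNi
    omega

end Cfsg.Agent.Lib.Helper15.J1
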