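import Cfsg.Agent.Lib.Helper15.MC3806Leaves

set_option autoImplicit false

namespace Cfsg.Agent.Lib.Helper15.MC3806

open Subgroup
open scoped commutatorElement

/-- 0-indexed lower central series of the whole group. -/
abbrev LL (G : Type*) [Group G] (i : ℕ) : Subgroup G := (⊤ : Subgroup G).lowerCentralSeries i

theorem LL_anti (G : Type*) [Group G] {i j : ℕ} (h : i ≤ j) : LL G j ≤ LL G i :=
  Subgroup.lowerCentralSeries_antitone _ h

theorem comm_mem_LL_succ {G : Type*} [Group G] {j : ℕ} {b : G} (hb : b ∈ LL G j) (s : G) :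
    b * s * b⁻¹ * s⁻¹ ∈ LL G (j + 1) :=
  Subgroup.commutator_mem_commutator hb (Subgroup.mem_top s)

theorem iter_mem {G : Type*} [Group G] (s : G) :
    ∀ (m j : ℕ) (x : G), x ∈ LL G j →
      (fun y : G => s⁻¹ * y * s * y⁻¹)^[m] x ∈ LL G (j + m) := by
  intro m
  induction m with
  | zero => intro j x hx; simpa using hx
  | succ m ih =>
    intro j x hx
    rw [Function.iterate_succ_apply]
    have h1 : s⁻¹ * x * s * x⁻¹ ∈ LL G (j + 1) := by
      have h2 : ⁅s⁻¹, x⁆ ∈ ⁅(⊤ : Subgroup G), LL G j⁆ :=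
        Subgroup.commutator_mem_commutator (Subgroup.mem_top _) hx
      rw [Subgroup.commutator_comm] at h2
      have h3 : ⁅s⁻¹, x⁆ = s⁻¹ * x * s * x⁻¹ := by
        rw [commutatorElement_def, inv_inv]
      rw [← h3]
      exact h2
    have := ih (j + 1) _ h1
    rwa [show j + 1 + m = j + (m + 1) by ring] at this

/-- **Theorem A**: in a `p`-group `Q` of maximal class of order `p^(2r+3)` with `p ≥ r+3`,
`γ_{r+1}(Q) = LL Q r` is abelian of exponent `p`. -/
theorem theoremA {Q : Type*} [Group Q] [Finite Q] (p : ℕ) [hp : Fact p.Prime] (hQ : IsPGroup p Q)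
    (r : ℕ) (hr : 1 ≤ r) (hpr : r + 3 ≤ p) (hcardQ : Nat.card Q = p ^ (2 * r + 3))
    (hcard : ∀ i, 1 ≤ i → i ≤ 2 * r + 2 → Nat.card (LL Q i) = p ^ (2 * r + 2 - i)) :
    (∀ a ∈ LL Q r, ∀ b ∈ LL Q r, a * b = b * a) ∧ ∀ x ∈ LL Q r, x ^ p = 1 := by
  obtain ⟨t, rfl⟩ : ∃ t, r = t + 1 := ⟨r - 1, by omega⟩
  have hp1 : 1 < p := hp.out.one_lt
  have hbot : LL Q (2 * (t + 1) + 2) = ⊥ := by
    have h := hcard (2 * (t + 1) + 2) (by omega) le_rfl
    rw [Nat.sub_self, pow_zero] at h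
    exact Subgroup.card_eq_one.mp h
  have hidx : ∀ i, 1 ≤ i → i + 1 ≤ 2 * (t + 1) + 2 →
      Nat.card (LL Q i) = p * Nat.card (LL Q (i + 1)) := by
    intro i h1 h2
    rw [hcard i h1 (by omega), hcard (i + 1) (by omega) h2, ← pow_succ']
    congr 1; omega
  -- commutativity of `LL Q (t+1)`
  have hcomm : ∀ a ∈ LL Q (t + 1), ∀ b ∈ LL Q (t + 1), a * b = b * a := by
    apply comm_of_index_prime_central p hp.out (LL Q (t + 1)) (LL Q (t + 1 + 1))
      (LL_anti Q (Nat.le_succ _)) (hidx (t + 1) (by omega) (by omega))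
    intro a ha b hb
    have h := lcs_comm_le (G := Q) (t + 1) (t + 1 + 1)
    have h2 : ⁅a, b⁆ ∈ LL Q (t + 1 + (t + 1 + 1) + 1) :=
      h (Subgroup.commutator_mem_commutator ha hb)
    rw [show t + 1 + (t + 1 + 1) + 1 = 2 * (t + 1) + 2 by ring, hbot, Subgroup.mem_bot] at h2
    exact commutatorElement_eq_one_iff_mul_comm.mp h2
  refine ⟨hcomm, ?_⟩
  -- choice of `s`
  have hne : ∀ i < t + 1 + 2, ¬ LL Q (i + 1) ≤ LL Q (i + 2) := by
    intro i hi hle
    have h1 := Subgroup.card_le_of_le hle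
    rw [hcard (i + 1) (by omega) (by omega), hcard (i + 2) (by omega) (by omega)] at h1
    have := (Nat.pow_le_pow_iff_right hp1).mp h1
    omega
  obtain ⟨s, hs⟩ := exists_avoid p hQ (t + 1 + 2) (by omega) hne
  -- `s^p` is deep
  have hsp1 : s ^ p ∈ LL Q 1 := by
    apply pow_mem_commutator p hQ
    · rw [hcardQ, hcard 1 le_rfl (by omega), ← pow_add]
      congr 1; omega
    · intro h0
      have h1 := hcard 1 le_rfl (by omega)
      have h0' : LL Q 1 = ⊥ := h0
      rw [h0', Subgroup.card_bot] at h1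
      have h2 : 1 < p ^ (2 * (t + 1) + 2 - 1) := Nat.one_lt_pow (by omega) hp1
      omega
  have hsp : ∀ j, 1 ≤ j → j ≤ t + 1 + 2 → s ^ p ∈ LL Q j := by
    intro j hj
    induction j, hj using Nat.le_induction with
    | base => intro _; exact hsp1
    | succ j hj ih =>
      intro hj2
      refine mem_of_commutator_mem p hp.out (LL Q j) (LL Q (j + 1)) (LL Q (j + 2))
        (LL_anti Q (Nat.le_succ _)) (hidx j hj (by omega)) s ?_ (hs j (by omega)) (s ^ p)
        (ih (by omega)) ?_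
      · intro b hb
        exact comm_mem_LL_succ hb s
      · have : s ^ p * s * (s ^ p)⁻¹ * s⁻¹ = 1 := by
          have e : s ^ p * s = s * s ^ p := (pow_mul_comm' s p)
          rw [e, mul_assoc s, mul_inv_cancel, mul_one, mul_inv_cancel]
        rw [this]; exact one_mem _
  -- the element `x0`
  have hs' := hs t (by omega)
  push Not at hs'
  obtain ⟨y, hy, hyc⟩ := hs'
  set c : Q := y * s * y⁻¹ * s⁻¹ with hc
  have hcr : c ∈ LL Q (t + 1) := comm_mem_LL_succ hy s
  have hx0r : s⁻¹ * c * s ∈ LL Q (t + 1) := by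
    have := (inferInstance : (LL Q (t + 1)).Normal).conj_mem c hcr s⁻¹
    rwa [inv_inv] at this
  have hx0' : s⁻¹ * c * s ∉ LL Q (t + 1 + 1) := by
    intro h
    have := (inferInstance : (LL Q (t + 1 + 1)).Normal).conj_mem _ h s
    apply hyc
    have e : s * (s⁻¹ * c * s) * s⁻¹ = c := by group
    rw [e] at this
    exact this
  have hx0pow : (s * (s⁻¹ * c * s)) ^ p = s ^ p := by
    have e : s * (s⁻¹ * c * s) = y * s * y⁻¹ := by rw [hc]; group
    rw [e, conj_pow]
    have h := lcs_comm_le (G := Q) (t + 1 + 2) t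
    have h2 : ⁅s ^ p, y⁆ ∈ LL Q (t + 1 + 2 + t + 1) :=
      h (Subgroup.commutator_mem_commutator (hsp (t + 1 + 2) (by omega) le_rfl) hy)
    rw [show t + 1 + 2 + t + 1 = 2 * (t + 1) + 2 by ring, hbot, Subgroup.mem_bot] at h2
    have h3 : s ^ p * y = y * s ^ p := commutatorElement_eq_one_iff_mul_comm.mp h2
    rw [← h3, mul_assoc, mul_inv_cancel, mul_one]
  have hd : ∀ x ∈ LL Q (t + 1), (fun y : Q => s⁻¹ * y * s * y⁻¹)^[p - 1] x = 1 := by
    intro x hx
    have h1 := iter_mem s (p - 1) (t + 1) x hx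
    have h2 : LL Q (t + 1 + (p - 1)) ≤ LL Q (2 * (t + 1) + 2) := LL_anti Q (by omega)
    have h3 := h2 h1
    rwa [hbot, Subgroup.mem_bot] at h3
  have hx0p : (s⁻¹ * c * s) ^ p = 1 :=
    pow_eq_one_of_mul_pow_eq p hp.out (LL Q (t + 1)) hcomm s hd _ hx0r hx0pow
  -- the normal subgroup `P`
  let P : Subgroup Q :=
    { carrier := {x | x ∈ LL Q (t + 1) ∧ x ^ p = 1}
      mul_mem' := by
        rintro a b ⟨ha, ha'⟩ ⟨hb, hb'⟩
        refine ⟨mul_mem ha hb, ?_⟩
        have hc' : Commute a b := hcomm a ha b hb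
        rw [hc'.mul_pow, ha', hb', one_mul]
      one_mem' := ⟨one_mem _, one_pow _⟩
      inv_mem' := by
        rintro a ⟨ha, ha'⟩
        exact ⟨inv_mem ha, by rw [inv_pow, ha', inv_one]⟩ }
  have hPn : P.Normal := by
    refine ⟨?_⟩
    rintro x ⟨hx, hx'⟩ g
    refine ⟨(inferInstance : (LL Q (t + 1)).Normal).conj_mem x hx g, ?_⟩
    rw [conj_pow, hx', mul_one, mul_inv_cancel]
  have hle : LL Q (t + 1) ≤ P :=
    lcs_le_of_normal_of_mem p hp.out (t + 1) (2 * (t + 1) + 2) hbot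
      (hidx (t + 1) (by omega) (by omega)) P (s⁻¹ * c * s) ⟨hx0r, hx0p⟩ hx0r hx0'
  intro x hx
  exact (hle hx).2

end Cfsg.Agent.Lib.Helper15.MC3806
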