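import Cfsg.Agent.Lib.Helper96.MC3806A
import Cfsg.Agent.Lib.Helper39.MC3806B
import Cfsg.Agent.Lib.Helper89.MC3806C
import Cfsg.Agent.Lib.Helper47.MC3806D
import Cfsg.Agent.Lib.Helper07.MC3806E
import Cfsg.Agent.Lib.Helper23.MC3806G
import Cfsg.Agent.Lib.Helper68.MC3806H
import Cfsg.Agent.Lib.Helper08.MC3806I
import Cfsg.Agent.Lib.Helper73.MC3806F

set_option autoImplicit false

namespace Cfsg.Agent.Lib.Helper15.MC3806

open Subgroup

/-- LEAF A (general, three subgroups lemma): `[γ_i, γ_j] ≤ γ_{i+j}` (0-indexed: `i + j + 1`). -/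
theorem lcs_comm_le {G : Type*} [Group G] (i j : ℕ) :
    ⁅(⊤ : Subgroup G).lowerCentralSeries i, (⊤ : Subgroup G).lowerCentralSeries j⁆ ≤
      (⊤ : Subgroup G).lowerCentralSeries (i + j + 1) :=
  Cfsg.Agent.Lib.Helper96.MC3806.lcs_comm_le i j

/-- LEAF B (norm identity): `T` abelian normal, `s ∈ G`, `δ y = s⁻¹ y s y⁻¹` nilpotent of index `< p` on `T`.
If `(s x)^p = s^p` then `x^p = 1`.  (`(s x)^p = s^p · N(x)`, `N = ∑_{i<p} σ^i = ∑_j C(p,j+1) δ^j`,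
downward induction on `j` shows `p • δ^j x = 0` on `ker N`.) -/
theorem pow_eq_one_of_mul_pow_eq {G : Type*} [Group G] (p : ℕ) (hp : p.Prime) (T : Subgroup G) [T.Normal]
    (hT : ∀ a ∈ T, ∀ b ∈ T, a * b = b * a) (s : G)
    (hd : ∀ x ∈ T, (fun y : G => s⁻¹ * y * s * y⁻¹)^[p - 1] x = 1)
    (x : G) (hx : x ∈ T) (h : (s * x) ^ p = s ^ p) : x ^ p = 1 :=
  Cfsg.Agent.Lib.Helper39.MC3806.pow_eq_one_of_mul_pow_eq p hp T hT s hd x hx h

/-- LEAF C (one step down): `B ≤ A` of index `p`, `s` centralises `B` mod `N` but not `A` mod `N`;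
then every `c ∈ A` commuting with `s` mod `N` lies in `B`. -/
theorem mem_of_commutator_mem {G : Type*} [Group G] [Finite G] (p : ℕ) (hp : p.Prime)
    (A B N : Subgroup G) [N.Normal] (hBA : B ≤ A) (hcard : Nat.card A = p * Nat.card B) (s : G)
    (hB : ∀ b ∈ B, b * s * b⁻¹ * s⁻¹ ∈ N) (hs : ¬ ∀ a ∈ A, a * s * a⁻¹ * s⁻¹ ∈ N) (c : G) (hc : c ∈ A)
    (hcs : c * s * c⁻¹ * s⁻¹ ∈ N) :
    c ∈ B :=
  Cfsg.Agent.Lib.Helper89.MC3806.mem_of_commutator_mem p hp A B N hBA hcard s hB hs c hc hcs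

/-- LEAF D (avoiding `m < p` two-step centralisers in a `p`-group). -/
theorem exists_avoid {G : Type*} [Group G] [Finite G] (p : ℕ) [Fact p.Prime] (hG : IsPGroup p G)
    (m : ℕ) (hm : m < p)
    (hne : ∀ i < m, ¬ (⊤ : Subgroup G).lowerCentralSeries (i + 1) ≤
      (⊤ : Subgroup G).lowerCentralSeries (i + 2)) :
    ∃ s : G, ∀ i < m, ¬ ∀ a ∈ (⊤ : Subgroup G).lowerCentralSeries i,
      a * s * a⁻¹ * s⁻¹ ∈ (⊤ : Subgroup G).lowerCentralSeries (i + 2) :=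
  Cfsg.Agent.Lib.Helper47.MC3806.exists_avoid p hG m hm hne

/-- LEAF E (a normal subgroup containing an element of `γ_r ∖ γ_{r+1}` contains `γ_r`). -/
theorem lcs_le_of_normal_of_mem {G : Type*} [Group G] [Finite G] (p : ℕ) (hp : p.Prime) (r M : ℕ)
    (hM : (⊤ : Subgroup G).lowerCentralSeries M = ⊥)
    (hidx : Nat.card ((⊤ : Subgroup G).lowerCentralSeries r) =
      p * Nat.card ((⊤ : Subgroup G).lowerCentralSeries (r + 1)))
    (P : Subgroup G) [P.Normal] (x0 : G) (hx0 : x0 ∈ P)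
    (hx0r : x0 ∈ (⊤ : Subgroup G).lowerCentralSeries r)
    (hx0' : x0 ∉ (⊤ : Subgroup G).lowerCentralSeries (r + 1)) :
    (⊤ : Subgroup G).lowerCentralSeries r ≤ P :=
  Cfsg.Agent.Lib.Helper07.MC3806.lcs_le_of_normal_of_mem p hp r M hM hidx P x0 hx0 hx0r hx0'

/-- LEAF F (orders of the lower central terms in a `p`-group of maximal class). -/
theorem maxclass_card {S : Type*} [Group S] [Finite S] (p : ℕ) [Fact p.Prime] (hS : IsPGroup p S)
    [Group.IsNilpotent S] (n : ℕ) (hn : 3 ≤ n) (hcard : Nat.card S = p ^ n)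
    (hmax : Group.nilpotencyClass S = n - 1) :
    ∀ i, 1 ≤ i → i ≤ n - 1 →
      Nat.card ((⊤ : Subgroup S).lowerCentralSeries i) = p ^ (n - 1 - i) :=
  Cfsg.Agent.Lib.Helper73.MC3806.maxclass_card p hS n hn hcard hmax

/-- LEAF G (`G/G'` of order `p²`, `G` nonabelian `p`-group ⟹ `G/G'` elementary abelian). -/
theorem pow_mem_commutator {G : Type*} [Group G] [Finite G] (p : ℕ) [Fact p.Prime] (hG : IsPGroup p G)
    (h2 : Nat.card G = p ^ 2 * Nat.card ((⊤ : Subgroup G).lowerCentralSeries 1))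
    (hne : (⊤ : Subgroup G).lowerCentralSeries 1 ≠ ⊥) (x : G) :
    x ^ p ∈ (⊤ : Subgroup G).lowerCentralSeries 1 :=
  Cfsg.Agent.Lib.Helper23.MC3806.pow_mem_commutator p hG h2 hne x

/-- LEAF H (`B ≤ Z(A)`, `|A : B| = p` ⟹ `A` abelian). -/
theorem comm_of_index_prime_central {G : Type*} [Group G] [Finite G] (p : ℕ) (hp : p.Prime)
    (A B : Subgroup G) (hBA : B ≤ A) (hcard : Nat.card A = p * Nat.card B)
    (hc : ∀ a ∈ A, ∀ b ∈ B, a * b = b * a) : ∀ a ∈ A, ∀ b ∈ A, a * b = b * a :=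
  Cfsg.Agent.Lib.Helper68.MC3806.comm_of_index_prime_central p hp A B hBA hcard hc

/-- LEAF I (an elementary abelian section `H/N` has order at most `p^k`). -/
theorem card_le_of_sectional {S : Type*} [Group S] [Finite S] (p k : ℕ)
    (hsr : Cfsg.SectionalPRankLE p k S) (H N : Subgroup S) [N.Normal] (hNH : N ≤ H)
    (hcomm : ∀ a ∈ H, ∀ b ∈ H, a * b * a⁻¹ * b⁻¹ ∈ N) (hexp : ∀ a ∈ H, a ^ p ∈ N) :
    Nat.card H ≤ p ^ k * Nat.card N :=
  Cfsg.Agent.Lib.Helper08.MC3806.card_le_of_sectional p k hsr H N hNH hcomm hexp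

end Cfsg.Agent.Lib.Helper15.MC3806
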