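import Cfsg.Agent.Lib.Helper15.MC3806Glue

set_option autoImplicit false

namespace Cfsg.Agent.Lib.Helper15.MC3806

open Subgroup
open scoped commutatorElement

theorem LL_map_mk {S : Type*} [Group S] (N : Subgroup S) [N.Normal] (i : ℕ) :
    (LL S i).map (QuotientGroup.mk' N) = LL (S ⧸ N) i := by
  unfold LL
  rw [Subgroup.map_lowerCentralSeries,
    Subgroup.map_top_of_surjective _ (QuotientGroup.mk'_surjective N)]

theorem s3806_core {S : Type*} [Group S] [Finite S] (p : ℕ) [hp : Fact p.Prime] (hS : IsPGroup p S)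
    [Group.IsNilpotent S] (n : ℕ) (hcard : Nat.card S = p ^ n)
    (hmax : Group.nilpotencyClass S = n - 1) (k : ℕ) (hk : 1 ≤ k)
    (hsr : Cfsg.SectionalPRankLE p k S) (hpk : k + 2 ≤ p) : Nat.card S ≤ p ^ (2 * k) := by
  have hp1 : 1 < p := hp.out.one_lt
  by_contra hcon
  rw [hcard, not_le] at hcon
  have hn : 2 * k < n := (Nat.pow_lt_pow_iff_right hp1).mp hcon
  have hF := maxclass_card p hS n (by omega) hcard hmax
  rcases Nat.lt_or_ge k 2 with hk2 | hk2
  · -- k = 1
    obtain rfl : k = 1 := by omega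
    have h1 := hF 1 le_rfl (by omega)
    have hne : LL S 1 ≠ ⊥ := by
      intro h0
      rw [show (⊤ : Subgroup S).lowerCentralSeries 1 = LL S 1 from rfl, h0, Subgroup.card_bot] at h1
      have h2 : 1 < p ^ (n - 1 - 1) := Nat.one_lt_pow (by omega) hp1
      omega
    have h2 : Nat.card S = p ^ 2 * Nat.card (LL S 1) := by
      rw [hcard, show Nat.card (LL S 1) = p ^ (n - 1 - 1) from h1, ← pow_add]
      congr 1; omega
    have h3 := card_le_of_sectional p 1 hsr ⊤ (LL S 1) le_top
      (fun a _ b _ => comm_mem_LL_succ (G := S) (j := 0) (Subgroup.mem_top a) b)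
      (fun a _ => pow_mem_commutator p hS h2 hne a)
    rw [Subgroup.card_top, hcard, show Nat.card (LL S 1) = p ^ (n - 1 - 1) from h1, ← pow_add] at h3
    have := (Nat.pow_le_pow_iff_right hp1).mp h3
    omega
  · -- k ≥ 2
    obtain ⟨t, rfl⟩ : ∃ t, k = t + 2 := ⟨k - 2, by omega⟩
    set N : Subgroup S := LL S (2 * (t + 1) + 2) with hN
    have hNcard : Nat.card N = p ^ (n - 1 - (2 * (t + 1) + 2)) := hF (2 * (t + 1) + 2) (by omega) (by omega)
    have hQ : IsPGroup p (S ⧸ N) := hS.to_quotient N
    have hcardQ : Nat.card (S ⧸ N) = p ^ (2 * (t + 1) + 3) := by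
      have h1 := Subgroup.card_eq_card_quotient_mul_card_subgroup N
      rw [hcard, hNcard] at h1
      have h2 : p ^ n = p ^ (2 * (t + 1) + 3) * p ^ (n - 1 - (2 * (t + 1) + 2)) := by
        rw [← pow_add]; congr 1; omega
      rw [h2] at h1
      exact (Nat.eq_of_mul_eq_mul_right (pow_pos (by omega) _) h1).symm
    -- cards of `LL (S ⧸ N) i`
    have hcardL : ∀ i, 1 ≤ i → i ≤ 2 * (t + 1) + 2 →
        Nat.card (LL (S ⧸ N) i) = p ^ (2 * (t + 1) + 2 - i) := by
      intro i hi1 hi2
      rw [← LL_map_mk N i]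
      have hker : (QuotientGroup.mk' N).ker ≤ LL S i := by
        rw [QuotientGroup.ker_mk']
        exact LL_anti S hi2
      have hidx := Subgroup.index_map_eq (LL S i) (QuotientGroup.mk'_surjective N) hker
      have h1 := Subgroup.card_mul_index (LL S i)
      have h2 := Subgroup.card_mul_index ((LL S i).map (QuotientGroup.mk' N))
      rw [hidx] at h2
      rw [hcardQ] at h2
      rw [hcard, show Nat.card (LL S i) = p ^ (n - 1 - i) from hF i hi1 (by omega)] at h1
      -- index = p^(i+1)
      have h3 : (LL S i).index = p ^ (i + 1) := by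
        have h4 : p ^ n = p ^ (n - 1 - i) * p ^ (i + 1) := by
          rw [← pow_add]; congr 1; omega
        rw [h4] at h1
        exact Nat.eq_of_mul_eq_mul_left (pow_pos (by omega) _) h1
      rw [h3] at h2
      have h5 : p ^ (2 * (t + 1) + 3) = p ^ (2 * (t + 1) + 2 - i) * p ^ (i + 1) := by
        rw [← pow_add]; congr 1; omega
      rw [h5] at h2
      exact Nat.eq_of_mul_eq_mul_right (pow_pos (by omega) _) h2
    obtain ⟨hcommQ, hexpQ⟩ := theoremA p hQ (t + 1) (by omega) (by omega) hcardQ hcardL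
    have hmemQ : ∀ a ∈ LL S (t + 1), (QuotientGroup.mk' N a) ∈ LL (S ⧸ N) (t + 1) := by
      intro a ha
      rw [← LL_map_mk N (t + 1)]
      exact Subgroup.mem_map_of_mem _ ha
    have h3 := card_le_of_sectional p (t + 2) hsr (LL S (t + 1)) N (LL_anti S (by omega))
      (fun a ha b hb => by
        have h := hcommQ _ (hmemQ a ha) _ (hmemQ b hb)
        have h' : QuotientGroup.mk' N (a * b * a⁻¹ * b⁻¹) = 1 := by
          rw [map_mul, map_mul, map_mul, map_inv, map_inv, h]
          group
        exact (QuotientGroup.eq_one_iff _).mp h')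
      (fun a ha => by
        have h := hexpQ _ (hmemQ a ha)
        rw [← map_pow] at h
        exact (QuotientGroup.eq_one_iff _).mp h)
    rw [hNcard, show Nat.card (LL S (t + 1)) = p ^ (n - 1 - (t + 1)) from hF (t + 1) (by omega) (by omega),
      ← pow_add] at h3
    have := (Nat.pow_le_pow_iff_right hp1).mp h3
    omega

end Cfsg.Agent.Lib.Helper15.MC3806
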