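import Mathlib

/-!
# Shared definitions for the proof of S4305 (Shult: `S₃` acting fixed-point-freely)

An "operator group" `S₃` is given by a homomorphism `α : Equiv.Perm (Fin 3) →* M` into an ambient
group `M`; it acts on subgroups of `M` by conjugation.
-/

set_option autoImplicit false

namespace Cfsg.Agent.Lib.Helper15.S3

variable {M : Type*} [Group M]

/-- `X` is invariant under conjugation by the image of `α`. -/
def AInv (α : Equiv.Perm (Fin 3) →* M) (X : Subgroup M) : Prop :=
  ∀ g : Equiv.Perm (Fin 3), ∀ x ∈ X, α g * x * (α g)⁻¹ ∈ X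

/-- Only the identity of `X` commutes with the whole image of `α`. -/
def AFpf (α : Equiv.Perm (Fin 3) →* M) (X : Subgroup M) : Prop :=
  ∀ x ∈ X, (∀ g : Equiv.Perm (Fin 3), α g * x = x * α g) → x = 1

/-- The statement to which S4305 is reduced: a solvable group `H` of automorphisms of an
elementary abelian `t`-group `V`, normalized by an `S₃` which has no fixed points on `H` and on
`V`, with `O_t(H) = 1` and nilpotent derived subgroup, is abelian. -/
def PropB.{u} : Prop :=
  ∀ (V : Type u) [CommGroup V] [Finite V] (t : ℕ) (_ht : t.Prime) (_ht6 : t.Coprime 6)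
    (_hV : ∀ v : V, v ^ t = 1)
    (α : Equiv.Perm (Fin 3) →* MulAut V) (H : Subgroup (MulAut V))
    (_hHα : AInv α H) (_hsol : Group.IsSolvable H) (_hcop : (Nat.card H).Coprime 6)
    (_hHfpf : AFpf α H) (_hVfpf : ∀ v : V, (∀ g, α g v = v) → v = 1)
    (_hOt : ∀ T : Subgroup (MulAut V), T ≤ H → IsPGroup t T →
      H ≤ Subgroup.normalizer (T : Set (MulAut V)) → T = ⊥)
    (_hnil : Group.IsNilpotent ↥⁅H, H⁆),
    ∀ x ∈ H, ∀ y ∈ H, x * y = y * x

end Cfsg.Agent.Lib.Helper15.S3
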