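import Mathlib
import Cfsg.Agent.Lib.Helper15.S3Defs

/-!
# Automorphism groups acting on a finite abelian group: fixed points, commutators, norm maps
-/

set_option autoImplicit false

namespace Cfsg.Agent.Lib.Helper15.S3

variable {V : Type*} [CommGroup V]

/-- Fixed points of a subgroup of automorphisms. -/
def fixedSub (K : Subgroup (MulAut V)) : Subgroup V where
  carrier := {v | ∀ k ∈ K, k v = v}
  one_mem' := by intro k _; exact map_one k
  mul_mem' := by
    intro a b ha hb k hk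
    rw [map_mul, ha k hk, hb k hk]
  inv_mem' := by
    intro a ha k hk
    rw [map_inv, ha k hk]

theorem mem_fixedSub {K : Subgroup (MulAut V)} {v : V} :
    v ∈ fixedSub K ↔ ∀ k ∈ K, k v = v := Iff.rfl

theorem fixedSub_anti {K K' : Subgroup (MulAut V)} (h : K ≤ K') : fixedSub K' ≤ fixedSub K :=
  fun _ hv k hk => hv k (h hk)

theorem fixedSub_sup (K K' : Subgroup (MulAut V)) :
    fixedSub (K ⊔ K') = fixedSub K ⊓ fixedSub K' := by
  apply le_antisymm
  · exact le_inf (fixedSub_anti le_sup_left) (fixedSub_anti le_sup_right)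
  · intro v hv
    obtain ⟨h1, h2⟩ := Subgroup.mem_inf.1 hv
    let S : Subgroup (MulAut V) :=
      { carrier := {g | g v = v}
        one_mem' := rfl
        mul_mem' := by
          intro a b ha hb
          show (a * b) v = v
          rw [MulAut.mul_apply, hb, ha]
        inv_mem' := by
          intro a ha
          show a⁻¹ v = v
          have h3 : a⁻¹ (a v) = v := MulAut.inv_apply_self _ a v
          rw [ha] at h3
          exact h3 }
    have hS : K ⊔ K' ≤ S := sup_le (fun k hk => h1 k hk) (fun k hk => h2 k hk)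
    intro k hk
    exact hS hk

/-- `[U, Z]`. -/
def commSub (U : Subgroup V) (Z : Subgroup (MulAut V)) : Subgroup V :=
  Subgroup.closure {x | ∃ z ∈ Z, ∃ v ∈ U, x = z v * v⁻¹}

theorem commSub_mem {U : Subgroup V} {Z : Subgroup (MulAut V)} {z : MulAut V} (hz : z ∈ Z)
    {v : V} (hv : v ∈ U) : z v * v⁻¹ ∈ commSub U Z :=
  Subgroup.subset_closure ⟨z, hz, v, hv, rfl⟩

/-- The component `[C_V(K), Z]`. -/
def Wsub (Z K : Subgroup (MulAut V)) : Subgroup V := commSub (fixedSub K) Z

/-- Conjugate of a subgroup of automorphisms. -/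
def conjSub (g : MulAut V) (K : Subgroup (MulAut V)) : Subgroup (MulAut V) :=
  K.map (MulAut.conj g).toMonoidHom

theorem mem_conjSub {g : MulAut V} {K : Subgroup (MulAut V)} {x : MulAut V} :
    x ∈ conjSub g K ↔ ∃ k ∈ K, g * k * g⁻¹ = x := by
  unfold conjSub
  rw [Subgroup.mem_map]
  rfl

theorem conj_mem_conjSub {g : MulAut V} {K : Subgroup (MulAut V)} {k : MulAut V} (hk : k ∈ K) :
    g * k * g⁻¹ ∈ conjSub g K := mem_conjSub.2 ⟨k, hk, rfl⟩

theorem card_conjSub (g : MulAut V) (K : Subgroup (MulAut V)) :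
    Nat.card (conjSub g K) = Nat.card K := by
  unfold conjSub
  exact Subgroup.card_map_of_injective (MulAut.conj g).injective

theorem conjSub_le {g : MulAut V} {K Z : Subgroup (MulAut V)} (hK : K ≤ Z)
    (hg : ∀ z ∈ Z, g * z * g⁻¹ ∈ Z) : conjSub g K ≤ Z := by
  intro x hx
  obtain ⟨k, hk, rfl⟩ := mem_conjSub.1 hx
  exact hg k (hK hk)

theorem conjSub_one (K : Subgroup (MulAut V)) : conjSub 1 K = K := by
  ext x
  rw [mem_conjSub]
  constructor
  · rintro ⟨k, hk, rfl⟩
    simpa using hk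
  · intro hx
    exact ⟨x, hx, by simp⟩

theorem conjSub_mul (g h : MulAut V) (K : Subgroup (MulAut V)) :
    conjSub (g * h) K = conjSub g (conjSub h K) := by
  ext x
  rw [mem_conjSub, mem_conjSub]
  constructor
  · rintro ⟨k, hk, rfl⟩
    exact ⟨h * k * h⁻¹, conj_mem_conjSub hk, by group⟩
  · rintro ⟨y, hy, rfl⟩
    obtain ⟨k, hk, rfl⟩ := mem_conjSub.1 hy
    exact ⟨k, hk, by group⟩

theorem apply_mem_fixedSub_conjSub {g : MulAut V} {K : Subgroup (MulAut V)} {v : V}
    (hv : v ∈ fixedSub K) : g v ∈ fixedSub (conjSub g K) := by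
  intro x hx
  obtain ⟨k, hk, rfl⟩ := mem_conjSub.1 hx
  rw [MulAut.mul_apply, MulAut.mul_apply, MulAut.inv_apply_self, hv k hk]

/-- An automorphism normalizing `Z` maps `Wsub Z K` into `Wsub Z (gKg⁻¹)`. -/
theorem apply_mem_Wsub {g : MulAut V} {Z K : Subgroup (MulAut V)}
    (hg : ∀ z ∈ Z, g * z * g⁻¹ ∈ Z) {w : V} (hw : w ∈ Wsub Z K) :
    g w ∈ Wsub Z (conjSub g K) := by
  have h1 : (Wsub Z K).map g.toMonoidHom ≤ Wsub Z (conjSub g K) := by
    unfold Wsub commSub
    rw [MonoidHom.map_closure, Subgroup.closure_le]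
    rintro _ ⟨x, ⟨z, hz, v, hv, rfl⟩, rfl⟩
    apply Subgroup.subset_closure
    refine ⟨g * z * g⁻¹, hg z hz, g v, apply_mem_fixedSub_conjSub hv, ?_⟩
    show g (z v * v⁻¹) = (g * z * g⁻¹) (g v) * (g v)⁻¹
    rw [MulAut.mul_apply, MulAut.mul_apply, MulAut.inv_apply_self, map_mul, map_inv]
  exact h1 (Subgroup.mem_map_of_mem _ hw)

theorem Wsub_le_fixedSub {Z K : Subgroup (MulAut V)}
    (hc : ∀ z ∈ Z, ∀ k ∈ K, z * k = k * z) : Wsub Z K ≤ fixedSub K := by
  unfold Wsub commSub
  rw [Subgroup.closure_le]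
  rintro _ ⟨z, hz, v, hv, rfl⟩
  intro k hk
  rw [map_mul, map_inv, hv k hk, ← MulAut.mul_apply, ← hc z hz k hk, MulAut.mul_apply, hv k hk]

theorem conjSub_eq_self_of_comm {g : MulAut V} {K : Subgroup (MulAut V)}
    (hc : ∀ k ∈ K, g * k = k * g) : conjSub g K = K := by
  ext x
  rw [mem_conjSub]
  constructor
  · rintro ⟨k, hk, rfl⟩
    rw [hc k hk, mul_assoc, mul_inv_cancel, mul_one]
    exact hk
  · intro hx
    refine ⟨x, hx, ?_⟩
    rw [hc x hx, mul_assoc, mul_inv_cancel, mul_one]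

/-- `Wsub Z K` is invariant under any automorphism normalizing `Z` and `K`. -/
theorem apply_mem_Wsub_self {g : MulAut V} {Z K : Subgroup (MulAut V)}
    (hg : ∀ z ∈ Z, g * z * g⁻¹ ∈ Z) (hK : conjSub g K = K) {w : V} (hw : w ∈ Wsub Z K) :
    g w ∈ Wsub Z K := by
  have := apply_mem_Wsub hg hw
  rwa [hK] at this

section Norm

variable [Finite V]

/-- The norm map of a (finite) subgroup of automorphisms. -/
noncomputable def normMap (K : Subgroup (MulAut V)) : V →* V :=
  letI := Fintype.ofFinite K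
  { toFun := fun v => ∏ k : K, (k : MulAut V) v
    map_one' := by simp
    map_mul' := by
      intro a b
      simp [Finset.prod_mul_distrib] }

theorem normMap_apply (K : Subgroup (MulAut V)) [inst : Fintype K] (v : V) :
    normMap K v = ∏ k : K, (k : MulAut V) v := by
  have h : inst = Fintype.ofFinite K := Subsingleton.elim _ _
  subst h
  rfl

theorem normMap_fixed (K : Subgroup (MulAut V)) {k₀ : MulAut V} (hk₀ : k₀ ∈ K) (v : V) :
    k₀ (normMap K v) = normMap K v := by
  classical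
  have := Fintype.ofFinite K
  rw [normMap_apply, map_prod]
  apply Fintype.prod_equiv (Equiv.mulLeft (⟨k₀, hk₀⟩ : K))
  intro k
  rfl

theorem normMap_mem_fixedSub (K : Subgroup (MulAut V)) (v : V) : normMap K v ∈ fixedSub K :=
  fun _ hk => normMap_fixed K hk v

theorem normMap_of_mem_fixedSub (K : Subgroup (MulAut V)) {v : V} (hv : v ∈ fixedSub K) :
    normMap K v = v ^ Nat.card K := by
  classical
  have := Fintype.ofFinite K
  rw [normMap_apply, Nat.card_eq_fintype_card, ← Finset.card_univ, ← Finset.prod_const]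
  apply Finset.prod_congr rfl
  intro k _
  exact hv k k.2

theorem normMap_mem (K : Subgroup (MulAut V)) {U : Subgroup V}
    (hU : ∀ k ∈ K, ∀ u ∈ U, k u ∈ U) {v : V} (hv : v ∈ U) : normMap K v ∈ U := by
  classical
  have := Fintype.ofFinite K
  rw [normMap_apply]
  apply Subgroup.prod_mem
  intro k _
  exact hU k k.2 v hv

theorem normMap_apply_mem (K : Subgroup (MulAut V)) {z : MulAut V} (hz : z ∈ K) (v : V) :
    normMap K (z v) = normMap K v := by
  classical
  have := Fintype.ofFinite K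
  rw [normMap_apply, normMap_apply]
  apply Fintype.prod_equiv (Equiv.mulRight (⟨z, hz⟩ : K))
  intro k
  rfl

theorem normMap_commSub (U : Subgroup V) (Z : Subgroup (MulAut V)) {x : V}
    (hx : x ∈ commSub U Z) : normMap Z x = 1 := by
  have h1 : commSub U Z ≤ (normMap Z).ker := by
    unfold commSub
    rw [Subgroup.closure_le]
    rintro _ ⟨z, hz, v, _, rfl⟩
    show normMap Z (z v * v⁻¹) = 1
    rw [map_mul, map_inv, normMap_apply_mem Z hz, mul_inv_cancel]
  exact h1 hx

theorem eq_one_of_pow_card_coprime {n : ℕ} (hn : (Nat.card V).Coprime n) {x : V}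
    (hx : x ^ n = 1) : x = 1 := by
  have h1 : orderOf x ∣ n := orderOf_dvd_of_pow_eq_one hx
  have h2 : orderOf x ∣ Nat.card V := orderOf_dvd_natCard x
  have h3 : orderOf x ∣ 1 := by
    have := Nat.dvd_gcd h2 h1
    rwa [hn] at this
  exact orderOf_eq_one_iff.1 (Nat.dvd_one.1 h3)

/-- `[U, Z] ∩ C_V(Z) = 1` under coprime action. -/
theorem commSub_inf_fixedSub (U : Subgroup V) (Z : Subgroup (MulAut V))
    (hcop : (Nat.card V).Coprime (Nat.card Z)) {x : V} (hx : x ∈ commSub U Z)
    (hx' : x ∈ fixedSub Z) : x = 1 := by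
  have h1 := normMap_commSub U Z hx
  rw [normMap_of_mem_fixedSub Z hx'] at h1
  exact eq_one_of_pow_card_coprime hcop h1

/-- `Wsub Z K` is `Z`-invariant when `Z` is abelian. -/
theorem Wsub_invariant {Z K : Subgroup (MulAut V)} (hZ : ∀ a ∈ Z, ∀ b ∈ Z, a * b = b * a)
    (hK : K ≤ Z) {z : MulAut V} (hz : z ∈ Z) {w : V} (hw : w ∈ Wsub Z K) : z w ∈ Wsub Z K := by
  apply apply_mem_Wsub_self _ _ hw
  · intro y hy
    rw [hZ z hz y hy, mul_assoc, mul_inv_cancel, mul_one]
    exact hy
  · exact conjSub_eq_self_of_comm (fun k hk => hZ z hz k (hK hk))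

/-- The norm map of `K` kills the components `Wsub Z K'` for `K' ≠ K`. -/
theorem normMap_Wsub_eq_one {Z K K' : Subgroup (MulAut V)}
    (hZ : ∀ a ∈ Z, ∀ b ∈ Z, a * b = b * a) (hK : K ≤ Z) (hK' : K' ≤ Z) (hsup : K ⊔ K' = Z)
    (hcop : (Nat.card V).Coprime (Nat.card Z)) {w : V} (hw : w ∈ Wsub Z K') :
    normMap K w = 1 := by
  have h1 : normMap K w ∈ fixedSub K := normMap_mem_fixedSub K w
  have h2 : normMap K w ∈ Wsub Z K' :=
    normMap_mem K (fun k hk u hu => Wsub_invariant hZ hK' (hK hk) hu) hw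
  have h3 : normMap K w ∈ fixedSub K' :=
    Wsub_le_fixedSub (fun z hz k hk => hZ z hz k (hK' hk)) h2
  have h4 : normMap K w ∈ fixedSub Z := by
    rw [← hsup, fixedSub_sup]
    exact Subgroup.mem_inf.2 ⟨h1, h3⟩
  exact commSub_inf_fixedSub _ Z hcop h2 h4

theorem normMap_Wsub_self {Z K : Subgroup (MulAut V)}
    (hZ : ∀ a ∈ Z, ∀ b ∈ Z, a * b = b * a) (hK : K ≤ Z) {w : V} (hw : w ∈ Wsub Z K) :
    normMap K w = w ^ Nat.card K :=
  normMap_of_mem_fixedSub K (Wsub_le_fixedSub (fun z hz k hk => hZ z hz k (hK hk)) hw)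

end Norm

/-- Two distinct subgroups of the same prime index generate. -/
theorem sup_eq_of_index_prime {G : Type*} [Group G] {Z K K' : Subgroup G} [Finite Z] {q : ℕ}
    (hq : q.Prime) (hK : K ≤ Z) (hK' : K' ≤ Z) (hc : Nat.card Z = q * Nat.card K)
    (hc' : Nat.card K' = Nat.card K) (hne : K' ≠ K) : K ⊔ K' = Z := by
  have : Finite K := Finite.of_injective (Subgroup.inclusion hK) (Subgroup.inclusion_injective hK)
  have : Finite K' :=
    Finite.of_injective (Subgroup.inclusion hK') (Subgroup.inclusion_injective hK')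
  have hle : K ⊔ K' ≤ Z := sup_le hK hK'
  have : Finite (K ⊔ K' : Subgroup G) :=
    Finite.of_injective (Subgroup.inclusion hle) (Subgroup.inclusion_injective hle)
  have hKpos : 0 < Nat.card K := Nat.card_pos
  have h1 : Nat.card K ∣ Nat.card (K ⊔ K' : Subgroup G) := Subgroup.card_dvd_of_le le_sup_left
  have h2 : Nat.card (K ⊔ K' : Subgroup G) ∣ Nat.card Z := Subgroup.card_dvd_of_le hle
  obtain ⟨d, hd⟩ := h1
  have h3 : d ∣ q := by
    rw [hd, hc, mul_comm q] at h2
    exact (Nat.mul_dvd_mul_iff_left hKpos).1 h2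
  rcases (Nat.dvd_prime hq).1 h3 with h4 | h4
  · exfalso
    rw [h4, mul_one] at hd
    have h5 : K ⊔ K' = K := (Subgroup.eq_of_le_of_card_ge le_sup_left (le_of_eq hd)).symm
    have h6 : K' ≤ K := by
      rw [← h5]; exact le_sup_right
    exact hne (Subgroup.eq_of_le_of_card_ge h6 (le_of_eq hc'.symm))
  · apply Subgroup.eq_of_le_of_card_ge hle
    rw [hd, h4, hc, mul_comm]

/-- A subgroup between `K` and `Z` (of prime index) is `K` or `Z`. -/
theorem eq_or_eq_of_index_prime {G : Type*} [Group G] {Z K L : Subgroup G} [Finite Z] {q : ℕ}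
    (hq : q.Prime) (hKL : K ≤ L) (hLZ : L ≤ Z) (hc : Nat.card Z = q * Nat.card K) :
    L = K ∨ L = Z := by
  have : Finite L := Finite.of_injective (Subgroup.inclusion hLZ) (Subgroup.inclusion_injective hLZ)
  have : Finite K := Finite.of_injective (Subgroup.inclusion hKL) (Subgroup.inclusion_injective hKL)
  have hKpos : 0 < Nat.card K := Nat.card_pos
  obtain ⟨d, hd⟩ := Subgroup.card_dvd_of_le hKL
  have h2 : Nat.card L ∣ Nat.card Z := Subgroup.card_dvd_of_le hLZ
  have h3 : d ∣ q := by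
    rw [hd, hc, mul_comm q] at h2
    exact (Nat.mul_dvd_mul_iff_left hKpos).1 h2
  rcases (Nat.dvd_prime hq).1 h3 with h4 | h4
  · left
    rw [h4, mul_one] at hd
    exact (Subgroup.eq_of_le_of_card_ge hKL (le_of_eq hd)).symm
  · right
    apply Subgroup.eq_of_le_of_card_ge hLZ
    rw [hd, h4, hc, mul_comm]

end Cfsg.Agent.Lib.Helper15.S3
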