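import Mathlib
import Cfsg.Agent.Lib.Helper15.S3Defs

/-!
# Black-box statements used in the proof of S4305 (delivered separately, see notes/S4305Spec.lean.txt)
-/

set_option autoImplicit false

namespace Cfsg.Agent.Lib.Helper15.S3

/-- (D1) holomorph form of S3765. -/
def HolStatement.{u} : Prop :=
  ∀ {W : Type u} [CommGroup W] [Finite W] [Nontrivial W] {p q r : ℕ}
    (_hp : p.Prime) (_hq : q.Prime) (_hr : r.Prime) (_hpq : p ≠ q) (_hpr : p ≠ r) (_hqr : q ≠ r)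
    (_hq2 : q ≠ 2) (_hW : ∀ w : W, w ^ p = 1)
    (Q : Subgroup (MulAut W)) (_hQ : IsPGroup q Q) (x : MulAut W) (_hx : x ^ r = 1)
    (_hxQ : ∀ g ∈ Q, x * g * x⁻¹ ∈ Q) (_hnc : ∃ g ∈ Q, x * g ≠ g * x),
    ∃ w : W, w ≠ 1 ∧ x w = w

/-- (D2) Frobenius-type fixed point lemma. -/
def FrobStatement.{u} : Prop :=
  ∀ {W : Type u} [CommGroup W] [Finite W] [Nontrivial W] {q m : ℕ}
    (_hq : q.Prime) (_hm : m.Prime) (_hqW : (Nat.card W).Coprime q)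
    (Z : Subgroup (MulAut W)) (_hZ : Nat.card Z = q)
    (_hZfpf : ∀ w : W, (∀ z ∈ Z, z w = w) → w = 1)
    (b : MulAut W) (_hb : b ^ m = 1) (_hbZ : ∀ z ∈ Z, b * z * b⁻¹ ∈ Z)
    (_hnc : ∃ z ∈ Z, b * z ≠ z * b),
    ∃ w : W, w ≠ 1 ∧ b w = w

/-- (D4) derived subgroup inside every `[Q, a]`. -/
def CommStatement.{u} : Prop :=
  ∀ {M : Type u} [Group M] [Finite M] (α : Equiv.Perm (Fin 3) →* M)
    (Q : Subgroup M) (_hinv : AInv α Q) (_hfpf : AFpf α Q) (_hcop : (Nat.card Q).Coprime 6)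
    (_hnil : Group.IsNilpotent Q) (g : Equiv.Perm (Fin 3)) (_hg : g ≠ 1),
    ⁅Q, Q⁆ ≤ ⁅Q, Subgroup.zpowers (α g)⁆

/-- (D5) the three-layer elimination. -/
def B3Statement.{u} : Prop :=
  ∀ {M : Type u} [Group M] [Finite M] (α : Equiv.Perm (Fin 3) →* M)
    (q r : ℕ) [Fact q.Prime] [Fact r.Prime] (_hqr : q ≠ r) (_hr2 : r ≠ 2) (_hr3 : r ≠ 3)
    (_hq2 : q ≠ 2) (_hq3 : q ≠ 3) (Q R K : Subgroup M)
    (_hQc : ∀ x ∈ Q, ∀ y ∈ Q, x * y = y * x) (_hQq : IsPGroup q Q) (_hRr : IsPGroup r R)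
    (_hRQ : R ≤ Subgroup.normalizer (Q : Set M))
    (_hQα : AInv α Q) (_hRα : AInv α R) (_hQfpf : AFpf α Q) (_hRfpf : AFpf α R)
    (_hRab : ⁅R, R⁆ ≤ Subgroup.centralizer (Q : Set M))
    (_hCQR : Q ⊓ Subgroup.centralizer (R : Set M) = ⊥)
    (_hQmin : ∀ Q' : Subgroup M, Q' ≤ Q → Q' ≠ Q → AInv α Q' →
      R ≤ Subgroup.normalizer (Q' : Set M) → Q' ≤ Subgroup.centralizer (R : Set M))
    (_hRmin : ∀ D : Subgroup M, D ≤ R → D ≠ R → AInv α D →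
      D ≤ Subgroup.centralizer (Q : Set M))
    (_hKQ : K ≤ Q) (_hKne : K ≠ Q)
    (_hUP : ∀ x ∈ R, ∃ g : Equiv.Perm (Fin 3), g ≠ 1 ∧
      ∀ y ∈ Q, (x⁻¹ * α g * x) * y * (x⁻¹ * α g * x)⁻¹ * y⁻¹ ∈ K), False

end Cfsg.Agent.Lib.Helper15.S3
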