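import Mathlib
import Cfsg.Agent.Lib.Helper15.S3Act
import Cfsg.Agent.Lib.Helper15.S3Spec

/-!
# Restriction of automorphisms to invariant subgroups, and the two fixed point lemmas in
restricted form
-/

set_option autoImplicit false

namespace Cfsg.Agent.Lib.Helper15.S3

universe u

variable {V : Type u} [CommGroup V]

/-- Automorphisms preserving the subgroup `U`. -/
def stabSub (U : Subgroup V) : Subgroup (MulAut V) where
  carrier := {g | ∀ u, g u ∈ U ↔ u ∈ U}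
  one_mem' := fun _ => Iff.rfl
  mul_mem' := by
    intro a b ha hb u
    rw [MulAut.mul_apply, ha, hb]
  inv_mem' := by
    intro a ha u
    rw [← ha (a⁻¹ u), MulAut.apply_inv_self]

theorem mem_stabSub {U : Subgroup V} {g : MulAut V} :
    g ∈ stabSub U ↔ ∀ u, g u ∈ U ↔ u ∈ U := Iff.rfl

theorem mem_stabSub_of_forall [Finite V] {U : Subgroup V} {g : MulAut V}
    (h : ∀ u ∈ U, g u ∈ U) : g ∈ stabSub U := by
  intro u
  constructor
  · intro hu
    let f : U → U := fun x => ⟨g x, h x x.2⟩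
    have hf : Function.Injective f := by
      intro a b hab
      apply Subtype.ext
      exact g.injective (congrArg Subtype.val hab)
    obtain ⟨x, hx⟩ := (Finite.injective_iff_surjective.1 hf) ⟨g u, hu⟩
    have h1 : g x = g u := congrArg Subtype.val hx
    rw [← g.injective h1]
    exact x.2
  · exact h u

/-- Restriction of an automorphism preserving `U`. -/
def resAut (U : Subgroup V) (g : stabSub U) : MulAut U where
  toFun u := ⟨(g : MulAut V) u, (g.2 u).2 u.2⟩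
  invFun u := ⟨(g : MulAut V)⁻¹ u, ((stabSub U).inv_mem g.2 u).2 u.2⟩
  left_inv u := Subtype.ext (MulAut.inv_apply_self _ _ _)
  right_inv u := Subtype.ext (MulAut.apply_inv_self _ _ _)
  map_mul' a b := Subtype.ext (map_mul (g : MulAut V) (a : V) (b : V))

/-- Restriction as a homomorphism. -/
def resHom (U : Subgroup V) : stabSub U →* MulAut U where
  toFun := resAut U
  map_one' := by
    ext u
    rfl
  map_mul' a b := by
    ext u
    rfl

theorem resHom_apply (U : Subgroup V) (g : stabSub U) (u : U) :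
    ((resHom U g u : U) : V) = (g : MulAut V) u := rfl

section Facts

variable [Finite V]

/-- Restricted form of the holomorph statement: an automorphism `x` of prime order `r`
normalizing a `q`-group `Q` of automorphisms, both preserving `U ≠ 1`, and not commuting with `Q`
on `U`, has a nontrivial fixed point on `U`. -/
theorem exists_fixed_of_hol (hHol : HolStatement.{u}) {t q r : ℕ} (ht : t.Prime) (hq : q.Prime)
    (hr : r.Prime) (htq : t ≠ q) (htr : t ≠ r) (hqr : q ≠ r) (hq2 : q ≠ 2)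
    (hV : ∀ v : V, v ^ t = 1) (U : Subgroup V) (hU : U ≠ ⊥)
    (Q : Subgroup (MulAut V)) (hQ : IsPGroup q Q) (hQU : Q ≤ stabSub U)
    (x : MulAut V) (hxU : x ∈ stabSub U) (hx : x ^ r = 1) (hxQ : ∀ y ∈ Q, x * y * x⁻¹ ∈ Q)
    (hnc : ∃ y ∈ Q, ∃ u ∈ U, x (y u) ≠ y (x u)) :
    ∃ u ∈ U, u ≠ 1 ∧ x u = u := by
  have hnt : Nontrivial U := (Subgroup.nontrivial_iff_ne_bot U).2 hU
  let Q₁ : Subgroup (MulAut U) := (Q.subgroupOf (stabSub U)).map (resHom U)
  let x₁ : MulAut U := resHom U ⟨x, hxU⟩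
  have hQ₁ : IsPGroup q Q₁ :=
    (hQ.comap_of_injective (stabSub U).subtype Subtype.val_injective).map (resHom U)
  have hx₁ : x₁ ^ r = 1 := by
    show (resHom U ⟨x, hxU⟩) ^ r = 1
    rw [← map_pow]
    have : (⟨x, hxU⟩ : stabSub U) ^ r = 1 := Subtype.ext (by simpa using hx)
    rw [this, map_one]
  have hxQ₁ : ∀ g ∈ Q₁, x₁ * g * x₁⁻¹ ∈ Q₁ := by
    rintro _ ⟨y, hy, rfl⟩
    refine ⟨⟨x, hxU⟩ * y * ⟨x, hxU⟩⁻¹, ?_, ?_⟩
    · show ((⟨x, hxU⟩ * y * ⟨x, hxU⟩⁻¹ : stabSub U) : MulAut V) ∈ Q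
      exact hxQ _ hy
    · rw [map_mul, map_mul, map_inv]
  have hnc₁ : ∃ g ∈ Q₁, x₁ * g ≠ g * x₁ := by
    obtain ⟨y, hy, u, hu, hne⟩ := hnc
    refine ⟨resHom U ⟨y, hQU hy⟩, ⟨⟨y, hQU hy⟩, hy, rfl⟩, ?_⟩
    intro heq
    apply hne
    have h1 := congrArg (fun f : MulAut U => ((f ⟨u, hu⟩ : U) : V)) heq
    exact h1
  obtain ⟨w, hw1, hw⟩ := hHol (W := ↥U) (p := t) (q := q) (r := r) ht hq hr htq htr hqr hq2
    (fun w => Subtype.ext (by simpa using hV (w : V))) Q₁ hQ₁ x₁ hx₁ hxQ₁ hnc₁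
  refine ⟨w, w.2, ?_, ?_⟩
  · intro h
    exact hw1 (Subtype.ext h)
  · exact congrArg Subtype.val hw

/-- Restricted Frobenius lemma. -/
theorem exists_fixed_of_frob (hFrob : FrobStatement.{u}) {q m : ℕ} (hq : q.Prime) (hm : m.Prime)
    (hqV : (Nat.card V).Coprime q) (U : Subgroup V) (hU : U ≠ ⊥)
    (Z K : Subgroup (MulAut V)) (hKZ : K ≤ Z) (hcard : Nat.card Z = q * Nat.card K)
    (hZU : Z ≤ stabSub U) (hKU : U ≤ fixedSub K) (hUZ : U ⊓ fixedSub Z = ⊥)
    (b : MulAut V) (hbU : b ∈ stabSub U) (hb : b ^ m = 1) (hbZ : ∀ z ∈ Z, b * z * b⁻¹ ∈ Z)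
    (hnc : ∃ z ∈ Z, b * z * b⁻¹ * z⁻¹ ∉ K) :
    ∃ u ∈ U, u ≠ 1 ∧ b u = u := by
  have hnt : Nontrivial U := (Subgroup.nontrivial_iff_ne_bot U).2 hU
  -- the elements of `Z` acting trivially on `U` are exactly `K`
  let L : Subgroup (MulAut V) :=
    { carrier := {z | z ∈ Z ∧ ∀ u ∈ U, z u = u}
      one_mem' := ⟨Z.one_mem, fun _ _ => rfl⟩
      mul_mem' := by
        rintro a c ⟨ha, ha'⟩ ⟨hc, hc'⟩
        refine ⟨Z.mul_mem ha hc, fun u hu => ?_⟩
        rw [MulAut.mul_apply, hc' u hu, ha' u hu]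
      inv_mem' := by
        rintro a ⟨ha, ha'⟩
        refine ⟨Z.inv_mem ha, fun u hu => ?_⟩
        have := MulAut.inv_apply_self _ a u
        rwa [ha' u hu] at this }
  have hKL : K ≤ L := fun k hk => ⟨hKZ hk, fun u hu => hKU hu k hk⟩
  have hLZ : L ≤ Z := fun z hz => hz.1
  have hLK : L = K := by
    rcases eq_or_eq_of_index_prime hq hKL hLZ hcard with h | h
    · exact h
    · exfalso
      apply hU
      rw [eq_bot_iff, ← hUZ]
      intro u hu
      refine Subgroup.mem_inf.2 ⟨hu, fun z hz => ?_⟩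
      have : z ∈ L := by rw [h]; exact hz
      exact this.2 u hu
  let f : Z →* MulAut U := (resHom U).comp (Subgroup.inclusion hZU)
  have hfapply : ∀ (z : Z) (u : U), ((f z u : U) : V) = (z : MulAut V) u := fun _ _ => rfl
  have hker : f.ker = K.subgroupOf Z := by
    ext z
    rw [MonoidHom.mem_ker, Subgroup.mem_subgroupOf, ← hLK]
    constructor
    · intro hz
      refine ⟨z.2, fun u hu => ?_⟩
      have := congrArg (fun g : MulAut U => ((g ⟨u, hu⟩ : U) : V)) hz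
      exact this
    · intro hz
      ext u
      exact hz.2 u u.2
  have hcardr : Nat.card f.range = q := by
    rw [← Subgroup.index_ker, hker]
    have h1 := (K.subgroupOf Z).card_mul_index
    rw [Nat.card_congr (Subgroup.subgroupOfEquivOfLe hKZ).toEquiv, hcard] at h1
    have hKpos : 0 < Nat.card K := by
      have : Finite K := Finite.of_injective (Subgroup.inclusion hKZ) (Subgroup.inclusion_injective hKZ)
      exact Nat.card_pos
    rw [mul_comm q] at h1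
    exact Nat.eq_of_mul_eq_mul_left hKpos h1
  have hfpf : ∀ w : U, (∀ z ∈ f.range, z w = w) → w = 1 := by
    intro w hw
    have : (w : V) ∈ U ⊓ fixedSub Z := by
      refine Subgroup.mem_inf.2 ⟨w.2, fun z hz => ?_⟩
      have := hw (f ⟨z, hz⟩) ⟨⟨z, hz⟩, rfl⟩
      exact congrArg Subtype.val this
    rw [hUZ, Subgroup.mem_bot] at this
    exact Subtype.ext this
  let b₁ : MulAut U := resHom U ⟨b, hbU⟩
  have hb₁ : b₁ ^ m = 1 := by
    show (resHom U ⟨b, hbU⟩) ^ m = 1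
    rw [← map_pow]
    have : (⟨b, hbU⟩ : stabSub U) ^ m = 1 := Subtype.ext (by simpa using hb)
    rw [this, map_one]
  have hbZ₁ : ∀ z ∈ f.range, b₁ * z * b₁⁻¹ ∈ f.range := by
    rintro _ ⟨z, rfl⟩
    refine ⟨⟨b * z * b⁻¹, hbZ z z.2⟩, ?_⟩
    ext u
    rfl
  have hnc₁ : ∃ z ∈ f.range, b₁ * z ≠ z * b₁ := by
    obtain ⟨z, hz, hzK⟩ := hnc
    refine ⟨f ⟨z, hz⟩, ⟨⟨z, hz⟩, rfl⟩, ?_⟩
    intro heq
    apply hzK
    rw [← hLK]
    refine ⟨Z.mul_mem (hbZ z hz) (Z.inv_mem hz), fun u hu => ?_⟩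
    -- `b z b⁻¹ z⁻¹ u = u`
    have hzU : z ∈ stabSub U := hZU hz
    have hu1 : z⁻¹ u ∈ U := ((stabSub U).inv_mem hzU u).2 hu
    have hu2 : b⁻¹ (z⁻¹ u) ∈ U := ((stabSub U).inv_mem hbU _).2 hu1
    have h1 := congrArg (fun g : MulAut U => ((g ⟨b⁻¹ (z⁻¹ u), hu2⟩ : U) : V)) heq
    have h2 : b (z (b⁻¹ (z⁻¹ u))) = z (b (b⁻¹ (z⁻¹ u))) := h1
    rw [MulAut.apply_inv_self, MulAut.apply_inv_self] at h2
    show (b * z * b⁻¹ * z⁻¹) u = u
    rw [MulAut.mul_apply, MulAut.mul_apply, MulAut.mul_apply]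
    exact h2
  have hqU : (Nat.card U).Coprime q :=
    Nat.Coprime.coprime_dvd_left (Subgroup.card_subgroup_dvd_card U) hqV
  obtain ⟨w, hw1, hw⟩ := hFrob (W := ↥U) hq hm hqU f.range hcardr hfpf b₁ hb₁ hbZ₁ hnc₁
  refine ⟨w, w.2, ?_, ?_⟩
  · intro h
    exact hw1 (Subtype.ext h)
  · exact congrArg Subtype.val hw

end Facts

end Cfsg.Agent.Lib.Helper15.S3
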