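import Mathlib
import Cfsg.Agent.Lib.Helper15.S3Act
import Cfsg.Agent.Lib.Helper15.S3Spec

/-!
# Second layer of black-box statements for S4305 (proved by helper15 in S3Weights / S3PGroup)
-/

set_option autoImplicit false

namespace Cfsg.Agent.Lib.Helper15.S3

/-- Theorem T: an `S₃`-invariant `q`-group of automorphisms of `V`, with `S₃` fixed-point-free on
it and on `V`, is abelian. -/
def TheoremTStatement.{u} : Prop :=
  ∀ {V : Type u} [CommGroup V] [Finite V] {t q : ℕ} (_ht : t.Prime) (_hq : q.Prime) (_htq : t ≠ q)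
    (_ht6 : t.Coprime 6) (_hq6 : q.Coprime 6) (_hV : ∀ v : V, v ^ t = 1)
    (α : Equiv.Perm (Fin 3) →* MulAut V) (_hVfpf : ∀ v : V, (∀ g, α g v = v) → v = 1)
    (Q : Subgroup (MulAut V)) (_hQ : IsPGroup q Q) (_hQα : AInv α Q) (_hQfpf : AFpf α Q),
    ∀ x ∈ Q, ∀ y ∈ Q, x * y = y * x

/-- Step 1: every component `Wsub Z K ≠ 1` of an invariant abelian `Z` has a non-identity element
of `S₃` centralizing `Z/K`. -/
def Step1Statement.{u} : Prop :=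
  ∀ {V : Type u} [CommGroup V] [Finite V] {q : ℕ} (_hq : q.Prime)
    (α : Equiv.Perm (Fin 3) →* MulAut V) (_hVfpf : ∀ v : V, (∀ g, α g v = v) → v = 1)
    (_hV6 : (Nat.card V).Coprime 6)
    (Z K : Subgroup (MulAut V)) (_hZab : ∀ a ∈ Z, ∀ b ∈ Z, a * b = b * a) (_hZα : AInv α Z)
    (_hKZ : K ≤ Z) (_hcard : Nat.card Z = q * Nat.card K)
    (_hcop : (Nat.card V).Coprime (Nat.card Z)) (_hW : Wsub Z K ≠ ⊥),
    ∃ g : Equiv.Perm (Fin 3), g ≠ 1 ∧ ∀ z ∈ Z, α g * z * (α g)⁻¹ * z⁻¹ ∈ K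

/-- Existence of a component. -/
def HyperplaneStatement.{u} : Prop :=
  ∀ {V : Type u} [CommGroup V] [Finite V] {q : ℕ} (_hq : q.Prime)
    (Z : Subgroup (MulAut V)) (_hZab : ∀ a ∈ Z, ∀ b ∈ Z, a * b = b * a)
    (_hZexp : ∀ z ∈ Z, z ^ q = 1) (_hZ1 : Z ≠ ⊥) (_hcop : (Nat.card V).Coprime (Nat.card Z)),
    ∃ K : Subgroup (MulAut V), K ≤ Z ∧ Nat.card Z = q * Nat.card K ∧ Wsub Z K ≠ ⊥

end Cfsg.Agent.Lib.Helper15.S3
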