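import Mathlib
import Cfsg.Agent.Lib.Helper15.S3Res
import Cfsg.Agent.Lib.Helper15.S3Spec2

/-!
# Weight-space arguments for S4305: the Mackey lemma, Step 1 and the hyperplane lemma
-/

set_option autoImplicit false
set_option linter.unusedSectionVars false

namespace Cfsg.Agent.Lib.Helper15.S3

universe u

/-! ### Facts about `S₃` -/

theorem perm3_order (g : Equiv.Perm (Fin 3)) (hg : g ≠ 1) : g ^ 2 = 1 ∨ g ^ 3 = 1 := by
  revert g; decide

theorem perm3_gen : ∀ s u g : Equiv.Perm (Fin 3), s ≠ 1 → s ^ 3 = 1 → u ≠ 1 → u ^ 2 = 1 →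
    (g = 1 ∨ g = s ∨ g = s * s ∨ g = u ∨ g = s * u ∨ g = s * s * u) := by
  decide

theorem perm3_conj : ∀ s u : Equiv.Perm (Fin 3), s ≠ 1 → s ^ 3 = 1 → u ≠ 1 → u ^ 2 = 1 →
    s * u = u * s⁻¹ := by
  decide

theorem perm3_invols : ∃ a b c : Equiv.Perm (Fin 3), a ≠ 1 ∧ b ≠ 1 ∧ c ≠ 1 ∧
    a ^ 2 = 1 ∧ b ^ 2 = 1 ∧ c ^ 2 = 1 ∧ a * b ≠ 1 ∧ a * c ≠ 1 ∧ b * c ≠ 1 ∧
    (a * b) ^ 3 = 1 ∧ (a * c) ^ 3 = 1 ∧ (b * c) ^ 3 = 1 := by
  refine ⟨Equiv.swap 0 1, Equiv.swap 1 2, Equiv.swap 0 2, ?_⟩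
  decide

theorem perm3_card : Nat.card (Equiv.Perm (Fin 3)) = 6 := by
  rw [Nat.card_eq_fintype_card, Fintype.card_perm]; rfl

theorem perm3_cyclic_of_ne_top (B : Subgroup (Equiv.Perm (Fin 3))) (hB : B ≠ ⊤) :
    ∃ g₀ ∈ B, ∀ g ∈ B, g ∈ Subgroup.zpowers g₀ := by
  have hdvd : Nat.card B ∣ 6 := by
    rw [← perm3_card]; exact Subgroup.card_subgroup_dvd_card B
  have hne : Nat.card B ≠ 6 := by
    intro h
    apply hB
    apply Subgroup.eq_top_of_card_eq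
    rw [h, perm3_card]
  have hle : Nat.card B ≤ 6 := Nat.le_of_dvd (by norm_num) hdvd
  have hpos : 0 < Nat.card B := Nat.card_pos
  have hcases : Nat.card B = 1 ∨ Nat.card B = 2 ∨ Nat.card B = 3 := by
    generalize Nat.card B = n at *
    interval_cases n <;> simp_all
  have hcyc : IsCyclic B := by
    rcases hcases with h | h | h
    · have : Subsingleton B := (Nat.card_eq_one_iff_unique.1 h).1
      infer_instance
    · have : Fact (Nat.Prime 2) := ⟨Nat.prime_two⟩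
      exact isCyclic_of_prime_card h
    · have : Fact (Nat.Prime 3) := ⟨Nat.prime_three⟩
      exact isCyclic_of_prime_card h
  obtain ⟨g₀, hg₀⟩ := hcyc.exists_generator
  refine ⟨g₀, g₀.2, fun g hg => ?_⟩
  obtain ⟨n, hn⟩ := Subgroup.mem_zpowers_iff.1 (hg₀ ⟨g, hg⟩)
  refine Subgroup.mem_zpowers_iff.2 ⟨n, ?_⟩
  have := congrArg Subtype.val hn
  simpa using this

variable {V : Type u} [CommGroup V]

theorem zpow_apply_eq_self {x : MulAut V} {v : V} (h : x v = v) (n : ℤ) : (x ^ n) v = v := by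
  have h1 : x ∈ MulAction.stabilizer (MulAut V) v := h
  exact (MulAction.stabilizer (MulAut V) v).zpow_mem h1 n

/-- The stabilizer in `S₃` of the subgroup `K`. -/
def stabK (α : Equiv.Perm (Fin 3) →* MulAut V) (K : Subgroup (MulAut V)) :
    Subgroup (Equiv.Perm (Fin 3)) where
  carrier := {g | conjSub (α g) K = K}
  one_mem' := by
    show conjSub (α 1) K = K
    rw [map_one, conjSub_one]
  mul_mem' := by
    intro a b ha hb
    show conjSub (α (a * b)) K = K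
    rw [map_mul, conjSub_mul, show conjSub (α b) K = K from hb,
      show conjSub (α a) K = K from ha]
  inv_mem' := by
    intro a ha
    show conjSub (α a⁻¹) K = K
    have h : conjSub (α a) K = K := ha
    conv_lhs => rw [← h]
    rw [← conjSub_mul, ← map_mul, inv_mul_cancel, map_one, conjSub_one]

theorem mem_stabK {α : Equiv.Perm (Fin 3) →* MulAut V} {K : Subgroup (MulAut V)}
    {g : Equiv.Perm (Fin 3)} : g ∈ stabK α K ↔ conjSub (α g) K = K := Iff.rfl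

/-- `g` centralizes `Z/K`. -/
def Cen (α : Equiv.Perm (Fin 3) →* MulAut V) (Z K : Subgroup (MulAut V))
    (g : Equiv.Perm (Fin 3)) : Prop :=
  ∀ z ∈ Z, α g * z * (α g)⁻¹ * z⁻¹ ∈ K

/-- `g` inverts `Z/K`. -/
def Inv (α : Equiv.Perm (Fin 3) →* MulAut V) (Z K : Subgroup (MulAut V))
    (g : Equiv.Perm (Fin 3)) : Prop :=
  ∀ z ∈ Z, z * (α g * z * (α g)⁻¹) ∈ K

section Cen

variable [Finite V] {α : Equiv.Perm (Fin 3) →* MulAut V} {Z K : Subgroup (MulAut V)}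

theorem stab_of_cen {g : Equiv.Perm (Fin 3)} (h : Cen α Z K g) (hKZ : K ≤ Z) :
    conjSub (α g) K = K := by
  have hle : conjSub (α g) K ≤ K := by
    intro x hx
    obtain ⟨k, hk, rfl⟩ := mem_conjSub.1 hx
    have h1 := K.mul_mem (h k (hKZ hk)) hk
    rwa [inv_mul_cancel_right] at h1
  apply Subgroup.eq_of_le_of_card_ge hle
  rw [card_conjSub]

theorem cen_mul {g h : Equiv.Perm (Fin 3)} (hg : Cen α Z K g) (hh : Cen α Z K h)
    (hgK : conjSub (α g) K = K) : Cen α Z K (g * h) := by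
  intro z hz
  have h1 : α g * (α h * z * (α h)⁻¹ * z⁻¹) * (α g)⁻¹ ∈ K := by
    have := conj_mem_conjSub (g := α g) (hh z hz)
    rwa [hgK] at this
  have h2 := K.mul_mem h1 (hg z hz)
  have h3 : α g * (α h * z * (α h)⁻¹ * z⁻¹) * (α g)⁻¹ * (α g * z * (α g)⁻¹ * z⁻¹)
      = α (g * h) * z * (α (g * h))⁻¹ * z⁻¹ := by
    rw [map_mul]; group
  rwa [h3] at h2

theorem cen_inv {g : Equiv.Perm (Fin 3)} (hg : Cen α Z K g)
    (hgK : conjSub (α g⁻¹) K = K) : Cen α Z K g⁻¹ := by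
  intro z hz
  have h1 : α g⁻¹ * (α g * z * (α g)⁻¹ * z⁻¹)⁻¹ * (α g⁻¹)⁻¹ ∈ K := by
    have := conj_mem_conjSub (g := α g⁻¹) (K.inv_mem (hg z hz))
    rwa [hgK] at this
  have h3 : α g⁻¹ * (α g * z * (α g)⁻¹ * z⁻¹)⁻¹ * (α g⁻¹)⁻¹
      = α g⁻¹ * z * (α g⁻¹)⁻¹ * z⁻¹ := by
    rw [map_inv]; group
  rwa [h3] at h1

theorem inverts_of_not_cen {q : ℕ} (hq : q.Prime) (hZab : ∀ a ∈ Z, ∀ b ∈ Z, a * b = b * a)
    (hZα : AInv α Z) (hKZ : K ≤ Z) (hcard : Nat.card Z = q * Nat.card K)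
    {a : Equiv.Perm (Fin 3)} (ha2 : a ^ 2 = 1) (haK : conjSub (α a) K = K)
    (hnc : ¬ Cen α Z K a) : Inv α Z K a := by
  have hαa : α a * α a = 1 := by rw [← map_mul, ← pow_two, ha2, map_one]
  let L : Subgroup (MulAut V) :=
    { carrier := {z | z ∈ Z ∧ α a * z * (α a)⁻¹ * z⁻¹ ∈ K}
      one_mem' := ⟨Z.one_mem, by simp⟩
      mul_mem' := by
        rintro x y ⟨hx, hx'⟩ ⟨hy, hy'⟩
        refine ⟨Z.mul_mem hx hy, ?_⟩
        have h1 := K.mul_mem hx' hy'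
        have h2 : α a * x * (α a)⁻¹ * x⁻¹ * (α a * y * (α a)⁻¹ * y⁻¹)
            = α a * (x * y) * (α a)⁻¹ * (x * y)⁻¹ := by
          have hc : x⁻¹ * (α a * y * (α a)⁻¹ * y⁻¹) = (α a * y * (α a)⁻¹ * y⁻¹) * x⁻¹ :=
            hZab _ (Z.inv_mem hx) _ (hKZ hy')
          calc α a * x * (α a)⁻¹ * x⁻¹ * (α a * y * (α a)⁻¹ * y⁻¹)
              = α a * x * (α a)⁻¹ * (x⁻¹ * (α a * y * (α a)⁻¹ * y⁻¹)) := by group
            _ = α a * x * (α a)⁻¹ * ((α a * y * (α a)⁻¹ * y⁻¹) * x⁻¹) := by rw [hc]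
            _ = α a * (x * y) * (α a)⁻¹ * (x * y)⁻¹ := by group
        rwa [h2] at h1
      inv_mem' := by
        rintro x ⟨hx, hx'⟩
        refine ⟨Z.inv_mem hx, ?_⟩
        have h1 := K.inv_mem hx'
        have hc : x * (α a * x⁻¹ * (α a)⁻¹) = (α a * x⁻¹ * (α a)⁻¹) * x :=
          hZab _ hx _ (hZα a _ (Z.inv_mem hx))
        have h2 : (α a * x * (α a)⁻¹ * x⁻¹)⁻¹ = α a * x⁻¹ * (α a)⁻¹ * x⁻¹⁻¹ := by
          calc (α a * x * (α a)⁻¹ * x⁻¹)⁻¹ = x * (α a * x⁻¹ * (α a)⁻¹) := by group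
            _ = (α a * x⁻¹ * (α a)⁻¹) * x := hc
            _ = α a * x⁻¹ * (α a)⁻¹ * x⁻¹⁻¹ := by group
        rwa [h2] at h1 }
  have hKL : K ≤ L := by
    intro k hk
    refine ⟨hKZ hk, K.mul_mem ?_ (K.inv_mem hk)⟩
    have := conj_mem_conjSub (g := α a) hk
    rwa [haK] at this
  have hLZ : L ≤ Z := fun z hz => hz.1
  have hLK : L = K := by
    rcases eq_or_eq_of_index_prime hq hKL hLZ hcard with h | h
    · exact h
    · exfalso
      apply hnc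
      intro z hz
      have : z ∈ L := by rw [h]; exact hz
      exact this.2
  intro z hz
  have hz' : α a * z * (α a)⁻¹ ∈ Z := hZα a z hz
  have hy : z * (α a * z * (α a)⁻¹) ∈ L := by
    refine ⟨Z.mul_mem hz hz', ?_⟩
    have hinv : (α a)⁻¹ = α a := inv_eq_of_mul_eq_one_left hαa
    have h1 : α a * (z * (α a * z * (α a)⁻¹)) * (α a)⁻¹
        = (α a * z * (α a)⁻¹) * z := by
      calc α a * (z * (α a * z * (α a)⁻¹)) * (α a)⁻¹
          = (α a * z * (α a)⁻¹) * ((α a * α a) * z * ((α a)⁻¹ * (α a)⁻¹)) := by group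
        _ = (α a * z * (α a)⁻¹) * z := by
          rw [hαa, hinv, hαa, one_mul, mul_one]
    rw [h1, hZab _ hz' _ hz, mul_inv_cancel]
    exact K.one_mem
  rw [hLK] at hy
  exact hy

theorem cen_of_inverts_mul (hZab : ∀ a ∈ Z, ∀ b ∈ Z, a * b = b * a) (hZα : AInv α Z)
    {a b : Equiv.Perm (Fin 3)} (ha : Inv α Z K a) (hb : Inv α Z K b) : Cen α Z K (a * b) := by
  intro z hz
  have hz' : α b * z * (α b)⁻¹ ∈ Z := hZα b z hz
  have hX : α a * (α b * z * (α b)⁻¹) * (α a)⁻¹ ∈ Z := hZα a _ hz'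
  have h1 := hb z hz
  have h2 := ha _ hz'
  have h3 := K.mul_mem h2 (K.inv_mem h1)
  have h4 : (α b * z * (α b)⁻¹) * (α a * (α b * z * (α b)⁻¹) * (α a)⁻¹)
      * (z * (α b * z * (α b)⁻¹))⁻¹ = α (a * b) * z * (α (a * b))⁻¹ * z⁻¹ := by
    rw [hZab _ hz' _ hX, map_mul]
    group
  rwa [h4] at h3

theorem cen_mul_of_same {q : ℕ} (hq : q.Prime) (hZab : ∀ a ∈ Z, ∀ b ∈ Z, a * b = b * a)
    (hZα : AInv α Z) (hKZ : K ≤ Z) (hcard : Nat.card Z = q * Nat.card K)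
    (hall : ∀ g, conjSub (α g) K = K)
    {x y : Equiv.Perm (Fin 3)} (hx2 : x ^ 2 = 1) (hy2 : y ^ 2 = 1)
    (h : Cen α Z K x ↔ Cen α Z K y) : Cen α Z K (x * y) := by
  by_cases hx : Cen α Z K x
  · exact cen_mul hx (h.1 hx) (hall x)
  · have hy : ¬ Cen α Z K y := fun hy => hx (h.2 hy)
    exact cen_of_inverts_mul hZab hZα
      (inverts_of_not_cen hq hZab hZα hKZ hcard hx2 (hall x) hx)
      (inverts_of_not_cen hq hZab hZα hKZ hcard hy2 (hall y) hy)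

/-- When all of `S₃` normalizes `K`, some 3-cycle centralizes `Z/K`. -/
theorem exists_three_cycle_cen {q : ℕ} (hq : q.Prime)
    (hZab : ∀ a ∈ Z, ∀ b ∈ Z, a * b = b * a)
    (hZα : AInv α Z) (hKZ : K ≤ Z) (hcard : Nat.card Z = q * Nat.card K)
    (hall : ∀ g, conjSub (α g) K = K) :
    ∃ s : Equiv.Perm (Fin 3), s ≠ 1 ∧ s ^ 3 = 1 ∧ Cen α Z K s := by
  obtain ⟨a, b, c, -, -, -, ha2, hb2, hc2, hab, hac, hbc, hab3, hac3, hbc3⟩ := perm3_invols
  by_cases ha : Cen α Z K a <;> by_cases hb : Cen α Z K b <;> by_cases hc : Cen α Z K c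
  · exact ⟨a * b, hab, hab3, cen_mul_of_same hq hZab hZα hKZ hcard hall ha2 hb2 (by tauto)⟩
  · exact ⟨a * b, hab, hab3, cen_mul_of_same hq hZab hZα hKZ hcard hall ha2 hb2 (by tauto)⟩
  · exact ⟨a * c, hac, hac3, cen_mul_of_same hq hZab hZα hKZ hcard hall ha2 hc2 (by tauto)⟩
  · exact ⟨b * c, hbc, hbc3, cen_mul_of_same hq hZab hZα hKZ hcard hall hb2 hc2 (by tauto)⟩
  · exact ⟨b * c, hbc, hbc3, cen_mul_of_same hq hZab hZα hKZ hcard hall hb2 hc2 (by tauto)⟩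
  · exact ⟨a * c, hac, hac3, cen_mul_of_same hq hZab hZα hKZ hcard hall ha2 hc2 (by tauto)⟩
  · exact ⟨a * b, hab, hab3, cen_mul_of_same hq hZab hZα hKZ hcard hall ha2 hb2 (by tauto)⟩
  · exact ⟨a * b, hab, hab3, cen_mul_of_same hq hZab hZα hKZ hcard hall ha2 hb2 (by tauto)⟩

end Cen

end Cfsg.Agent.Lib.Helper15.S3
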