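import Mathlib
import Cfsg.Agent.Lib.Helper15.S3Weights

/-!
# The Mackey lemma and Step 1 for S4305
-/

set_option autoImplicit false

namespace Cfsg.Agent.Lib.Helper15.S3

universe u

variable {V : Type u} [CommGroup V] [Finite V]

/-- Mackey-type lemma: an element of the component `Wsub Z K` fixed by the stabilizer of `K`
in `S₃` is trivial (because its `S₃`-norm is a fixed point of `S₃`). -/
theorem mackey {q : ℕ} (hq : q.Prime) (α : Equiv.Perm (Fin 3) →* MulAut V)
    (hVfpf : ∀ v : V, (∀ g, α g v = v) → v = 1) (hV6 : (Nat.card V).Coprime 6)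
    (Z K : Subgroup (MulAut V)) (hZab : ∀ a ∈ Z, ∀ b ∈ Z, a * b = b * a) (hZα : AInv α Z)
    (hKZ : K ≤ Z) (hcard : Nat.card Z = q * Nat.card K)
    (hcop : (Nat.card V).Coprime (Nat.card Z)) {w : V} (hw : w ∈ Wsub Z K)
    (hfix : ∀ g, conjSub (α g) K = K → α g w = w) : w = 1 := by
  classical
  have hn : (∏ g : Equiv.Perm (Fin 3), α g w) = 1 := by
    apply hVfpf
    intro h
    rw [map_prod]
    apply Fintype.prod_equiv (Equiv.mulLeft h)
    intro g
    show α h (α g w) = α (h * g) w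
    rw [map_mul, MulAut.mul_apply]
  have h1 : normMap K (∏ g : Equiv.Perm (Fin 3), α g w) = 1 := by rw [hn, map_one]
  rw [map_prod] at h1
  have h3 : ∀ g : Equiv.Perm (Fin 3),
      normMap K (α g w) = if g ∈ stabK α K then w ^ Nat.card K else 1 := by
    intro g
    split_ifs with hg
    · rw [hfix g hg]
      exact normMap_Wsub_self hZab hKZ hw
    · have hK' : conjSub (α g) K ≤ Z := conjSub_le hKZ (hZα g)
      have hsup : K ⊔ conjSub (α g) K = Z :=
        sup_eq_of_index_prime hq hKZ hK' hcard (card_conjSub _ _) hg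
      exact normMap_Wsub_eq_one hZab hKZ hK' hsup hcop (apply_mem_Wsub (hZα g) hw)
  rw [Finset.prod_congr rfl (fun g _ => h3 g), Finset.prod_ite, Finset.prod_const_one, mul_one,
    Finset.prod_const, ← pow_mul] at h1
  have hcnt : (Finset.univ.filter (fun g => g ∈ stabK α K)).card = Nat.card (stabK α K) := by
    rw [Nat.card_eq_fintype_card, Fintype.card_subtype]
  have hdvd : Nat.card (stabK α K) ∣ 6 := by
    rw [← perm3_card]; exact Subgroup.card_subgroup_dvd_card _
  rw [hcnt] at h1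
  have hKdvd : Nat.card K ∣ Nat.card Z := Subgroup.card_dvd_of_le hKZ
  have hc : (Nat.card V).Coprime (Nat.card K * Nat.card (stabK α K)) :=
    Nat.Coprime.mul_right (hcop.coprime_dvd_right hKdvd) (hV6.coprime_dvd_right hdvd)
  exact eq_one_of_pow_card_coprime hc h1

/-- Frobenius-type fixed points: an element of the stabilizer of `K` not centralizing `Z/K`
has a nontrivial fixed point on every nontrivial invariant subgroup of the component. -/
theorem exists_fixed_of_not_cen (hFrob : FrobStatement.{u}) {q m : ℕ} (hq : q.Prime)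
    (hm : m.Prime) (α : Equiv.Perm (Fin 3) →* MulAut V) (Z K : Subgroup (MulAut V))
    (hZab : ∀ a ∈ Z, ∀ b ∈ Z, a * b = b * a) (hZα : AInv α Z)
    (hKZ : K ≤ Z) (hcard : Nat.card Z = q * Nat.card K)
    (hcop : (Nat.card V).Coprime (Nat.card Z))
    (g : Equiv.Perm (Fin 3)) (hgm : g ^ m = 1) (hnc : ¬ Cen α Z K g)
    (U : Subgroup V) (hU : U ≠ ⊥) (hUW : U ≤ Wsub Z K) (hUZ : ∀ z ∈ Z, ∀ u ∈ U, z u ∈ U)
    (hUg : ∀ u ∈ U, α g u ∈ U) : ∃ u ∈ U, u ≠ 1 ∧ α g u = u := by
  have hqV : (Nat.card V).Coprime q :=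
    hcop.coprime_dvd_right (by rw [hcard]; exact dvd_mul_right _ _)
  have hZU : Z ≤ stabSub U := fun z hz => mem_stabSub_of_forall (hUZ z hz)
  have hKU : U ≤ fixedSub K :=
    hUW.trans (Wsub_le_fixedSub (fun z hz k hk => hZab z hz k (hKZ hk)))
  have hUZ' : U ⊓ fixedSub Z = ⊥ := by
    rw [eq_bot_iff]
    intro x hx
    obtain ⟨hx1, hx2⟩ := Subgroup.mem_inf.1 hx
    rw [Subgroup.mem_bot]
    exact commSub_inf_fixedSub _ Z hcop (hUW hx1) hx2
  have hb : (α g) ^ m = 1 := by rw [← map_pow, hgm, map_one]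
  have hnc' : ∃ z ∈ Z, α g * z * (α g)⁻¹ * z⁻¹ ∉ K := by
    by_contra hcon
    push Not at hcon
    exact hnc hcon
  exact exists_fixed_of_frob hFrob hq hm hqV U hU Z K hKZ hcard hZU hKU hUZ' (α g)
    (mem_stabSub_of_forall hUg) hb (hZα g) hnc'

/-- Step 1. -/
theorem step1 (hFrob : FrobStatement.{u}) : Step1Statement.{u} := by
  intro V _ _ q hq α hVfpf hV6 Z K hZab hZα hKZ hcard hcop hW
  by_contra hcon
  have hnc : ∀ g : Equiv.Perm (Fin 3), g ≠ 1 → ¬ Cen α Z K g := by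
    intro g hg hc
    exact hcon ⟨g, hg, hc⟩
  have hfix : ∀ g : Equiv.Perm (Fin 3), g ≠ 1 → conjSub (α g) K = K →
      ∃ w ∈ Wsub Z K, w ≠ 1 ∧ α g w = w := by
    intro g hg hgK
    obtain ⟨m, hm, hgm⟩ : ∃ m : ℕ, m.Prime ∧ g ^ m = 1 := by
      rcases perm3_order g hg with h | h
      · exact ⟨2, Nat.prime_two, h⟩
      · exact ⟨3, Nat.prime_three, h⟩
    exact exists_fixed_of_not_cen hFrob hq hm α Z K hZab hZα hKZ hcard hcop g hgm (hnc g hg)
      (Wsub Z K) hW le_rfl (fun z hz u hu => Wsub_invariant hZab hKZ hz hu)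
      (fun u hu => apply_mem_Wsub_self (hZα g) hgK hu)
  by_cases hB : stabK α K = ⊤
  · have hall : ∀ g, conjSub (α g) K = K := by
      intro g
      have : g ∈ stabK α K := by rw [hB]; exact Subgroup.mem_top g
      exact this
    obtain ⟨s, hs1, -, hs⟩ := exists_three_cycle_cen hq hZab hZα hKZ hcard hall
    exact hnc s hs1 hs
  · obtain ⟨g₀, hg₀, hgen⟩ := perm3_cyclic_of_ne_top _ hB
    obtain ⟨w, hwW, hw1, hwg⟩ : ∃ w ∈ Wsub Z K, w ≠ 1 ∧ α g₀ w = w := by
      by_cases h1 : g₀ = 1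
      · obtain ⟨⟨w, hw⟩, hw1⟩ := (Subgroup.ne_bot_iff_exists_ne_one).1 hW
        refine ⟨w, hw, fun h => hw1 (Subtype.ext h), ?_⟩
        rw [h1, map_one]
        rfl
      · exact hfix g₀ h1 hg₀
    apply hw1
    apply mackey hq α hVfpf hV6 Z K hZab hZα hKZ hcard hcop hwW
    intro g hg
    obtain ⟨n, rfl⟩ := Subgroup.mem_zpowers_iff.1 (hgen g hg)
    rw [map_zpow]
    exact zpow_apply_eq_self hwg n

end Cfsg.Agent.Lib.Helper15.S3
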