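import Mathlib
import Cfsg.Agent.Lib.Helper15.S3Mackey
import Cfsg.Agent.Lib.Helper06.NormalRankTwo
import Cfsg.Agent.S0022

/-!
# Theorem T for S4305: an `S₃`-invariant `q`-group of automorphisms on which (and on whose module)
`S₃` is fixed-point-free is abelian
-/

set_option autoImplicit false

namespace Cfsg.Agent.Lib.Helper15.S3

universe u

open scoped commutatorElement

section General

variable {M : Type*} [Group M]

theorem ainv_conj_iff {α : Equiv.Perm (Fin 3) →* M} {X : Subgroup M} (h : AInv α X)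
    (g : Equiv.Perm (Fin 3)) (x : M) : x ∈ X ↔ α g * x * (α g)⁻¹ ∈ X := by
  constructor
  · exact h g x
  · intro hx
    have h1 := h g⁻¹ _ hx
    have h2 : α g⁻¹ * (α g * x * (α g)⁻¹) * (α g⁻¹)⁻¹ = x := by
      rw [map_inv]; group
    rwa [h2] at h1

theorem ainv_range_le_normalizer {α : Equiv.Perm (Fin 3) →* M} {X : Subgroup M}
    (h : AInv α X) : α.range ≤ Subgroup.normalizer (X : Set M) := by
  rintro _ ⟨g, rfl⟩
  rw [Subgroup.mem_normalizer_iff]
  intro x
  exact ainv_conj_iff h g x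

theorem ainv_map_conj {α : Equiv.Perm (Fin 3) →* M} {X : Subgroup M} (h : AInv α X)
    (g : Equiv.Perm (Fin 3)) : X.map (MulAut.conj (α g)).toMonoidHom = X := by
  ext x
  rw [Subgroup.mem_map]
  constructor
  · rintro ⟨y, hy, rfl⟩
    exact h g y hy
  · intro hx
    refine ⟨(α g)⁻¹ * x * α g, ?_, ?_⟩
    · rw [ainv_conj_iff h g]
      have : α g * ((α g)⁻¹ * x * α g) * (α g)⁻¹ = x := by group
      rwa [this]
    · show α g * ((α g)⁻¹ * x * α g) * (α g)⁻¹ = x
      group

theorem ainv_commutator {α : Equiv.Perm (Fin 3) →* M} {X : Subgroup M} (h : AInv α X) :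
    AInv α ⁅X, X⁆ := by
  intro g x hx
  have h1 : (MulAut.conj (α g)).toMonoidHom x ∈ (⁅X, X⁆).map (MulAut.conj (α g)).toMonoidHom :=
    Subgroup.mem_map_of_mem _ hx
  rw [Subgroup.map_commutator, ainv_map_conj h g] at h1
  exact h1

end General

variable {V : Type u} [CommGroup V]

/-- Fixed points of a single automorphism. -/
def fixOne (x : MulAut V) : Subgroup V where
  carrier := {v | x v = v}
  one_mem' := map_one x
  mul_mem' := by
    intro a b ha hb
    show x (a * b) = a * b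
    rw [map_mul, show x a = a from ha, show x b = b from hb]
  inv_mem' := by
    intro a ha
    show x a⁻¹ = a⁻¹
    rw [map_inv, show x a = a from ha]

theorem mem_fixOne {x : MulAut V} {v : V} : v ∈ fixOne x ↔ x v = v := Iff.rfl

/-- Automorphisms fixing `U` pointwise. -/
def pointwiseFix (U : Subgroup V) : Subgroup (MulAut V) where
  carrier := {m | ∀ u ∈ U, m u = u}
  one_mem' := fun _ _ => rfl
  mul_mem' := by
    intro a b ha hb u hu
    rw [MulAut.mul_apply, hb u hu, ha u hu]
  inv_mem' := by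
    intro a ha u hu
    have := MulAut.inv_apply_self _ a u
    rwa [ha u hu] at this

theorem mem_pointwiseFix {U : Subgroup V} {m : MulAut V} :
    m ∈ pointwiseFix U ↔ ∀ u ∈ U, m u = u := Iff.rfl

/-- If `x` commutes with `Q` on the invariant subgroup `U` then `[Q, ⟨x⟩]` acts trivially
on `U`. -/
theorem comm_le_pointwiseFix (U : Subgroup V) (Q : Subgroup (MulAut V)) (x : MulAut V)
    (hQU : Q ≤ stabSub U) (hxU : x ∈ stabSub U)
    (hc : ∀ y ∈ Q, ∀ u ∈ U, x (y u) = y (x u)) :
    ⁅Q, Subgroup.zpowers x⁆ ≤ pointwiseFix U := by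
  rw [Subgroup.commutator_le]
  intro y hy z hz
  obtain ⟨n, rfl⟩ := Subgroup.mem_zpowers_iff.1 hz
  have hcomm : Commute (resHom U ⟨x, hxU⟩) (resHom U ⟨y, hQU hy⟩) := by
    ext u
    exact hc y hy u u.2
  have h1 : resHom U ⁅(⟨y, hQU hy⟩ : stabSub U), (⟨x, hxU⟩ : stabSub U) ^ n⁆ = 1 := by
    rw [map_commutatorElement, map_zpow, commutatorElement_eq_one_iff_commute]
    exact (hcomm.zpow_left n).symm
  intro u hu
  have h2 := congrArg (fun f : MulAut U => ((f ⟨u, hu⟩ : U) : V)) h1
  exact h2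

section Main

variable [Finite V]

theorem coprime6_ne {t r : ℕ} (ht6 : t.Coprime 6) (hr : r = 2 ∨ r = 3) : t ≠ r := by
  rintro rfl
  rcases hr with rfl | rfl
  · exact absurd ht6 (by decide)
  · exact absurd ht6 (by decide)

/-- Theorem T. -/
theorem theoremT (hHol : HolStatement.{u}) (hFrob : FrobStatement.{u})
    (hComm : CommStatement.{u}) (hHyp : HyperplaneStatement.{u}) : TheoremTStatement.{u} := by
  intro V _ _ t q ht hq htq ht6 hq6 hV α hVfpf Q hQ hQα hQfpf
  by_contra hnab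
  push Not at hnab
  obtain ⟨x₀, hx₀, y₀, hy₀, hxy⟩ := hnab
  have hqF : Fact q.Prime := ⟨hq⟩
  have htF : Fact t.Prime := ⟨ht⟩
  have hq2 : q ≠ 2 := coprime6_ne hq6 (Or.inl rfl)
  -- the commutator subgroup of `Q` is nontrivial
  have hcomm_ne : commutator Q ≠ ⊥ := by
    intro h
    apply hxy
    have h1 : ⁅(⟨x₀, hx₀⟩ : Q), ⟨y₀, hy₀⟩⁆ ∈ commutator Q :=
      Subgroup.commutator_mem_commutator (Subgroup.mem_top _) (Subgroup.mem_top _)
    rw [h, Subgroup.mem_bot, commutatorElement_eq_one_iff_mul_comm] at h1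
    exact congrArg Subtype.val h1
  obtain ⟨z₀, hz₀N, hz₀1, hz₀q, hz₀c⟩ :=
    Cfsg.Agent.Lib.Helper06.exists_central_order_p_mem_normal hQ (commutator Q) hcomm_ne
  -- the subgroup `Z = Ω₁(Z(Q) ∩ Q')`
  let Z : Subgroup (MulAut V) :=
    { carrier := {z | z ∈ Q ∧ (∀ y ∈ Q, z * y = y * z) ∧ z ∈ ⁅Q, Q⁆ ∧ z ^ q = 1}
      one_mem' := ⟨Q.one_mem, fun y _ => by rw [one_mul, mul_one], Subgroup.one_mem _, one_pow _⟩
      mul_mem' := by
        rintro a b ⟨ha, hac, had, haq⟩ ⟨hb, hbc, hbd, hbq⟩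
        refine ⟨Q.mul_mem ha hb, fun y hy => ?_, Subgroup.mul_mem _ had hbd, ?_⟩
        · rw [mul_assoc, hbc y hy, ← mul_assoc, hac y hy, mul_assoc]
        · have hab : Commute a b := hac b hb
          rw [hab.mul_pow, haq, hbq, one_mul]
      inv_mem' := by
        rintro a ⟨ha, hac, had, haq⟩
        refine ⟨Q.inv_mem ha, fun y hy => ?_, Subgroup.inv_mem _ had, by rw [inv_pow, haq, inv_one]⟩
        exact ((show Commute a y from hac y hy).inv_left).eq }
  have hZQ : Z ≤ Q := fun z hz => hz.1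
  have hZab : ∀ a ∈ Z, ∀ b ∈ Z, a * b = b * a := fun a ha b hb => ha.2.1 b hb.1
  have hZexp : ∀ z ∈ Z, z ^ q = 1 := fun z hz => hz.2.2.2
  have hZ1 : Z ≠ ⊥ := by
    intro h
    apply hz₀1
    have hmem : (z₀ : MulAut V) ∈ Z := by
      refine ⟨z₀.2, fun y hy => ?_, ?_, ?_⟩
      · have := (Subgroup.mem_center_iff.1 hz₀c) ⟨y, hy⟩
        exact (congrArg Subtype.val this).symm
      · rw [← Subgroup.map_subtype_commutator]
        exact Subgroup.mem_map_of_mem _ hz₀N
      · have := congrArg Subtype.val hz₀q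
        simpa using this
    rw [h, Subgroup.mem_bot] at hmem
    exact Subtype.ext hmem
  have hZα : AInv α Z := by
    intro g z hz
    refine ⟨hQα g z hz.1, fun y hy => ?_, ainv_commutator hQα g z hz.2.2.1, ?_⟩
    · have hy' : (α g)⁻¹ * y * α g ∈ Q := by
        have := hQα g⁻¹ y hy
        rwa [map_inv, inv_inv] at this
      have h1 := hz.2.1 _ hy'
      calc α g * z * (α g)⁻¹ * y = α g * (z * ((α g)⁻¹ * y * α g)) * (α g)⁻¹ := by group
        _ = α g * (((α g)⁻¹ * y * α g) * z) * (α g)⁻¹ := by rw [h1]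
        _ = y * (α g * z * (α g)⁻¹) := by group
    · rw [conj_pow, hz.2.2.2, mul_one, mul_inv_cancel]
  -- orders
  have hVp : IsPGroup t V := fun v => ⟨1, by rw [pow_one]; exact hV v⟩
  obtain ⟨m, hm⟩ := IsPGroup.iff_card.1 hVp
  obtain ⟨nQ, hnQ⟩ := IsPGroup.iff_card.1 hQ
  obtain ⟨k, hk⟩ := IsPGroup.iff_card.1 (hQ.to_le hZQ)
  have hcop : (Nat.card V).Coprime (Nat.card Z) := by
    rw [hm, hk]
    exact Nat.Coprime.pow _ _ ((Nat.coprime_primes ht hq).2 htq)
  have hV6 : (Nat.card V).Coprime 6 := by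
    rw [hm]; exact Nat.Coprime.pow_left _ ht6
  have hcQ6 : (Nat.card Q).Coprime 6 := by
    rw [hnQ]; exact Nat.Coprime.pow_left _ hq6
  have hcZ6 : (Nat.card Z).Coprime 6 := by
    rw [hk]; exact Nat.Coprime.pow_left _ hq6
  have hQnil : Group.IsNilpotent Q := hQ.isNilpotent
  obtain ⟨K, hKZ, hcard, hW⟩ := hHyp hq Z hZab hZexp hZ1 hcop
  have hKne : K ≠ Z := by
    intro h
    rw [h] at hcard
    have hpos : 0 < Nat.card Z := Nat.card_pos
    have : 2 ≤ q := hq.two_le
    nlinarith
  have hQW : ∀ y ∈ Q, ∀ w ∈ Wsub Z K, y w ∈ Wsub Z K := by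
    intro y hy w hw
    apply apply_mem_Wsub_self _ _ hw
    · intro z hz
      rw [← hz.2.1 y hy, mul_inv_cancel_right]
      exact hz
    · exact conjSub_eq_self_of_comm (fun k hk => ((hKZ hk).2.1 y hy).symm)
  have hWZ : ∀ x ∈ Wsub Z K, x ∈ fixedSub Z → x = 1 := fun x hx hx' =>
    commSub_inf_fixedSub _ Z hcop hx hx'
  -- fact (i): fixed points from the holomorph statement
  have hfix1 : ∀ g : Equiv.Perm (Fin 3), g ≠ 1 → conjSub (α g) K = K →
      ∃ w ∈ Wsub Z K, w ≠ 1 ∧ α g w = w := by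
    intro g hg hgK
    obtain ⟨r, hr, hr23, hgr⟩ : ∃ r : ℕ, r.Prime ∧ (r = 2 ∨ r = 3) ∧ g ^ r = 1 := by
      rcases perm3_order g hg with h | h
      · exact ⟨2, Nat.prime_two, Or.inl rfl, h⟩
      · exact ⟨3, Nat.prime_three, Or.inr rfl, h⟩
    have htr : t ≠ r := coprime6_ne ht6 hr23
    have hqr : q ≠ r := coprime6_ne hq6 hr23
    have hgW : α g ∈ stabSub (Wsub Z K) :=
      mem_stabSub_of_forall (fun u hu => apply_mem_Wsub_self (hZα g) hgK hu)
    have hQW' : Q ≤ stabSub (Wsub Z K) := fun y hy => mem_stabSub_of_forall (hQW y hy)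
    apply exists_fixed_of_hol hHol ht hq hr htq htr hqr hq2 hV (Wsub Z K) hW Q hQ hQW' (α g) hgW
      (by rw [← map_pow, hgr, map_one]) (hQα g)
    by_contra hcon
    push Not at hcon
    have hT : ⁅Q, Subgroup.zpowers (α g)⁆ ≤ pointwiseFix (Wsub Z K) :=
      comm_le_pointwiseFix _ Q (α g) hQW' hgW hcon
    have h2 : ⁅Q, Q⁆ ≤ ⁅Q, Subgroup.zpowers (α g)⁆ := hComm α Q hQα hQfpf hcQ6 hQnil g hg
    apply hW
    rw [eq_bot_iff]
    intro w hw
    rw [Subgroup.mem_bot]
    exact hWZ w hw (fun z hz => hT (h2 hz.2.2.1) w hw)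
  by_cases hB : stabK α K = ⊤
  · have hall : ∀ g, conjSub (α g) K = K := by
      intro g
      have : g ∈ stabK α K := by rw [hB]; exact Subgroup.mem_top g
      exact this
    obtain ⟨s, hs1, hs3, hsc⟩ := exists_three_cycle_cen hq hZab hZα hKZ hcard hall
    obtain ⟨w₀, hw₀W, hw₀1, hw₀s⟩ := hfix1 s hs1 (hall s)
    have hW0 : Wsub Z K ⊓ fixOne (α s) ≠ ⊥ := by
      intro h
      have : w₀ ∈ Wsub Z K ⊓ fixOne (α s) := Subgroup.mem_inf.2 ⟨hw₀W, hw₀s⟩
      rw [h, Subgroup.mem_bot] at this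
      exact hw₀1 this
    have hWK : Wsub Z K ≤ fixedSub K :=
      Wsub_le_fixedSub (fun z hz k hk => hZab z hz k (hKZ hk))
    have hW0Z : ∀ z ∈ Z, ∀ u ∈ Wsub Z K ⊓ fixOne (α s), z u ∈ Wsub Z K ⊓ fixOne (α s) := by
      intro z hz u hu
      obtain ⟨hu1, hu2⟩ := Subgroup.mem_inf.1 hu
      have hzu : z u ∈ Wsub Z K := Wsub_invariant hZab hKZ hz hu1
      refine Subgroup.mem_inf.2 ⟨hzu, ?_⟩
      show α s (z u) = z u
      have hk := hsc z hz
      have h1 : α s (z u) = (α s * z * (α s)⁻¹ * z⁻¹) (z (α s u)) := by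
        simp only [MulAut.mul_apply, MulAut.inv_apply_self]
      rw [h1, show α s u = u from hu2]
      exact hWK hzu _ hk
    obtain ⟨a, -, -, ha1, -, -, ha2, -⟩ := perm3_invols
    have hW0a : ∀ u ∈ Wsub Z K ⊓ fixOne (α s), α a u ∈ Wsub Z K ⊓ fixOne (α s) := by
      intro u hu
      obtain ⟨hu1, hu2⟩ := Subgroup.mem_inf.1 hu
      refine Subgroup.mem_inf.2 ⟨apply_mem_Wsub_self (hZα a) (hall a) hu1, ?_⟩
      show α s (α a u) = α a u
      have hconj := perm3_conj s a hs1 hs3 ha1 ha2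
      have h1 : α s⁻¹ u = u := by
        rw [map_inv]
        have := MulAut.inv_apply_self _ (α s) u
        rwa [show α s u = u from hu2] at this
      calc α s (α a u) = α (s * a) u := by rw [map_mul, MulAut.mul_apply]
        _ = α (a * s⁻¹) u := by rw [hconj]
        _ = α a (α s⁻¹ u) := by rw [map_mul, MulAut.mul_apply]
        _ = α a u := by rw [h1]
    by_cases hac : Cen α Z K a
    · -- all of `S₃` centralizes `Z/K`
      have hss : Cen α Z K (s * s) := cen_mul hsc hsc (hall s)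
      have hallc : ∀ g, Cen α Z K g := by
        intro g
        rcases perm3_gen s a g hs1 hs3 ha1 ha2 with rfl | rfl | rfl | rfl | rfl | rfl
        · intro z hz
          rw [map_one, one_mul, inv_one, mul_one, mul_inv_cancel]
          exact K.one_mem
        · exact hsc
        · exact hss
        · exact hac
        · exact cen_mul hsc hac (hall _)
        · exact cen_mul hss hac (hall _)
      have hZsolv : Group.IsSolvable Z :=
        Group.isSolvable_of_comm (fun a b => Subtype.ext (hZab a a.2 b b.2))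
      have hcopA : (Nat.card α.range).Coprime (Nat.card Z) := by
        have h1 : Nat.card α.range ∣ 6 := by
          rw [← perm3_card]; exact Subgroup.card_range_dvd α
        exact (hcZ6.coprime_dvd_right h1).symm
      have hKnormal : Z ≤ Subgroup.normalizer (K : Set (MulAut V)) := by
        intro z hz
        rw [Subgroup.mem_normalizer_iff]
        intro k
        constructor
        · intro hk
          rw [hZab z hz k (hKZ hk), mul_inv_cancel_right]
          exact hk
        · intro hk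
          have h1 : k = z⁻¹ * (z * k * z⁻¹) * z := by group
          have h2 : z⁻¹ * (z * k * z⁻¹) = (z * k * z⁻¹) * z⁻¹ :=
            hZab _ (Z.inv_mem hz) _ (hKZ hk)
          rw [h1, h2, inv_mul_cancel_right]
          exact hk
      have hKA : α.range ≤ Subgroup.normalizer (K : Set (MulAut V)) := by
        rintro _ ⟨g, rfl⟩
        rw [Subgroup.mem_normalizer_iff]
        intro k
        constructor
        · intro hk
          have := conj_mem_conjSub (g := α g) hk
          rwa [hall g] at this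
        · intro hk
          rw [← hall g] at hk
          obtain ⟨k', hk', hkk⟩ := mem_conjSub.1 hk
          have : k' = k := by
            have h1 : (α g)⁻¹ * (α g * k' * (α g)⁻¹) * α g = (α g)⁻¹ * (α g * k * (α g)⁻¹) * α g := by
              rw [hkk]
            simpa [mul_assoc] using h1
          rwa [← this]
      have hZK : Z ≤ K := by
        intro z hz
        obtain ⟨c, hc, hck⟩ := Cfsg.Agent.S0022.result α.range Z (ainv_range_le_normalizer hZα)
          hcopA (Or.inr hZsolv) K hKZ hKnormal hKA z hz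
          (by rintro _ ⟨g, rfl⟩; exact hallc g z hz)
        obtain ⟨hcZ, hcc⟩ := Subgroup.mem_inf.1 hc
        have hc1 : c = 1 := by
          apply hQfpf c (hZQ hcZ)
          intro g
          exact (Subgroup.mem_centralizer_iff.1 hcc) (α g) ⟨g, rfl⟩
        rw [hc1, mul_one] at hck
        have := K.inv_mem hck
        rwa [inv_inv] at this
      exact hKne (le_antisymm hKZ hZK)
    · obtain ⟨w, hwW0, hw1, hwa⟩ := exists_fixed_of_not_cen hFrob hq Nat.prime_two α Z K hZab hZα
        hKZ hcard hcop a ha2 hac _ hW0 inf_le_left hW0Z hW0a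
      apply hw1
      apply hVfpf
      intro g
      have hws : α s w = w := (Subgroup.mem_inf.1 hwW0).2
      rcases perm3_gen s a g hs1 hs3 ha1 ha2 with rfl | rfl | rfl | rfl | rfl | rfl <;>
        simp [map_mul, MulAut.mul_apply, hws, hwa]
  · obtain ⟨g₀, hg₀, hgen⟩ := perm3_cyclic_of_ne_top _ hB
    obtain ⟨w, hwW, hw1, hwg⟩ : ∃ w ∈ Wsub Z K, w ≠ 1 ∧ α g₀ w = w := by
      by_cases h1 : g₀ = 1
      · obtain ⟨⟨w, hw⟩, hw1⟩ := (Subgroup.ne_bot_iff_exists_ne_one).1 hW
        refine ⟨w, hw, fun h => hw1 (Subtype.ext h), ?_⟩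
        rw [h1, map_one]
        rfl
      · exact hfix1 g₀ h1 hg₀
    apply hw1
    apply mackey hq α hVfpf hV6 Z K hZab hZα hKZ hcard hcop hwW
    intro g hg
    obtain ⟨n, rfl⟩ := Subgroup.mem_zpowers_iff.1 (hgen g hg)
    rw [map_zpow]
    exact zpow_apply_eq_self hwg n

end Main

end Cfsg.Agent.Lib.Helper15.S3
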