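import Mathlib
import Cfsg.Agent.Lib.Helper15.S3Spec2

/-!
# Third layer of black-box statements for S4305 (E1, E3, E4; see notes/S4305Spec.lean.txt)
-/

set_option autoImplicit false

namespace Cfsg.Agent.Lib.Helper15.S3

/-- (E1) a nilpotent `S₃`-invariant group of automorphisms without `t`-elements is abelian. -/
def E1Statement.{u} : Prop :=
  ∀ {V : Type u} [CommGroup V] [Finite V]
    {t : ℕ} (_ht : t.Prime) (_ht6 : t.Coprime 6) (_hV : ∀ v : V, v ^ t = 1)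
    (α : Equiv.Perm (Fin 3) →* MulAut V) (_hVfpf : ∀ v : V, (∀ g, α g v = v) → v = 1)
    (X : Subgroup (MulAut V)) (_hXα : AInv α X) (_hXfpf : AFpf α X)
    (_hXcop : (Nat.card X).Coprime 6) (_hXnil : Group.IsNilpotent X)
    (_hXt : ∀ x ∈ X, x ^ t = 1 → x = 1),
    ∀ x ∈ X, ∀ y ∈ X, x * y = y * x

/-- (E3) a maximal `r`-subgroup of `H` centralizing the `r'`-elements of the abelian derived
subgroup is normal. -/
def E3Statement.{u} : Prop :=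
  ∀ {M : Type u} [Group M] [Finite M] (H R : Subgroup M) (r : ℕ)
    [Fact r.Prime] (_hRH : R ≤ H) (_hR : IsPGroup r R)
    (_hRmax : ∀ R' : Subgroup M, R ≤ R' → R' ≤ H → IsPGroup r R' → R' = R)
    (_hDab : ∀ x ∈ ⁅H, H⁆, ∀ y ∈ ⁅H, H⁆, x * y = y * x)
    (_hcent : ∀ d ∈ ⁅H, H⁆, (orderOf d).Coprime r → ∀ x ∈ R, x * d = d * x),
    H ≤ Subgroup.normalizer (R : Set M)

/-- (E4) no three-layer configuration. -/
def E4Statement.{u} : Prop :=
  ∀ {V : Type u} [CommGroup V] [Finite V] {t : ℕ} (_ht : t.Prime)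
    (_ht6 : t.Coprime 6) (_hV : ∀ v : V, v ^ t = 1)
    (α : Equiv.Perm (Fin 3) →* MulAut V) (_hVfpf : ∀ v : V, (∀ g, α g v = v) → v = 1)
    (r : ℕ) [Fact r.Prime] (_hr6 : r.Coprime 6) (Q₁ R₀ : Subgroup (MulAut V))
    (_hQab : ∀ x ∈ Q₁, ∀ y ∈ Q₁, x * y = y * x) (_hQ6 : (Nat.card Q₁).Coprime 6)
    (_hQr : (Nat.card Q₁).Coprime r) (_hQt : (Nat.card Q₁).Coprime t)
    (_hR : IsPGroup r R₀) (_hRQ : R₀ ≤ Subgroup.normalizer (Q₁ : Set (MulAut V)))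
    (_hQα : AInv α Q₁) (_hRα : AInv α R₀) (_hQfpf : AFpf α Q₁) (_hRfpf : AFpf α R₀)
    (_hab : ⁅R₀, R₀⁆ ≤ Subgroup.centralizer (Q₁ : Set (MulAut V))),
    R₀ ≤ Subgroup.centralizer (Q₁ : Set (MulAut V))

end Cfsg.Agent.Lib.Helper15.S3
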