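import Mathlib
import Cfsg.Agent.Lib.Helper15.S3PGroup
import Cfsg.Agent.Lib.Helper15.S3Spec3
import Cfsg.Agent.S0023

/-!
# `PropB` from the statements E1, E3, E4 (S4305)
-/

set_option autoImplicit false

namespace Cfsg.Agent.Lib.Helper15.S3

universe u

theorem le_normalizer_of_conj {M : Type*} [Group M] (H X : Subgroup M)
    (h : ∀ g ∈ H, ∀ x ∈ X, g * x * g⁻¹ ∈ X) : H ≤ Subgroup.normalizer (X : Set M) := by
  intro g hg
  rw [Subgroup.mem_normalizer_iff]
  intro x
  constructor
  · exact h g hg x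
  · intro hx
    have h1 := h g⁻¹ (H.inv_mem hg) _ hx
    have e : g⁻¹ * (g * x * g⁻¹) * g⁻¹⁻¹ = x := by group
    rwa [e] at h1

/-- A nilpotent subgroup `N` normalized by `H`, where `H` has no nontrivial normal `t`-subgroup,
has no elements of order `t`. -/
theorem no_t_elements {M : Type*} [Group M] [Finite M] (H N : Subgroup M) (hNH : N ≤ H)
    (hHN : ∀ h ∈ H, ∀ x ∈ N, h * x * h⁻¹ ∈ N) (hnil : Group.IsNilpotent N) (t : ℕ)
    [Fact t.Prime]
    (hOt : ∀ T : Subgroup M, T ≤ H → IsPGroup t T → H ≤ Subgroup.normalizer (T : Set M) → T = ⊥) :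
    ∀ d ∈ N, d ^ t = 1 → d = 1 := by
  obtain ⟨P⟩ : Nonempty (Sylow t N) := inferInstance
  have hPn : (P : Subgroup N).Normal := inferInstance
  have hU : Unique (Sylow t N) := Sylow.unique_of_normal P hPn
  have hsub : ∀ X : Subgroup N, IsPGroup t X → X ≤ P := by
    intro X hX
    obtain ⟨P', hP'⟩ := hX.exists_le_sylow
    have : P' = P := by rw [hU.uniq P', hU.uniq P]
    rw [← this]
    exact hP'
  have hTN : (P : Subgroup N).map N.subtype ≤ N := by
    rintro _ ⟨x, _, rfl⟩
    exact x.2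
  have hTp : IsPGroup t ((P : Subgroup N).map N.subtype) := P.2.map N.subtype
  have hconj : ∀ h ∈ H, ∀ x ∈ (P : Subgroup N).map N.subtype,
      h * x * h⁻¹ ∈ (P : Subgroup N).map N.subtype := by
    intro h hh x hx
    have hT'p : IsPGroup t (((P : Subgroup N).map N.subtype).map (MulAut.conj h).toMonoidHom) :=
      hTp.map _
    have hT'N : ((P : Subgroup N).map N.subtype).map (MulAut.conj h).toMonoidHom ≤ N := by
      rintro _ ⟨y, hy, rfl⟩
      exact hHN h hh y (hTN hy)
    have hX : IsPGroup t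
        ((((P : Subgroup N).map N.subtype).map (MulAut.conj h).toMonoidHom).subgroupOf N) :=
      hT'p.comap_of_injective N.subtype Subtype.val_injective
    have h1 := hsub _ hX
    have hmem : h * x * h⁻¹ ∈ ((P : Subgroup N).map N.subtype).map (MulAut.conj h).toMonoidHom :=
      ⟨x, hx, rfl⟩
    have h2 : (⟨h * x * h⁻¹, hT'N hmem⟩ : N) ∈
        (((P : Subgroup N).map N.subtype).map (MulAut.conj h).toMonoidHom).subgroupOf N := hmem
    exact ⟨⟨h * x * h⁻¹, hT'N hmem⟩, h1 h2, rfl⟩
  have hnorm : H ≤ Subgroup.normalizer (((P : Subgroup N).map N.subtype : Subgroup M) : Set M) :=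
    le_normalizer_of_conj H _ hconj
  have hT1 : (P : Subgroup N).map N.subtype = ⊥ := hOt _ (hTN.trans hNH) hTp hnorm
  intro d hd hdt
  have hX : IsPGroup t (Subgroup.zpowers (⟨d, hd⟩ : N)) := by
    rintro ⟨y, hy⟩
    refine ⟨1, ?_⟩
    obtain ⟨n, rfl⟩ := Subgroup.mem_zpowers_iff.1 hy
    apply Subtype.ext
    have h0 : (⟨d, hd⟩ : N) ^ t = 1 := Subtype.ext hdt
    show ((⟨d, hd⟩ : N) ^ n) ^ (t ^ 1) = 1
    rw [pow_one, ← zpow_natCast, ← zpow_mul, mul_comm, zpow_mul, zpow_natCast, h0, one_zpow]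
  have h1 := hsub _ hX (Subgroup.mem_zpowers _)
  have h2 : d ∈ (P : Subgroup N).map N.subtype := ⟨⟨d, hd⟩, h1, rfl⟩
  rw [hT1, Subgroup.mem_bot] at h2
  exact h2

/-- `PropB` from the black boxes. -/
theorem propB_of (hE1 : E1Statement.{u}) (hE3 : E3Statement.{u}) (hE4 : E4Statement.{u}) :
    PropB.{u} := by
  intro V _ _ t ht ht6 hV α H hHα hsol hcop hHfpf hVfpf hOt hnil
  have htF : Fact t.Prime := ⟨ht⟩
  -- `H` normalizes its derived subgroup
  have hHD : ∀ h ∈ H, ∀ x ∈ ⁅H, H⁆, h * x * h⁻¹ ∈ ⁅H, H⁆ := by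
    intro h hh x hx
    have hmap : H.map (MulAut.conj h).toMonoidHom = H := by
      ext y
      rw [Subgroup.mem_map]
      constructor
      · rintro ⟨z, hz, rfl⟩
        exact H.mul_mem (H.mul_mem hh hz) (H.inv_mem hh)
      · intro hy
        refine ⟨h⁻¹ * y * h, H.mul_mem (H.mul_mem (H.inv_mem hh) hy) hh, ?_⟩
        show h * (h⁻¹ * y * h) * h⁻¹ = y
        group
    have h1 : (MulAut.conj h).toMonoidHom x ∈ (⁅H, H⁆).map (MulAut.conj h).toMonoidHom :=
      Subgroup.mem_map_of_mem _ hx
    rw [Subgroup.map_commutator, hmap] at h1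
    exact h1
  have hDH : ⁅H, H⁆ ≤ H := Subgroup.commutator_le_self H
  have hDt := no_t_elements H ⁅H, H⁆ hDH hHD hnil t hOt
  have hDα : AInv α ⁅H, H⁆ := ainv_commutator hHα
  have hDfpf : AFpf α ⁅H, H⁆ := fun x hx h => hHfpf x (hDH hx) h
  have hDcop : (Nat.card (⁅H, H⁆ : Subgroup (MulAut V))).Coprime 6 :=
    hcop.coprime_dvd_left (Subgroup.card_dvd_of_le hDH)
  have hDab := hE1 ht ht6 hV α hVfpf ⁅H, H⁆ hDα hDfpf hDcop hnil hDt
  have hcopA : (Nat.card α.range).Coprime (Nat.card H) := by
    have h1 : Nat.card α.range ∣ 6 := by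
      rw [← perm3_card]; exact Subgroup.card_range_dvd α
    exact (hcop.coprime_dvd_right h1).symm
  -- all Sylow subgroups of `H` are normal
  have hSyl : ∀ (r : ℕ) (hr : Fact r.Prime) (P : Sylow r H), (P : Subgroup H).Normal := by
    intro r hr P
    by_cases hr6 : r.Coprime 6
    · obtain ⟨P₀, hP₀⟩ := Cfsg.Agent.S0023.result α.range H (ainv_range_le_normalizer hHα) hcopA
        (Or.inr hsol) r
      have hRH : (P₀ : Subgroup H).map H.subtype ≤ H := by
        rintro _ ⟨x, _, rfl⟩
        exact x.2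
      have hRr : IsPGroup r ((P₀ : Subgroup H).map H.subtype) := P₀.2.map _
      have hRα : AInv α ((P₀ : Subgroup H).map H.subtype) := fun g x hx =>
        ((Subgroup.mem_normalizer_iff.1 (hP₀ ⟨g, rfl⟩)) x).1 hx
      have hRmax : ∀ R' : Subgroup (MulAut V), (P₀ : Subgroup H).map H.subtype ≤ R' → R' ≤ H →
          IsPGroup r R' → R' = (P₀ : Subgroup H).map H.subtype := by
        intro R' h1 h2 h3
        have h4 : IsPGroup r (R'.subgroupOf H) :=
          h3.comap_of_injective H.subtype Subtype.val_injective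
        have h5 : (P₀ : Subgroup H) ≤ R'.subgroupOf H := by
          intro x hx
          exact h1 ⟨x, hx, rfl⟩
        have h6 := P₀.is_maximal' h4 h5
        apply le_antisymm
        · intro x hx
          have h7 : (⟨x, h2 hx⟩ : H) ∈ R'.subgroupOf H := hx
          rw [h6] at h7
          exact ⟨⟨x, h2 hx⟩, h7, rfl⟩
        · exact h1
      -- the `r'`-part of the derived subgroup
      let Q₁ : Subgroup (MulAut V) :=
        { carrier := {d | d ∈ ⁅H, H⁆ ∧ (orderOf d).Coprime r}
          one_mem' := ⟨Subgroup.one_mem _, by rw [orderOf_one]; exact Nat.coprime_one_left r⟩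
          mul_mem' := by
            rintro a b ⟨ha, ha'⟩ ⟨hb, hb'⟩
            refine ⟨Subgroup.mul_mem _ ha hb, ?_⟩
            have hc : Commute a b := hDab a ha b hb
            have h1 : orderOf (a * b) ∣ orderOf a * orderOf b :=
              hc.orderOf_mul_dvd_lcm.trans (Nat.lcm_dvd_mul _ _)
            exact Nat.Coprime.coprime_dvd_left h1 (Nat.Coprime.mul_left ha' hb')
          inv_mem' := by
            rintro a ⟨ha, ha'⟩
            exact ⟨Subgroup.inv_mem _ ha, by rw [orderOf_inv]; exact ha'⟩ }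
      have hQD : Q₁ ≤ ⁅H, H⁆ := fun x hx => hx.1
      have hQab : ∀ x ∈ Q₁, ∀ y ∈ Q₁, x * y = y * x := fun x hx y hy => hDab x hx.1 y hy.1
      have hQ6 : (Nat.card Q₁).Coprime 6 :=
        hcop.coprime_dvd_left (Subgroup.card_dvd_of_le (hQD.trans hDH))
      have hQr : (Nat.card Q₁).Coprime r := by
        by_contra hnc
        have hdvd : r ∣ Nat.card Q₁ := by
          rw [Nat.Prime.dvd_iff_not_coprime hr.out]
          exact fun h => hnc h.symm
        obtain ⟨x, hx⟩ := exists_prime_orderOf_dvd_card' r hdvd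
        have h1 : (orderOf (x : MulAut V)).Coprime r := x.2.2
        rw [Subgroup.orderOf_coe, hx, Nat.coprime_self] at h1
        exact hr.out.one_lt.ne' h1
      have hQt : (Nat.card Q₁).Coprime t := by
        by_contra hnc
        have hdvd : t ∣ Nat.card Q₁ := by
          rw [Nat.Prime.dvd_iff_not_coprime ht]
          exact fun h => hnc h.symm
        obtain ⟨x, hx⟩ := exists_prime_orderOf_dvd_card' t hdvd
        have h1 : (x : MulAut V) ^ t = 1 := by
          have := pow_orderOf_eq_one x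
          rw [hx] at this
          simpa using congrArg Subtype.val this
        have h2 : (x : MulAut V) = 1 := hDt _ x.2.1 h1
        have h3 : x = 1 := Subtype.ext h2
        rw [h3, orderOf_one] at hx
        exact ht.one_lt.ne hx
      have hconjQ : ∀ h ∈ H, ∀ d ∈ Q₁, h * d * h⁻¹ ∈ Q₁ := by
        intro h hh d hd
        refine ⟨hHD h hh d hd.1, ?_⟩
        have : orderOf (h * d * h⁻¹) = orderOf d := (MulAut.conj h).orderOf_eq d
        rw [this]
        exact hd.2
      have hQα : AInv α Q₁ := by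
        intro g d hd
        refine ⟨hDα g d hd.1, ?_⟩
        have : orderOf (α g * d * (α g)⁻¹) = orderOf d := (MulAut.conj (α g)).orderOf_eq d
        rw [this]
        exact hd.2
      have hQfpf : AFpf α Q₁ := fun x hx h => hHfpf x (hDH hx.1) h
      have hRfpf : AFpf α ((P₀ : Subgroup H).map H.subtype) := fun x hx h => hHfpf x (hRH hx) h
      have hRQ : (P₀ : Subgroup H).map H.subtype ≤ Subgroup.normalizer (Q₁ : Set (MulAut V)) :=
        hRH.trans (le_normalizer_of_conj H Q₁ hconjQ)
      have hab : ⁅(P₀ : Subgroup H).map H.subtype, (P₀ : Subgroup H).map H.subtype⁆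
          ≤ Subgroup.centralizer (Q₁ : Set (MulAut V)) := by
        intro c hc
        have hcD : c ∈ ⁅H, H⁆ := Subgroup.commutator_mono hRH hRH hc
        rw [Subgroup.mem_centralizer_iff]
        intro d hd
        exact hDab d hd.1 c hcD
      have hcent := hE4 ht ht6 hV α hVfpf r hr6 Q₁ ((P₀ : Subgroup H).map H.subtype) hQab hQ6 hQr
        hQt hRr hRQ hQα hRα hQfpf hRfpf hab
      have hnormR := hE3 H ((P₀ : Subgroup H).map H.subtype) r hRH hRr hRmax hDab
        (fun d hd hdr x hx => ((Subgroup.mem_centralizer_iff.1 (hcent hx)) d ⟨hd, hdr⟩).symm)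
      have hP₀n : (P₀ : Subgroup H).Normal := by
        constructor
        intro n hn g
        have hg := hnormR g.2
        have h1 := (Subgroup.mem_normalizer_iff.1 hg (n : MulAut V)).1 ⟨n, hn, rfl⟩
        obtain ⟨y, hy, hyeq⟩ := h1
        have h2 : y = g * n * g⁻¹ := Subtype.ext hyeq
        rwa [← h2]
      have hU := Sylow.unique_of_normal P₀ hP₀n
      have hPP : P = P₀ := by rw [hU.uniq P, hU.uniq P₀]
      rw [hPP]
      exact hP₀n
    · -- `r ∣ 6`: the Sylow subgroup is trivial
      have hr6' : r ∣ 6 := (Nat.Prime.dvd_iff_not_coprime hr.out).2 hr6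
      obtain ⟨n, hn⟩ := IsPGroup.iff_card.1 P.2
      have hn0 : n = 0 := by
        by_contra h0
        have h1 : r ∣ Nat.card (P : Subgroup H) := by
          rw [hn]; exact dvd_pow_self r h0
        have h2 : r ∣ Nat.card H := h1.trans (Subgroup.card_subgroup_dvd_card _)
        have h3 : r ∣ Nat.gcd (Nat.card H) 6 := Nat.dvd_gcd h2 hr6'
        rw [hcop] at h3
        exact hr.out.one_lt.ne' (Nat.dvd_one.1 h3)
      rw [hn0, pow_zero] at hn
      have hbot : (P : Subgroup H) = ⊥ := Subgroup.card_eq_one.1 hn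
      rw [hbot]
      infer_instance
  have hHnil : Group.IsNilpotent H := (Group.isNilpotent_of_finite_tfae.out 0 3).2 hSyl
  have hHt := no_t_elements H H le_rfl
    (fun h hh x hx => H.mul_mem (H.mul_mem hh hx) (H.inv_mem hh)) hHnil t hOt
  exact hE1 ht ht6 hV α hVfpf H hHα hHfpf hcop hHnil hHt

end Cfsg.Agent.Lib.Helper15.S3
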