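import Mathlib
import Cfsg.Agent.Lib.Helper15.S3Res
import Cfsg.Agent.Lib.Helper15.S3Spec2
import Cfsg.Agent.Lib.Helper29.HyperplaneAbs

/-!
# The hyperplane lemma for S4305: existence of a component `Wsub Z K ≠ 1`
-/

set_option autoImplicit false

namespace Cfsg.Agent.Lib.Helper15.S3

universe u

theorem hyperplane : HyperplaneStatement.{u} := by
  intro V _ _ q hq Z hZab hZexp hZ1 hcop
  classical
  have hqF : Fact q.Prime := ⟨hq⟩
  have hU1 : commSub (⊤ : Subgroup V) Z ≠ ⊥ := by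
    intro h
    apply hZ1
    rw [eq_bot_iff]
    intro z hz
    rw [Subgroup.mem_bot]
    ext v
    have h1 : z v * v⁻¹ ∈ commSub (⊤ : Subgroup V) Z := commSub_mem hz (Subgroup.mem_top v)
    rw [h, Subgroup.mem_bot, mul_inv_eq_one] at h1
    simpa using h1
  -- a prime `p` dividing the order of `[V, Z]`
  have hcard1 : Nat.card (commSub (⊤ : Subgroup V) Z) ≠ 1 := fun h =>
    hU1 (Subgroup.card_eq_one.1 h)
  obtain ⟨p, hp, hpd⟩ := Nat.exists_prime_and_dvd hcard1
  have hpF : Fact p.Prime := ⟨hp⟩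
  obtain ⟨x, hx⟩ := exists_prime_orderOf_dvd_card' p hpd
  -- the `p`-torsion of `[V, Z]`
  let U' : Subgroup V :=
    { carrier := {u | u ∈ commSub (⊤ : Subgroup V) Z ∧ u ^ p = 1}
      one_mem' := ⟨Subgroup.one_mem _, one_pow _⟩
      mul_mem' := by
        rintro a b ⟨ha, ha'⟩ ⟨hb, hb'⟩
        exact ⟨Subgroup.mul_mem _ ha hb, by rw [mul_pow, ha', hb', one_mul]⟩
      inv_mem' := by
        rintro a ⟨ha, ha'⟩
        exact ⟨Subgroup.inv_mem _ ha, by rw [inv_pow, ha', inv_one]⟩ }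
  have hU'1 : U' ≠ ⊥ := by
    intro h
    have hxU : (x : V) ∈ U' := by
      refine ⟨x.2, ?_⟩
      have := pow_orderOf_eq_one x
      rw [hx] at this
      simpa using congrArg Subtype.val this
    rw [h, Subgroup.mem_bot] at hxU
    have hx1 : x = 1 := Subtype.ext hxU
    rw [hx1, orderOf_one] at hx
    exact hp.one_lt.ne hx
  have hU'Z : ∀ z ∈ Z, ∀ u ∈ U', z u ∈ U' := by
    rintro z hz u ⟨hu, hu'⟩
    refine ⟨?_, by rw [← map_pow, hu', map_one]⟩
    have h1 : z u * u⁻¹ ∈ commSub (⊤ : Subgroup V) Z := commSub_mem hz (Subgroup.mem_top u)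
    have h2 := Subgroup.mul_mem _ h1 hu
    simpa using h2
  have hZU : Z ≤ stabSub U' := fun z hz => mem_stabSub_of_forall (hU'Z z hz)
  let f : Z →* MulAut U' := (resHom U').comp (Subgroup.inclusion hZU)
  let _inst : MulDistribMulAction Z U' := MulDistribMulAction.compHom U' f
  have hsmul : ∀ (z : Z) (u : U'), ((z • u : U') : V) = (z : MulAut V) u := fun _ _ => rfl
  -- `q ≠ p`
  have hqp : q ≠ p := by
    intro h
    obtain ⟨⟨z, hz⟩, hz1⟩ := (Subgroup.ne_bot_iff_exists_ne_one).1 hZ1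
    have hz1' : z ≠ 1 := fun h => hz1 (Subtype.ext h)
    have hord : orderOf z = q := orderOf_eq_prime (hZexp z hz) hz1'
    have hqZ : q ∣ Nat.card Z := by
      have : orderOf (⟨z, hz⟩ : Z) ∣ Nat.card Z := orderOf_dvd_natCard _
      rwa [Subgroup.orderOf_mk, hord] at this
    have hpV : p ∣ Nat.card V := hpd.trans (Subgroup.card_subgroup_dvd_card _)
    have h1 : q ∣ Nat.gcd (Nat.card V) (Nat.card Z) := Nat.dvd_gcd (h ▸ hpV) hqZ
    rw [hcop] at h1
    exact hq.one_lt.ne' (Nat.dvd_one.1 h1)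
  have hV' : IsPGroup p U' := fun u => ⟨1, by rw [pow_one]; exact Subtype.ext u.2.2⟩
  obtain ⟨B, hB, v, hv1, hvB⟩ := Cfsg.Agent.Lib.Helper29.exists_hyperplane_fixed (A := Z) q p hqp
    (fun a b => Subtype.ext (hZab a a.2 b b.2))
    (fun a => Subtype.ext (by simpa using hZexp a a.2)) U' hV'
    ((Subgroup.nontrivial_iff_ne_bot _).2 hU'1)
  let K : Subgroup (MulAut V) := B.map Z.subtype
  have hKZ : K ≤ Z := by
    rintro _ ⟨b, _, rfl⟩
    exact b.2
  have hcardK : Nat.card K = Nat.card B := Subgroup.card_map_of_injective Z.subtype_injective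
  have hvK : ((v : U') : V) ∈ fixedSub K := by
    rintro _ ⟨b, hb, rfl⟩
    exact congrArg Subtype.val (hvB b hb)
  have hvU : ((v : U') : V) ∈ commSub (⊤ : Subgroup V) Z := v.2.1
  have hKne : K ≠ Z := by
    intro h
    apply hv1
    apply Subtype.ext
    exact commSub_inf_fixedSub ⊤ Z hcop hvU (h ▸ hvK)
  -- the index is exactly `q`
  have hZp : IsPGroup q Z := fun z => ⟨1, by rw [pow_one]; exact Subtype.ext (by simpa using hZexp z z.2)⟩
  have hKp : IsPGroup q K := hZp.to_le hKZ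
  obtain ⟨n, hn⟩ := IsPGroup.iff_card.1 hZp
  obtain ⟨k, hk⟩ := IsPGroup.iff_card.1 hKp
  have hlt : Nat.card K < Nat.card Z := by
    rcases lt_or_eq_of_le (Subgroup.card_le_of_le hKZ) with h | h
    · exact h
    · exact absurd (Subgroup.eq_of_le_of_card_ge hKZ (le_of_eq h.symm)) hKne
  have hcardZ : Nat.card Z = q * Nat.card K := by
    rw [hcardK] at hk hlt
    rw [hcardK, hn, hk, ← pow_succ']
    rw [hn, hk] at hB hlt
    rw [← pow_succ'] at hB
    have h1 : k < n := (Nat.pow_lt_pow_iff_right hq.one_lt).1 hlt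
    have h2 : n ≤ k + 1 := (Nat.pow_le_pow_iff_right hq.one_lt).1 hB
    have : n = k + 1 := by omega
    rw [this]
  -- a nontrivial element of the component
  have hmem : ((v : U') : V) ^ Nat.card Z ∈ Wsub Z K := by
    have h1 : normMap Z ((v : U') : V) = 1 := normMap_commSub ⊤ Z hvU
    have hft : Fintype Z := Fintype.ofFinite Z
    have h2 : ((v : U') : V) ^ Nat.card Z
        = ∏ z : Z, (((v : U') : V) * ((z : MulAut V) ((v : U') : V))⁻¹) := by
      rw [Finset.prod_mul_distrib, Finset.prod_inv_distrib, ← normMap_apply, h1, inv_one, mul_one,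
        Finset.prod_const, Finset.card_univ, Nat.card_eq_fintype_card]
    rw [h2]
    apply Subgroup.prod_mem
    intro z _
    have h3 : (z : MulAut V) ((v : U') : V) * ((v : U') : V)⁻¹ ∈ Wsub Z K := commSub_mem z.2 hvK
    have h4 := (Wsub Z K).inv_mem h3
    rwa [mul_inv_rev, inv_inv] at h4
  have hne : ((v : U') : V) ^ Nat.card Z ≠ 1 := fun h =>
    hv1 (Subtype.ext (eq_one_of_pow_card_coprime hcop h))
  refine ⟨K, hKZ, hcardZ, fun h => hne ?_⟩
  rw [h, Subgroup.mem_bot] at hmem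
  exact hmem

end Cfsg.Agent.Lib.Helper15.S3
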