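import Mathlib
import Cfsg.Agent.Lib.Helper15.S3Glue
import Cfsg.Agent.Lib.Helper15.S3Hyper
import Cfsg.Agent.Lib.Helper32.S3Hol
import Cfsg.Agent.Lib.Helper32.S3Frob
import Cfsg.Agent.Lib.Helper73.S3D4
import Cfsg.Agent.Lib.Helper75.S3Reduce
import Cfsg.Agent.Lib.Helper23.S3.E1
import Cfsg.Agent.Lib.Helper39.S3E3
import Cfsg.Agent.Lib.Helper31.S3E4

/-!
# Assembly of S4305 from the pieces (everything except the three-layer elimination `b3core`)
-/

set_option autoImplicit false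

namespace Cfsg.Agent.Lib.Helper15.S3

universe u

theorem holStatement : HolStatement.{u} :=
  fun hp hq hr hpq hpr hqr hq2 hW Q hQ x hx hxQ hnc =>
    Cfsg.Agent.Lib.Helper32.S3Hol.s3765_hol hp hq hr hpq hpr hqr hq2 hW Q hQ x hx hxQ hnc

theorem frobStatement : FrobStatement.{u} :=
  fun hq hm hqW Z hZ hZfpf b hb hbZ hnc =>
    Cfsg.Agent.Lib.Helper32.S3Frob.frob_fix hq hm hqW Z hZ hZfpf b hb hbZ hnc

theorem commStatement : CommStatement.{u} :=
  fun α Q hinv hfpf hcop hnil g hg =>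
    Cfsg.Agent.Lib.Helper73.S3D4.comm_le_comm_elt α Q hinv hfpf hcop hnil g hg

theorem theoremTStatement : TheoremTStatement.{u} :=
  theoremT holStatement frobStatement commStatement hyperplane

theorem step1Statement : Step1Statement.{u} := step1 frobStatement

theorem e1Statement : E1Statement.{u} :=
  fun ht ht6 hV α hVfpf X hXα hXfpf hXcop hXnil hXt =>
    Cfsg.Agent.Lib.Helper23.S3E1.abelian_of_nilpotent theoremTStatement ht ht6 hV α hVfpf X hXα
      hXfpf hXcop hXnil hXt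

theorem e3Statement : E3Statement.{u} :=
  fun H R r _ hRH hR hRmax hDab hcent =>
    Cfsg.Agent.Lib.Helper39.S3E3.sylow_normal_of_centralizes H R r hRH hR hRmax hDab hcent

theorem e4Statement (hB3 : B3Statement.{u}) : E4Statement.{u} :=
  fun ht ht6 hV α hVfpf r _ hr6 Q₁ R₀ hQab hQ6 hQr hQt hR hRQ hQα hRα hQfpf hRfpf hab =>
    Cfsg.Agent.Lib.Helper31.S3E4.no_three_layer hyperplane step1Statement hB3 ht ht6 hV α hVfpf r
      hr6 Q₁ R₀ hQab hQ6 hQr hQt hR hRQ hQα hRα hQfpf hRfpf hab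

theorem propB_of_b3 (hB3 : B3Statement.{u}) : PropB.{u} :=
  propB_of e1Statement e3Statement (e4Statement hB3)

/-- S4305 modulo the three-layer elimination. -/
theorem s4305_of_b3 (hB3 : B3Statement.{u}) {G : Type u} [Group G] [Finite G]
    [Group.IsSolvable G] [MulDistribMulAction (Equiv.Perm (Fin 3)) G]
    (hcop : (Nat.card G).Coprime 6)
    (hfpf : ∀ g : G, (∀ a : Equiv.Perm (Fin 3), a • g = g) → g = 1) :
    Group.IsNilpotent ↥(commutator G) :=
  Cfsg.Agent.Lib.Helper75.S3Reduce.s4305_of_propB (propB_of_b3 hB3) hcop hfpf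

end Cfsg.Agent.Lib.Helper15.S3
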