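import Mathlib
import Cfsg.Agent.Lib.Helper14.SchurTwoD

/-!
K-S2037-H (for helper95): instances of the hypothesis `hKD` for degrees 7 and 8.
-/

set_option autoImplicit false

namespace Cfsg.Agent.Lib.Helper15.SchurTwo

open Cfsg.Agent.Lib.Helper14.SchurTwo

/-- generic version of K-D for a surjection onto a group isomorphic to `Alt 7`. -/
theorem eq_top_of_surj_alt_seven {A E : Type*} [Group A] [Group E] [Finite E]
    (eA : A ≃* alternatingGroup (Fin 7)) (π : E →* A) (hπ : Function.Surjective π)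
    (S : Subgroup E) (hS : π.ker ≤ S) (h16 : S.index ≤ 16) (h5 : S.index % 5 = 1) : S = ⊤ := by
  have e : E ⧸ π.ker ≃* alternatingGroup (Fin 7) :=
    (QuotientGroup.quotientKerEquivOfSurjective π hπ).trans eA
  exact eq_top_of_index_alt_seven π.ker e S hS h16 h5

theorem hKD_of_alt_seven {A E : Type*} [Group A] [Group E] [Finite E]
    (eA : A ≃* alternatingGroup (Fin 7)) (π : E →* A) (hπ : Function.Surjective π)
    (S : Subgroup E) (hS : π.ker ≤ S) (c : A)
    (h : ∀ F : Subgroup E, (∀ x : E, π x = c → x ∈ F) →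
      S.relIndex F ≤ 16 ∧ S.relIndex F % 5 = 1) : S = ⊤ := by
  have h1 := h ⊤ (fun x _ => Subgroup.mem_top x)
  rw [Subgroup.relIndex_top_right] at h1
  exact eq_top_of_surj_alt_seven eA π hπ S hS h1.1 h1.2

theorem hKD_of_alt_eight {A E : Type*} [Group A] [Group E] [Finite E]
    (A₇ : Subgroup A) (e₇ : ↥A₇ ≃* alternatingGroup (Fin 7)) (h8 : A₇.index = 8)
    (π : E →* A) (hπ : Function.Surjective π)
    (S : Subgroup E) (hS : π.ker ≤ S) (c : A) (hc : c ∈ A₇)
    (h : ∀ F : Subgroup E, (∀ x : E, π x = c → x ∈ F) →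
      S.relIndex F ≤ 16 ∧ S.relIndex F % 5 = 1) : S = ⊤ := by
  set F : Subgroup E := A₇.comap π with hF
  have hFc : ∀ x : E, π x = c → x ∈ F := by
    intro x hx
    rw [hF, Subgroup.mem_comap, hx]
    exact hc
  have h1 := h F hFc
  -- the restricted surjection `F → A₇`
  let ρ : ↥F →* ↥A₇ := (π.comp F.subtype).codRestrict A₇ (fun x => x.2)
  have hρ : Function.Surjective ρ := by
    rintro ⟨a, ha⟩
    obtain ⟨x, rfl⟩ := hπ a
    exact ⟨⟨x, ha⟩, rfl⟩
  have hker : ρ.ker ≤ S.subgroupOf F := by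
    intro x hx
    rw [Subgroup.mem_subgroupOf]
    apply hS
    rw [MonoidHom.mem_ker] at hx ⊢
    have := congrArg Subtype.val hx
    exact this
  have hidx : (S.subgroupOf F).index = S.relIndex F := rfl
  have hFS : S.subgroupOf F = ⊤ :=
    eq_top_of_surj_alt_seven e₇ ρ hρ (S.subgroupOf F) hker (hidx ▸ h1.1) (hidx ▸ h1.2)
  have hFleS : F ≤ S := Subgroup.subgroupOf_eq_top.mp hFS
  have hFidx : F.index = 8 := by
    rw [hF, Subgroup.index_comap_of_surjective A₇ hπ, h8]
  have hdvd : S.index ∣ 8 := hFidx ▸ Subgroup.index_dvd_of_le hFleS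
  have h2 := h ⊤ (fun x _ => Subgroup.mem_top x)
  rw [Subgroup.relIndex_top_right] at h2
  have hs : S.index = 1 := by
    have hle : S.index ≤ 8 := Nat.le_of_dvd (by norm_num) hdvd
    obtain ⟨h5, h6⟩ := h2
    have hpos : 0 < S.index := Nat.pos_of_ne_zero Subgroup.index_ne_zero_of_finite
    clear h h1 hidx hFS hFleS hFidx hker hFc hS
    generalize S.index = s at hdvd hle h5 h6 hpos
    interval_cases s <;> omega
  exact Subgroup.index_eq_one.mp hs

end Cfsg.Agent.Lib.Helper15.SchurTwo
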