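import Cfsg.Agent.Lib.Helper48.StODefs
import Cfsg.Agent.Lib.Helper86.StOR0a

/-!
# K-StO-C5b (keystone 254720, S2547 pack of helper48): `w0` exchanges `B` and `B⁻` (helper15, parallel hand)
-/

set_option autoImplicit false
set_option linter.unusedSectionVars false
set_option linter.unusedVariables false

namespace Cfsg.Agent.Lib.Helper15.StO

open Cfsg Cfsg.Agent.Lib.Helper48.StO Matrix

variable {m : ℕ} {F : Type*} [Field F]

theorem c5b_pos_le (a : OI m) : pos m a ≤ 2 * m := by
  rcases a with a | a | a <;> simp only [pos] <;> omega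

theorem c5b_dualE_mul_self : dualE m * dualE m = 1 := by
  ext a
  exact dualE_dualE m a

theorem c5b_w0Mat_mul_self : w0Mat m F * w0Mat m F = 1 := by
  unfold w0Mat
  rw [← Matrix.permMatrix_mul, c5b_dualE_mul_self, Matrix.permMatrix_one]

theorem c5b_mat_w0_inv : mat (w0 m F)⁻¹ = w0Mat m F := by
  rw [mat_inv, Cfsg.Agent.Lib.Helper86.StO.mat_w0]
  exact Matrix.inv_eq_right_inv c5b_w0Mat_mul_self

theorem c5b_entry (M : Matrix (OI m) (OI m) F) (a c : OI m) :
    (w0Mat m F * M * w0Mat m F) a c = M (dualE m a) (dualE m c) := by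
  unfold w0Mat Equiv.Perm.permMatrix
  rw [PEquiv.mul_toMatrix_toPEquiv, Matrix.submatrix_apply, PEquiv.toMatrix_toPEquiv_mul,
    Matrix.submatrix_apply]
  have h : (dualE m).symm c = dualE m c := by
    rw [Equiv.symm_apply_eq, dualE_dualE]
  rw [h]
  rfl

theorem conj_w0_mem_B_iff (b : OG m F) :
    (w0 m F)⁻¹ * b * w0 m F ∈ Bsub m F ↔ b ∈ Bminus m F := by
  rw [mem_Bsub_iff, mem_Bminus_iff]
  have hmat : mat ((w0 m F)⁻¹ * b * w0 m F) = w0Mat m F * mat b * w0Mat m F := by
    rw [mat_mul, mat_mul, c5b_mat_w0_inv, Cfsg.Agent.Lib.Helper86.StO.mat_w0]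
  rw [hmat]
  constructor
  · intro h a c hac
    have h1 := h (dualE m a) (dualE m c) (by
      rw [pos_dualE, pos_dualE]
      have := c5b_pos_le a
      have := c5b_pos_le c
      omega)
    rw [c5b_entry, dualE_dualE, dualE_dualE] at h1
    exact h1
  · intro h a c hac
    rw [c5b_entry]
    apply h
    rw [pos_dualE, pos_dualE]
    have := c5b_pos_le a
    have := c5b_pos_le c
    omega

end Cfsg.Agent.Lib.Helper15.StO
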