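import Cfsg.Agent.Lib.Helper15.PSolv

set_option autoImplicit false

namespace Cfsg.Agent.Lib.Helper15

open Cfsg

theorem upperPSeries_succ_even {G : Type*} [Group G] (p n : ℕ) (hn : Even n) :
    (upperPSeries p G (n + 1)).1 =
      (pPrimeCore p (G ⧸ (upperPSeries p G n).1)).comap (QuotientGroup.mk' _) := by
  rw [upperPSeries]
  simp [hn]

theorem upperPSeries_succ_odd {G : Type*} [Group G] (p n : ℕ) (hn : ¬ Even n) :
    (upperPSeries p G (n + 1)).1 =
      (pCore p (G ⧸ (upperPSeries p G n).1)).comap (QuotientGroup.mk' _) := by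
  rw [upperPSeries]
  simp [hn]

theorem upperPSeries_le_succ {G : Type*} [Group G] (p n : ℕ) :
    (upperPSeries p G n).1 ≤ (upperPSeries p G (n + 1)).1 := by
  by_cases hn : Even n
  · rw [upperPSeries_succ_even p n hn]
    exact QuotientGroup.le_comap_mk' _ _
  · rw [upperPSeries_succ_odd p n hn]
    exact QuotientGroup.le_comap_mk' _ _

theorem upperPSeries_mono {G : Type*} [Group G] (p : ℕ) {m n : ℕ} (h : m ≤ n) :
    (upperPSeries p G m).1 ≤ (upperPSeries p G n).1 := by
  induction n, h using Nat.le_induction with
  | base => exact le_rfl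
  | succ n _ ih => exact ih.trans (upperPSeries_le_succ p n)

/-- third isomorphism theorem form for preimages of a core-like functor -/
theorem comap_core_quotient {G : Type*} [Group G]
    (core : ∀ (Y : Type _) [Group Y], Subgroup Y)
    (hcore : ∀ (Y Z : Type _) [Group Y] [Group Z] (e : Y ≃* Z),
      (core Y).map e.toMonoidHom = core Z)
    (K M : Subgroup G) [K.Normal] [M.Normal] (hKM : K ≤ M)
    (V : Subgroup (G ⧸ K)) [hVn : V.Normal] (hV : V = M.map (QuotientGroup.mk' K)) :
    (core ((G ⧸ K) ⧸ V)).comap (QuotientGroup.mk' V) =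
      ((core (G ⧸ M)).comap (QuotientGroup.mk' M)).map (QuotientGroup.mk' K) := by
  subst hV
  have h1 := hcore _ _ (QuotientGroup.quotientQuotientEquivQuotient K M hKM)
  rw [← h1]
  have hcomp : QuotientGroup.mk' M =
      ((QuotientGroup.quotientQuotientEquivQuotient K M hKM).toMonoidHom.comp
        (QuotientGroup.mk' (M.map (QuotientGroup.mk' K)))).comp (QuotientGroup.mk' K) := by
    ext x
    rfl
  conv_rhs => rw [hcomp]
  have hinj : Function.Injective
      (QuotientGroup.quotientQuotientEquivQuotient K M hKM).toMonoidHom :=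
    (QuotientGroup.quotientQuotientEquivQuotient K M hKM).injective
  rw [← Subgroup.comap_comap, ← Subgroup.comap_comap,
    Subgroup.comap_map_eq_self_of_injective hinj,
    Subgroup.map_comap_eq_self_of_surjective (QuotientGroup.mk'_surjective K)]

end Cfsg.Agent.Lib.Helper15

namespace Cfsg.Agent.Lib.Helper15

open Cfsg

/-- the upper p-series of the quotient by an even term of the upper p-series -/
theorem upperPSeries_quotient {G : Type*} [Group G] (p m : ℕ) (hm : Even m) (n : ℕ) :
    (upperPSeries p (G ⧸ (upperPSeries p G m).1) n).1 =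
      (upperPSeries p G (n + m)).1.map (QuotientGroup.mk' (upperPSeries p G m).1) := by
  induction n with
  | zero =>
    rw [zero_add, QuotientGroup.map_mk'_self]
    rfl
  | succ n ih =>
    have hadd : n + 1 + m = (n + m) + 1 := by omega
    have hKM : (upperPSeries p G m).1 ≤ (upperPSeries p G (n + m)).1 :=
      upperPSeries_mono p (Nat.le_add_left m n)
    by_cases hn : Even n
    · have hnm : Even (n + m) := hn.add hm
      rw [upperPSeries_succ_even p n hn, hadd, upperPSeries_succ_even p (n + m) hnm]
      exact comap_core_quotient (fun Y _ => pPrimeCore p Y)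
        (fun Y Z _ _ e => pPrimeCore_map_equiv p e) _ _ hKM _ ih
    · have hnm : ¬ Even (n + m) := by
        intro h
        apply hn
        have := (Nat.even_add.mp h)
        exact this.mpr hm
      rw [upperPSeries_succ_odd p n hn, hadd, upperPSeries_succ_odd p (n + m) hnm]
      exact comap_core_quotient (fun Y _ => pCore p Y)
        (fun Y Z _ _ e => pCore_map_equiv p e) _ _ hKM _ ih

/-- p-length of `G / U_{2j}` at most `k` gives p-length of `G` at most `k + j` -/
theorem pLengthLE_of_quotient {G : Type*} [Group G] (p j k : ℕ)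
    (h : PLengthLE p k (G ⧸ (upperPSeries p G (2 * j)).1)) : PLengthLE p (k + j) G := by
  unfold PLengthLE at h ⊢
  rw [upperPSeries_quotient p (2 * j) ⟨j, by ring⟩] at h
  have h1 : 2 * k + 1 + 2 * j = 2 * (k + j) + 1 := by ring
  rw [h1] at h
  have hle : (upperPSeries p G (2 * j)).1 ≤ (upperPSeries p G (2 * (k + j) + 1)).1 :=
    upperPSeries_mono p (by omega)
  have h2 := congrArg (Subgroup.comap (QuotientGroup.mk' (upperPSeries p G (2 * j)).1)) h
  rw [Subgroup.comap_map_eq, QuotientGroup.ker_mk', sup_of_le_left hle, Subgroup.comap_top] at h2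
  exact h2

end Cfsg.Agent.Lib.Helper15
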