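import Mathlib

/-!
# Averaging retraction onto the central part of a Sylow subgroup

If `T` is a `p`-subgroup of index prime to `p` in a finite group `H`, and `Z(T)` lies in an abelian normal
subgroup `A ≤ T` of `H`, then `T ∩ Z(H)` is a direct factor of `Z(T)`.
-/

set_option autoImplicit false

namespace Cfsg.Agent.Lib.Helper15.WC

open scoped Classical

variable {H : Type*} [Group H]

/-- conjugation by `g` restricted to a normal subgroup, as a monoid hom -/
noncomputable def conjA (A : Subgroup H) [hA : A.Normal] (g : H) : ↥A →* ↥A where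
  toFun a := ⟨g * a * g⁻¹, hA.conj_mem a a.2 g⟩
  map_one' := by ext; simp
  map_mul' a b := by ext; simp [mul_assoc]

theorem conjA_coe (A : Subgroup H) [A.Normal] (g : H) (a : ↥A) :
    ((conjA A g a : ↥A) : H) = g * a * g⁻¹ := rfl

theorem retract [Finite H] {p : ℕ} [hp : Fact p.Prime] (T A : Subgroup H) (hT : IsPGroup p ↥T)
    (hidx : ¬ p ∣ T.index) [hAn : A.Normal] (hAT : A ≤ T)
    (hAc : ∀ a ∈ A, ∀ b ∈ A, a * b = b * a)
    (hZ : T ⊓ Subgroup.centralizer (T : Set H) ≤ A) :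
    ∃ K : Subgroup H, K ≤ T ⊓ Subgroup.centralizer (T : Set H) ∧
      (T ⊓ Subgroup.center H) ⊓ K = ⊥ ∧
      (T ⊓ Subgroup.center H) ⊔ K = T ⊓ Subgroup.centralizer (T : Set H) ∧
      ∀ z ∈ T ⊓ Subgroup.centralizer (T : Set H), ∃ w ∈ T ⊓ Subgroup.center H, ∃ k ∈ K, z = w * k := by
  let _inst : CommGroup ↥A :=
    { (inferInstance : Group ↥A) with mul_comm := fun a b => Subtype.ext (hAc a a.2 b b.2) }
  have _instF : Fintype (H ⧸ T) := Fintype.ofFinite _
  set Z : Subgroup H := T ⊓ Subgroup.centralizer (T : Set H) with hZdef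
  -- the averaging map on A
  let τ : ↥A →* ↥A := ∏ q : H ⧸ T, conjA A q.out
  have hτ : ∀ a : ↥A, τ a = ∏ q : H ⧸ T, conjA A q.out a := by
    intro a
    simp [τ, MonoidHom.finsetProd_apply]
  -- F1: conjugation of z ∈ Z by g*t
  have F1 : ∀ z ∈ Z, ∀ g : H, ∀ t ∈ T, (g * t) * z * (g * t)⁻¹ = g * z * g⁻¹ := by
    intro z hz g t ht
    have hc : t * z = z * t := (Subgroup.mem_centralizer_iff.mp hz.2 t ht)
    calc (g * t) * z * (g * t)⁻¹ = g * (t * z) * t⁻¹ * g⁻¹ := by group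
      _ = g * (z * t) * t⁻¹ * g⁻¹ := by rw [hc]
      _ = g * z * g⁻¹ := by group
  -- F2: representative of h • q
  have F2 : ∀ (h : H) (q : H ⧸ T), ∃ t ∈ T, (h • q).out = h * q.out * t := by
    intro h q
    have e : h • q = ((h * q.out : H) : H ⧸ T) := by
      conv_lhs => rw [← QuotientGroup.out_eq' q]
      rfl
    obtain ⟨t, ht⟩ := QuotientGroup.mk_out_eq_mul T (h * q.out)
    refine ⟨t, t.2, ?_⟩
    rw [e]
    exact ht
  -- F3: τ z is H-invariant for z ∈ Z
  have F3 : ∀ z : ↥A, (z : H) ∈ Z → ∀ h : H, conjA A h (τ z) = τ z := by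
    intro z hz h
    rw [hτ, map_prod]
    have : ∀ q : H ⧸ T, conjA A h (conjA A q.out z) = conjA A (h • q).out z := by
      intro q
      obtain ⟨t, ht, e⟩ := F2 h q
      apply Subtype.ext
      rw [conjA_coe, conjA_coe, conjA_coe, e, F1 z hz (h * q.out) t ht]
      group
    simp_rw [this]
    exact Equiv.prod_comp (MulAction.toPerm h : Equiv.Perm (H ⧸ T)) (fun q => conjA A q.out z)
  have F4 : ∀ z : ↥A, (z : H) ∈ Z → ((τ z : ↥A) : H) ∈ T ⊓ Subgroup.center H := by
    intro z hz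
    refine Subgroup.mem_inf.mpr ⟨hAT (τ z).2, ?_⟩
    rw [Subgroup.mem_center_iff]
    intro h
    have := congrArg Subtype.val (F3 z hz h)
    rw [conjA_coe] at this
    calc h * (τ z : H) = (h * (τ z : H) * h⁻¹) * h := by group
      _ = (τ z : H) * h := by rw [this]
  -- F5: on central elements τ is the power map
  have F5 : ∀ w : ↥A, (w : H) ∈ Subgroup.center H → τ w = w ^ T.index := by
    intro w hw
    rw [hτ]
    have : ∀ q : H ⧸ T, conjA A q.out w = w := by
      intro q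
      apply Subtype.ext
      rw [conjA_coe]
      have := Subgroup.mem_center_iff.mp hw q.out
      calc q.out * (w : H) * q.out⁻¹ = (w : H) * q.out * q.out⁻¹ := by rw [this]
        _ = w := by group
    simp_rw [this]
    rw [Finset.prod_const, Finset.card_univ, Subgroup.index_eq_card, Nat.card_eq_fintype_card]
  have hWZ : T ⊓ Subgroup.center H ≤ Z := by
    intro x hx
    have hx' := Subgroup.mem_inf.mp hx
    refine Subgroup.mem_inf.mpr ⟨hx'.1, ?_⟩
    rw [Subgroup.mem_centralizer_iff]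
    intro t _
    exact (Subgroup.mem_center_iff.mp hx'.2 t)
  have hcop : ∀ x ∈ T, (T.index).Coprime (orderOf x) := by
    intro x hx
    obtain ⟨k, hk⟩ := hT ⟨x, hx⟩
    have hk' : x ^ p ^ k = 1 := by
      have := congrArg Subtype.val hk
      simpa using this
    have h1 : orderOf x ∣ p ^ k := orderOf_dvd_of_pow_eq_one hk'
    have h2 : (T.index).Coprime (p ^ k) :=
      Nat.Coprime.pow_right k ((Nat.Prime.coprime_iff_not_dvd hp.out).mpr hidx).symm
    exact Nat.Coprime.coprime_dvd_right h1 h2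
  -- the kernel
  let K : Subgroup H := (τ.ker.subgroupOf (Z.subgroupOf A)).map ((Z.subgroupOf A).subtype) |>.map A.subtype
  have hKmem : ∀ x : H, x ∈ K ↔ ∃ (hxA : x ∈ A), x ∈ Z ∧ τ ⟨x, hxA⟩ = 1 := by
    intro x
    constructor
    · rintro ⟨a, ⟨b, hb, rfl⟩, rfl⟩
      refine ⟨(b : ↥A).2, ?_, ?_⟩
      · exact b.2
      · have : (b : ↥A) ∈ τ.ker := hb
        exact MonoidHom.mem_ker.mp this
    · rintro ⟨hxA, hxZ, hx1⟩
      refine ⟨⟨x, hxA⟩, ⟨⟨⟨x, hxA⟩, hxZ⟩, ?_, rfl⟩, rfl⟩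
      show (⟨x, hxA⟩ : ↥A) ∈ τ.ker
      exact MonoidHom.mem_ker.mpr hx1
  have hdecomp : ∀ z ∈ Z, ∃ w ∈ T ⊓ Subgroup.center H, ∃ k ∈ K, z = w * k := by
    intro z hz
    have hzA : z ∈ A := hZ hz
    set y : ↥A := τ ⟨z, hzA⟩ with hy
    have hyW : (y : H) ∈ T ⊓ Subgroup.center H := F4 ⟨z, hzA⟩ hz
    obtain ⟨n, hn⟩ := exists_pow_eq_self_of_coprime (hcop (y : H) hyW.1)
    set w : ↥A := y ^ n with hw
    have hwW : (w : H) ∈ T ⊓ Subgroup.center H := by
      rw [hw]
      push_cast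
      exact Subgroup.pow_mem _ hyW n
    have hτw : τ w = y := by
      rw [F5 w hwW.2, hw, ← pow_mul, mul_comm, pow_mul]
      apply Subtype.ext
      push_cast
      exact hn
    have hk : w⁻¹ * ⟨z, hzA⟩ ∈ τ.ker := by
      rw [MonoidHom.mem_ker, map_mul, map_inv, hτw, ← hy, inv_mul_cancel]
    have hkK : (w : H)⁻¹ * z ∈ K := by
      rw [hKmem]
      refine ⟨A.mul_mem (A.inv_mem w.2) hzA, ?_, ?_⟩
      · exact Z.mul_mem (Z.inv_mem (hWZ hwW)) hz
      · exact MonoidHom.mem_ker.mp hk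
    exact ⟨(w : H), hwW, _, hkK, by group⟩
  refine ⟨K, ?_, ?_, ?_, hdecomp⟩
  · intro x hx
    obtain ⟨_, hxZ, _⟩ := (hKmem x).mp hx
    exact hxZ
  · rw [eq_bot_iff]
    intro x hx
    rw [Subgroup.mem_bot]
    obtain ⟨hxW, hxK⟩ := hx
    obtain ⟨hxA, hxZ, hx1⟩ := (hKmem x).mp hxK
    have h5 := F5 ⟨x, hxA⟩ hxW.2
    rw [hx1] at h5
    have h6 : x ^ T.index = 1 := by
      have := congrArg Subtype.val h5.symm
      simpa using this
    have h7 : orderOf x ∣ T.index := orderOf_dvd_of_pow_eq_one h6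
    have h8 := hcop x hxW.1
    have h9 : orderOf x = 1 := Nat.eq_one_of_dvd_coprimes h8.symm (dvd_refl _) h7
    exact orderOf_eq_one_iff.mp h9
  · apply le_antisymm
    · apply sup_le hWZ
      intro x hx
      obtain ⟨_, hxZ, _⟩ := (hKmem x).mp hx
      exact hxZ
    · intro z hz
      obtain ⟨w, hw, k, hk, rfl⟩ := hdecomp z hz
      exact Subgroup.mul_mem_sup hw hk

end Cfsg.Agent.Lib.Helper15.WC
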