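import Mathlib
import Cfsg.Prelude.Def_CaseTheorems
import Cfsg.Prelude.Def_Local
import Cfsg.Agent.Lib.Helper31.SolvPCon
import Cfsg.Agent.Lib.Helper40.Cores
import Cfsg.Agent.Lib.Helper40.Sylow
import Cfsg.Agent.Lib.Helper15.WCRetract

/-!
# Weakly closed elements of a Sylow subgroup form a direct factor of its centre: solvable case
-/

set_option autoImplicit false

namespace Cfsg.Agent.Lib.Helper15.WC

open Cfsg

/-- the conclusion of S1945 for the subgroup `S` -/
def Good {G : Type*} [Group G] (S W K : Subgroup G) : Prop :=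
  (∀ x : G, x ∈ W ↔ (x ∈ S ∧ ∀ g : G, g * x * g⁻¹ ∈ S → g * x * g⁻¹ = x)) ∧
    K ≤ S ⊓ Subgroup.centralizer (S : Set G) ∧ W ⊓ K = ⊥ ∧
    W ⊔ K = S ⊓ Subgroup.centralizer (S : Set G)

theorem solv_case {G : Type*} [Group G] [Finite G] {p : ℕ} [hp : Fact p.Prime] (S : Sylow p G)
    (hsol : Group.IsSolvable G) : ∃ W K : Subgroup G, Good (S : Subgroup G) W K := by
  set M : Subgroup G := pPrimeCore p G with hM
  set π : G →* G ⧸ M := QuotientGroup.mk' M with hπ
  have hπs : Function.Surjective π := QuotientGroup.mk'_surjective M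
  have hker : ∀ x : G, π x = 1 ↔ x ∈ M := fun x => QuotientGroup.eq_one_iff x
  have hSM : (S : Subgroup G) ⊓ M = ⊥ := Cfsg.Agent.Lib.Helper40.sylow_inf_pPrimeCore S
  -- injectivity on S
  have hinj : ∀ x ∈ (S : Subgroup G), ∀ y ∈ (S : Subgroup G), π x = π y → x = y := by
    intro x hx y hy hxy
    have h1 : π (x * y⁻¹) = 1 := by rw [map_mul, map_inv, hxy, mul_inv_cancel]
    have h2 : x * y⁻¹ ∈ (S : Subgroup G) ⊓ M :=
      Subgroup.mem_inf.mpr ⟨Subgroup.mul_mem _ hx (Subgroup.inv_mem _ hy), (hker _).mp h1⟩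
    rw [hSM, Subgroup.mem_bot] at h2
    exact mul_inv_eq_one.mp h2
  set T : Subgroup (G ⧸ M) := (S : Subgroup G).map π with hT
  have hTp : IsPGroup p ↥T := S.isPGroup'.map π
  have hidx : ¬ p ∣ T.index := by
    intro h
    exact S.not_dvd_index (dvd_trans h (Subgroup.index_map_dvd (S : Subgroup G) hπs))
  set O : Subgroup (G ⧸ M) := pCore p (G ⧸ M) with hO
  have hsolq : Group.IsSolvable (G ⧸ M) := inferInstance
  have hcent : Subgroup.centralizer (O : Set (G ⧸ M)) ≤ O :=
    Cfsg.Agent.Lib.Helper31.centralizer_pCore_le_of_solvable' p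
      (Cfsg.Agent.Lib.Helper40.pPrimeCore_quotient_eq_bot p G) inferInstance
  have hOT : O ≤ T := by
    have := Cfsg.Agent.Lib.Helper40.pCore_le_sylow' (IsPGroup.toSylow hTp hidx)
    rwa [IsPGroup.toSylow_coe] at this
  have hCn : (Subgroup.centralizer (O : Set (G ⧸ M))).Normal := Subgroup.normal_centralizer
  set A : Subgroup (G ⧸ M) := O ⊓ Subgroup.centralizer (O : Set (G ⧸ M)) with hA
  have hAn : A.Normal := inferInstance
  have hAT : A ≤ T := le_trans inf_le_left hOT
  have hAc : ∀ a ∈ A, ∀ b ∈ A, a * b = b * a := by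
    intro a ha b hb
    have ha' := Subgroup.mem_inf.mp ha
    have hb' := Subgroup.mem_inf.mp hb
    exact (Subgroup.mem_centralizer_iff.mp hb'.2 a ha'.1)
  have hZ : T ⊓ Subgroup.centralizer (T : Set (G ⧸ M)) ≤ A := by
    intro z hz
    have hz' := Subgroup.mem_inf.mp hz
    have hzc : z ∈ Subgroup.centralizer (O : Set (G ⧸ M)) :=
      Subgroup.centralizer_le hOT hz'.2
    exact Subgroup.mem_inf.mpr ⟨hcent hzc, hzc⟩
  obtain ⟨KH, hK1, hK2, -, hK4⟩ := retract T A hTp hidx hAT hAc hZ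
  -- elements of S with central image centralize S
  have hcS : ∀ x ∈ (S : Subgroup G), π x ∈ Subgroup.centralizer (T : Set (G ⧸ M)) →
      x ∈ Subgroup.centralizer ((S : Subgroup G) : Set G) := by
    intro x hx hc
    rw [Subgroup.mem_centralizer_iff]
    intro s hs
    apply hinj _ (Subgroup.mul_mem _ hs hx) _ (Subgroup.mul_mem _ hx hs)
    rw [map_mul, map_mul]
    exact Subgroup.mem_centralizer_iff.mp hc (π s) (Subgroup.mem_map_of_mem π hs)
  have hcenT : Subgroup.center (G ⧸ M) ≤ Subgroup.centralizer (T : Set (G ⧸ M)) := by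
    intro z hz
    rw [Subgroup.mem_centralizer_iff]
    intro t _
    exact (Subgroup.mem_center_iff.mp hz t)
  have hZS : ∀ z ∈ (S : Subgroup G) ⊓ Subgroup.centralizer ((S : Subgroup G) : Set G),
      π z ∈ T ⊓ Subgroup.centralizer (T : Set (G ⧸ M)) := by
    intro z hz
    have hz' := Subgroup.mem_inf.mp hz
    refine Subgroup.mem_inf.mpr ⟨Subgroup.mem_map_of_mem π hz'.1, ?_⟩
    rw [Subgroup.mem_centralizer_iff]
    rintro t ⟨s, hs, rfl⟩
    rw [← map_mul, ← map_mul, Subgroup.mem_centralizer_iff.mp hz'.2 s hs]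
  refine ⟨(S : Subgroup G) ⊓ (Subgroup.center (G ⧸ M)).comap π,
    (S : Subgroup G) ⊓ KH.comap π, ?_, ?_, ?_, ?_⟩
  · -- characterization
    intro x
    constructor
    · intro hx
      have hx' := Subgroup.mem_inf.mp hx
      refine ⟨hx'.1, ?_⟩
      intro g hg
      apply hinj _ hg _ hx'.1
      have hc : π x ∈ Subgroup.center (G ⧸ M) := hx'.2
      rw [map_mul, map_mul, map_inv]
      have h5 := Subgroup.mem_center_iff.mp hc (π g)
      calc π g * π x * (π g)⁻¹ = π x * π g * (π g)⁻¹ := by rw [h5]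
        _ = π x := by group
    · rintro ⟨hxS, hwc⟩
      refine Subgroup.mem_inf.mpr ⟨hxS, ?_⟩
      show π x ∈ Subgroup.center (G ⧸ M)
      have hxZ : x ∈ (S : Subgroup G) ⊓ Subgroup.centralizer ((S : Subgroup G) : Set G) := by
        refine Subgroup.mem_inf.mpr ⟨hxS, ?_⟩
        rw [Subgroup.mem_centralizer_iff]
        intro s hs
        have := hwc s (by
          have : s * x * s⁻¹ ∈ (S : Subgroup G) :=
            Subgroup.mul_mem _ (Subgroup.mul_mem _ hs hxS) (Subgroup.inv_mem _ hs)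
          exact this)
        calc s * x = (s * x * s⁻¹) * s := by group
          _ = x * s := by rw [this]
      have hπxZ := hZS x hxZ
      have hπxO : π x ∈ O := (Subgroup.mem_inf.mp (hZ hπxZ)).1
      rw [Subgroup.mem_center_iff]
      intro gbar
      obtain ⟨g, rfl⟩ := hπs gbar
      -- y = g x g⁻¹
      set y : G := g * x * g⁻¹ with hy
      have hπy : π y ∈ T := by
        apply hOT
        rw [hy, map_mul, map_mul, map_inv]
        exact (inferInstance : O.Normal).conj_mem _ hπxO _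
      obtain ⟨s, hs, hsy⟩ := hπy
      have hyL : y ∈ (S : Subgroup G) ⊔ M := by
        have h1 : π (s⁻¹ * y) = 1 := by rw [map_mul, map_inv, hsy, inv_mul_cancel]
        have h2 : s⁻¹ * y ∈ M := (hker _).mp h1
        have : y = s * (s⁻¹ * y) := by group
        rw [this]
        exact Subgroup.mul_mem_sup hs h2
      have hRp : IsPGroup p ↥((S : Subgroup G).map (MulAut.conj g).toMonoidHom) :=
        S.isPGroup'.map _
      have hyR : y ∈ (S : Subgroup G).map (MulAut.conj g).toMonoidHom :=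
        ⟨x, hxS, by simp [hy, MulAut.conj_apply]⟩
      obtain ⟨l, hlL, hl⟩ := Cfsg.Agent.Lib.Helper40.exists_conj_mem_sylow_of_le
        ((S : Subgroup G) ⊔ M) S le_sup_left y hyL _ hRp hyR
      have hlx : (l * g) * x * (l * g)⁻¹ = x := by
        apply hwc
        have : (l * g) * x * (l * g)⁻¹ = l * y * l⁻¹ := by rw [hy]; group
        rw [this]
        exact hl
      have hπl : π l ∈ T := by
        have : ((S : Subgroup G) ⊔ M).map π = T := by
          rw [Subgroup.map_sup]
          have : M.map π = ⊥ := by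
            rw [eq_bot_iff]
            rintro _ ⟨m, hm, rfl⟩
            rw [Subgroup.mem_bot]
            exact (hker m).mpr hm
          rw [this, sup_bot_eq]
        rw [← this]
        exact Subgroup.mem_map_of_mem π hlL
      have hcomm : π l * π x = π x * π l :=
        Subgroup.mem_centralizer_iff.mp (Subgroup.mem_inf.mp hπxZ).2 (π l) hπl
      have h3 : π (l * g) * π x * (π (l * g))⁻¹ = π x := by
        rw [← map_inv, ← map_mul, ← map_mul, hlx]
      rw [map_mul] at h3
      -- π g π x (π g)⁻¹ = (π l)⁻¹ π x π l = π x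
      have h4 : π g * π x * (π g)⁻¹ = π x := by
        have : π g * π x * (π g)⁻¹ = (π l)⁻¹ * (π l * π g * π x * (π l * π g)⁻¹) * π l := by group
        rw [this, h3]
        calc (π l)⁻¹ * π x * π l = (π l)⁻¹ * (π x * π l) := by group
          _ = (π l)⁻¹ * (π l * π x) := by rw [hcomm]
          _ = π x := by group
      calc π g * π x = (π g * π x * (π g)⁻¹) * π g := by group
        _ = π x * π g := by rw [h4]
  · -- K ≤ Z(S)
    intro x hx
    have hx' := Subgroup.mem_inf.mp hx
    have hxK : π x ∈ KH := hx'.2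
    exact Subgroup.mem_inf.mpr ⟨hx'.1, hcS x hx'.1 (Subgroup.mem_inf.mp (hK1 hxK)).2⟩
  · rw [eq_bot_iff]
    intro x hx
    rw [Subgroup.mem_bot]
    obtain ⟨hxW, hxK⟩ := Subgroup.mem_inf.mp hx
    have hxW' := Subgroup.mem_inf.mp hxW
    have hxK' := Subgroup.mem_inf.mp hxK
    have h1 : π x ∈ (T ⊓ Subgroup.center (G ⧸ M)) ⊓ KH :=
      Subgroup.mem_inf.mpr ⟨Subgroup.mem_inf.mpr ⟨Subgroup.mem_map_of_mem π hxW'.1, hxW'.2⟩, hxK'.2⟩
    rw [hK2, Subgroup.mem_bot] at h1
    have h2 : x ∈ (S : Subgroup G) ⊓ M := Subgroup.mem_inf.mpr ⟨hxW'.1, (hker x).mp h1⟩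
    rwa [hSM, Subgroup.mem_bot] at h2
  · apply le_antisymm
    · apply sup_le
      · intro x hx
        have hx' := Subgroup.mem_inf.mp hx
        exact Subgroup.mem_inf.mpr ⟨hx'.1, hcS x hx'.1 (hcenT hx'.2)⟩
      · intro x hx
        have hx' := Subgroup.mem_inf.mp hx
        have hxK : π x ∈ KH := hx'.2
        exact Subgroup.mem_inf.mpr ⟨hx'.1, hcS x hx'.1 (Subgroup.mem_inf.mp (hK1 hxK)).2⟩
    · intro z hz
      have hz' := Subgroup.mem_inf.mp hz
      obtain ⟨wbar, hwbar, kbar, hkbar, hzk⟩ := hK4 (π z) (hZS z hz)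
      have hwT : wbar ∈ T := (Subgroup.mem_inf.mp hwbar).1
      have hkT : kbar ∈ T := (Subgroup.mem_inf.mp (hK1 hkbar)).1
      obtain ⟨w, hw, rfl⟩ := hwT
      obtain ⟨k, hk, rfl⟩ := hkT
      have hzwk : z = w * k := by
        apply hinj _ hz'.1 _ (Subgroup.mul_mem _ hw hk)
        rw [map_mul]
        exact hzk
      rw [hzwk]
      apply Subgroup.mul_mem_sup
      · exact Subgroup.mem_inf.mpr ⟨hw, (Subgroup.mem_inf.mp hwbar).2⟩
      · exact Subgroup.mem_inf.mpr ⟨hk, hkbar⟩

end Cfsg.Agent.Lib.Helper15.WC
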