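import Mathlib
import Cfsg.Agent.S1985
import Cfsg.Agent.Lib.Helper40.Cores
import Cfsg.Agent.Lib.Helper15.WCSolv

/-!
# Weakly closed elements of a Sylow subgroup form a direct factor of its centre: odd `p`
-/

set_option autoImplicit false

namespace Cfsg.Agent.Lib.Helper15.WC

open Cfsg
open Cfsg.Agent.Lib.Helper40 (mem_map_conj_iff)

universe u

theorem good_conj {G : Type*} [Group G] (T W K : Subgroup G) (g : G) (h : Good T W K) :
    Good (T.map (MulAut.conj g).toMonoidHom) (W.map (MulAut.conj g).toMonoidHom)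
      (K.map (MulAut.conj g).toMonoidHom) := by
  obtain ⟨h1, h2, h3, h4⟩ := h
  have hcen : ∀ x : G, x ∈ T.map (MulAut.conj g).toMonoidHom ⊓
      Subgroup.centralizer ((T.map (MulAut.conj g).toMonoidHom : Subgroup G) : Set G) ↔
      g⁻¹ * x * g ∈ T ⊓ Subgroup.centralizer (T : Set G) := by
    intro x
    rw [Subgroup.mem_inf, Subgroup.mem_inf, mem_map_conj_iff]
    constructor
    · rintro ⟨hx, hc⟩
      refine ⟨hx, ?_⟩
      rw [Subgroup.mem_centralizer_iff]
      intro t ht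
      have ht' : g * t * g⁻¹ ∈ T.map (MulAut.conj g).toMonoidHom := by
        rw [mem_map_conj_iff]
        have : g⁻¹ * (g * t * g⁻¹) * g = t := by group
        rw [this]; exact ht
      have := Subgroup.mem_centralizer_iff.mp hc _ ht'
      calc t * (g⁻¹ * x * g) = g⁻¹ * ((g * t * g⁻¹) * x) * g := by group
        _ = g⁻¹ * (x * (g * t * g⁻¹)) * g := by rw [this]
        _ = g⁻¹ * x * g * t := by group
    · rintro ⟨hx, hc⟩
      refine ⟨hx, ?_⟩
      rw [Subgroup.mem_centralizer_iff]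
      intro t ht
      have ht' : g⁻¹ * t * g ∈ T := mem_map_conj_iff.mp ht
      have := Subgroup.mem_centralizer_iff.mp hc _ ht'
      calc t * x = g * ((g⁻¹ * t * g) * (g⁻¹ * x * g)) * g⁻¹ := by group
        _ = g * ((g⁻¹ * x * g) * (g⁻¹ * t * g)) * g⁻¹ := by rw [this]
        _ = x * t := by group
  refine ⟨?_, ?_, ?_, ?_⟩
  · intro x
    rw [mem_map_conj_iff, h1, mem_map_conj_iff]
    constructor
    · rintro ⟨hx, hwc⟩
      refine ⟨hx, ?_⟩
      intro h' hh'
      rw [mem_map_conj_iff] at hh'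
      have e : (g⁻¹ * h' * g) * (g⁻¹ * x * g) * (g⁻¹ * h' * g)⁻¹ = g⁻¹ * (h' * x * h'⁻¹) * g := by
        group
      have := hwc (g⁻¹ * h' * g) (by rw [e]; exact hh')
      rw [e] at this
      calc h' * x * h'⁻¹ = g * (g⁻¹ * (h' * x * h'⁻¹) * g) * g⁻¹ := by group
        _ = g * (g⁻¹ * x * g) * g⁻¹ := by rw [this]
        _ = x := by group
    · rintro ⟨hx, hwc⟩
      refine ⟨hx, ?_⟩
      intro h' hh'
      have e : (g * h' * g⁻¹) * x * (g * h' * g⁻¹)⁻¹ = g * (h' * (g⁻¹ * x * g) * h'⁻¹) * g⁻¹ := by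
        group
      have hm : (g * h' * g⁻¹) * x * (g * h' * g⁻¹)⁻¹ ∈ T.map (MulAut.conj g).toMonoidHom := by
        rw [mem_map_conj_iff, e]
        have : g⁻¹ * (g * (h' * (g⁻¹ * x * g) * h'⁻¹) * g⁻¹) * g = h' * (g⁻¹ * x * g) * h'⁻¹ := by
          group
        rw [this]; exact hh'
      have := hwc (g * h' * g⁻¹) hm
      rw [e] at this
      calc h' * (g⁻¹ * x * g) * h'⁻¹ = g⁻¹ * (g * (h' * (g⁻¹ * x * g) * h'⁻¹) * g⁻¹) * g := by group
        _ = g⁻¹ * x * g := by rw [this]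
  · intro x hx
    rw [hcen]
    exact h2 (mem_map_conj_iff.mp hx)
  · rw [← Subgroup.map_inf _ _ _ (MulAut.conj g).injective, h3, Subgroup.map_bot]
  · rw [← Subgroup.map_sup, h4]
    ext x
    rw [hcen, mem_map_conj_iff]

theorem odd_T {G : Type u} [Group G] [Finite G] {p : ℕ} [hp : Fact p.Prime]
    (T : Subgroup G) (hTp : IsPGroup p ↥T) (hTidx : ¬ p ∣ T.index)
    (hcen : T ⊓ Subgroup.centralizer (T : Set G) ≤ inducedFunctor kInfLower T)
    (hwc : ∀ x ∈ T ⊓ Subgroup.centralizer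
        (((⊤ : Subgroup G) ⊓ Subgroup.normalizer ((inducedFunctor kInfLower T : Subgroup G) : Set G) :
          Subgroup G) : Set G),
        ∀ h ∈ (⊤ : Subgroup G), h * x * h⁻¹ ∈ T → h * x * h⁻¹ = x) :
    ∃ W K : Subgroup G, Good T W K := by
  set Kf : Subgroup G := inducedFunctor kInfLower T with hKf
  set N : Subgroup G := Subgroup.normalizer (Kf : Set G) with hN
  have hKT : Kf ≤ T := Cfsg.Agent.Lib.Helper57.KInfWC.induced_le T
  have hTN : T ≤ N := by
    intro g hg
    apply Cfsg.Agent.Lib.Helper40.mem_normalizer_of_map_conj_eq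
    have h1 := (Cfsg.Agent.Lib.Helper57.KInfWC.isConjugacyFunctor_kInfLower (G := G) (p := p) T hTp).2.2 g
    have h2 : T.map (MulAut.conj g).toMonoidHom = T :=
      Cfsg.Agent.Lib.Helper40.map_conj_eq_of_mem_normalizer (Subgroup.le_normalizer hg)
    rw [h2] at h1
    exact h1.symm
  -- weakly closed ↔ central in N
  have hchar : ∀ x : G, (x ∈ T ∧ ∀ g : G, g * x * g⁻¹ ∈ T → g * x * g⁻¹ = x) ↔
      (x ∈ T ∧ ∀ n ∈ N, n * x = x * n) := by
    intro x
    constructor
    · rintro ⟨hxT, hw⟩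
      refine ⟨hxT, ?_⟩
      have hxZ : x ∈ T ⊓ Subgroup.centralizer (T : Set G) := by
        refine Subgroup.mem_inf.mpr ⟨hxT, ?_⟩
        rw [Subgroup.mem_centralizer_iff]
        intro t ht
        have := hw t (Subgroup.mul_mem _ (Subgroup.mul_mem _ ht hxT) (Subgroup.inv_mem _ ht))
        calc t * x = (t * x * t⁻¹) * t := by group
          _ = x * t := by rw [this]
      have hxK : x ∈ Kf := hcen hxZ
      intro n hn
      have h1 : n * x * n⁻¹ ∈ Kf := (Subgroup.mem_normalizer_iff.mp hn x).mp hxK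
      have := hw n (hKT h1)
      calc n * x = (n * x * n⁻¹) * n := by group
        _ = x * n := by rw [this]
    · rintro ⟨hxT, hc⟩
      refine ⟨hxT, ?_⟩
      intro g hg
      apply hwc x ?_ g (Subgroup.mem_top g) hg
      refine Subgroup.mem_inf.mpr ⟨hxT, ?_⟩
      rw [Subgroup.mem_centralizer_iff]
      intro n hn
      exact hc n (Subgroup.mem_inf.mp hn).2
  -- set-up in ↥N
  set TN : Subgroup ↥N := T.subgroupOf N with hTNdef
  set A0 : Subgroup G := Kf ⊓ Subgroup.centralizer (Kf : Set G) with hA0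
  have hA0N : A0 ≤ N := le_trans inf_le_left (le_trans hKT hTN)
  have hNA0 : N ≤ Subgroup.normalizer (A0 : Set G) := by
    apply Cfsg.Agent.Lib.Helper57.KInfWC.le_normalizer_of_forall
    intro n hn a ha
    have ha' := Subgroup.mem_inf.mp ha
    refine Subgroup.mem_inf.mpr ⟨(Subgroup.mem_normalizer_iff.mp hn a).mp ha'.1, ?_⟩
    rw [Subgroup.mem_centralizer_iff]
    intro k hk
    have hk' : n⁻¹ * k * n ∈ Kf := by
      have := (Subgroup.mem_normalizer_iff.mp (Subgroup.inv_mem _ hn) k).mp hk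
      simpa using this
    have := Subgroup.mem_centralizer_iff.mp ha'.2 _ hk'
    calc k * (n * a * n⁻¹) = n * ((n⁻¹ * k * n) * a) * n⁻¹ := by group
      _ = n * (a * (n⁻¹ * k * n)) * n⁻¹ := by rw [this]
      _ = n * a * n⁻¹ * k := by group
  set AN : Subgroup ↥N := A0.subgroupOf N with hANdef
  have hANn : AN.Normal := (Subgroup.normal_subgroupOf_iff_le_normalizer hA0N).mpr hNA0
  have hTNp : IsPGroup p ↥TN := hTp.comap_of_injective N.subtype N.subtype_injective
  have hTNidx : ¬ p ∣ TN.index := by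
    intro h
    apply hTidx
    have h1 : TN.index = T.relIndex N := rfl
    rw [h1] at h
    exact dvd_trans h (Subgroup.relIndex_dvd_index_of_le hTN)
  have hANT : AN ≤ TN := by
    intro a ha
    rw [hTNdef, Subgroup.mem_subgroupOf]
    rw [hANdef, Subgroup.mem_subgroupOf] at ha
    exact hKT (Subgroup.mem_inf.mp ha).1
  have hANc : ∀ a ∈ AN, ∀ b ∈ AN, a * b = b * a := by
    intro a ha b hb
    rw [hANdef, Subgroup.mem_subgroupOf] at ha hb
    apply Subtype.ext
    push_cast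
    exact Subgroup.mem_centralizer_iff.mp (Subgroup.mem_inf.mp hb).2 _ (Subgroup.mem_inf.mp ha).1
  have hZTN : ∀ z : ↥N, z ∈ TN ⊓ Subgroup.centralizer (TN : Set ↥N) ↔
      (z : G) ∈ T ⊓ Subgroup.centralizer (T : Set G) := by
    intro z
    rw [Subgroup.mem_inf, Subgroup.mem_inf, hTNdef, Subgroup.mem_subgroupOf]
    constructor
    · rintro ⟨hz, hc⟩
      refine ⟨hz, ?_⟩
      rw [Subgroup.mem_centralizer_iff]
      intro t ht
      have := Subgroup.mem_centralizer_iff.mp hc ⟨t, hTN ht⟩ (by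
        rw [SetLike.mem_coe, Subgroup.mem_subgroupOf]; exact ht)
      exact congrArg Subtype.val this
    · rintro ⟨hz, hc⟩
      refine ⟨hz, ?_⟩
      rw [Subgroup.mem_centralizer_iff]
      intro t ht
      rw [SetLike.mem_coe, Subgroup.mem_subgroupOf] at ht
      apply Subtype.ext
      push_cast
      exact Subgroup.mem_centralizer_iff.mp hc _ ht
  have hZ : TN ⊓ Subgroup.centralizer (TN : Set ↥N) ≤ AN := by
    intro z hz
    have hz' := (hZTN z).mp hz
    rw [hANdef, Subgroup.mem_subgroupOf]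
    refine Subgroup.mem_inf.mpr ⟨hcen hz', ?_⟩
    exact Subgroup.centralizer_le hKT (Subgroup.mem_inf.mp hz').2
  obtain ⟨KH, hK1, hK2, hK3, -⟩ := retract TN AN hTNp hTNidx hANT hANc hZ
  have hmapZ : (TN ⊓ Subgroup.centralizer (TN : Set ↥N)).map N.subtype =
      T ⊓ Subgroup.centralizer (T : Set G) := by
    ext x
    constructor
    · rintro ⟨z, hz, rfl⟩
      exact (hZTN z).mp hz
    · intro hx
      have hxN : x ∈ N := hTN (Subgroup.mem_inf.mp hx).1
      exact ⟨⟨x, hxN⟩, (hZTN ⟨x, hxN⟩).mpr hx, rfl⟩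
  refine ⟨(TN ⊓ Subgroup.center ↥N).map N.subtype, KH.map N.subtype, ?_, ?_, ?_, ?_⟩
  · intro x
    rw [hchar]
    constructor
    · rintro ⟨z, hz, rfl⟩
      have hz' := Subgroup.mem_inf.mp hz
      refine ⟨by simpa [hTNdef, Subgroup.mem_subgroupOf] using hz'.1, ?_⟩
      intro n hn
      have := Subgroup.mem_center_iff.mp hz'.2 ⟨n, hn⟩
      exact congrArg Subtype.val this
    · rintro ⟨hxT, hc⟩
      refine ⟨⟨x, hTN hxT⟩, Subgroup.mem_inf.mpr ⟨?_, ?_⟩, rfl⟩
      · rw [hTNdef, Subgroup.mem_subgroupOf]; exact hxT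
      · rw [Subgroup.mem_center_iff]
        intro n
        apply Subtype.ext
        push_cast
        exact hc n n.2
  · rw [← hmapZ]
    exact Subgroup.map_mono hK1
  · rw [← Subgroup.map_inf _ _ _ N.subtype_injective, hK2, Subgroup.map_bot]
  · rw [← Subgroup.map_sup, hK3, hmapZ]

theorem odd_case {G : Type u} [Group G] [Finite G] {p : ℕ} [hp : Fact p.Prime] (hp2 : p ≠ 2)
    (S : Sylow p G) : ∃ W K : Subgroup G, Good (S : Subgroup G) W K := by
  obtain ⟨hcen, T, -, hTp, hTidx, hwc⟩ := Cfsg.Agent.S1985.result (G := G) hp2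
  rw [Subgroup.relIndex_top_right] at hTidx
  obtain ⟨W, K, hWK⟩ := odd_T T hTp hTidx (hcen T hTp) hwc
  obtain ⟨g, hg⟩ := MulAction.exists_smul_eq G (hTp.toSylow hTidx) S
  have hST : (S : Subgroup G) = T.map (MulAut.conj g).toMonoidHom := by
    rw [← hg, Sylow.coe_subgroup_smul, IsPGroup.toSylow_coe]
    ext x
    rw [Subgroup.mem_pointwise_smul_iff_inv_smul_mem, mem_map_conj_iff]
    simp [MulAut.smul_def]
  rw [hST]
  exact ⟨_, _, good_conj T W K g hWK⟩

end Cfsg.Agent.Lib.Helper15.WC
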